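import Cfsg.Agent.LyT.GenB
import Cfsg.Agent.LyT.Eleven
import Cfsg.Agent.DC.OutGen

/-! Generators and relations in a group of Lyons type. -/

set_option autoImplicit false
set_option maxRecDepth 100000
set_option Elab.async false

namespace Cfsg.Lib.LyT

open Subgroup Equiv Cfsg.Lib.Spor Cfsg.Lib.Spor.Bulk Cfsg.Lib.Spor.PK Cfsg.Lib.Spor.WF Cfsg.Lib.DC
  Cfsg.Lib.Known

variable {G : Type*} [Group G]

theorem eq_of_inverted {z u v x : G} (hu : z * u * z * u = 1) (hv : z * v * z * v = 1)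
    (zx : Commute z x) (vx : Commute v x) (x2 : x * x ≠ 1)
    (h : u = v ∨ u = v * x ∨ u = v * x⁻¹) : u = v := by
  have key : ∀ y, Commute z y → Commute v y → z * (v * y) * z * (v * y) = 1 → y * y = 1 :=
    fun y a b c => by
      rw [← c, show z * (v * y) * z * (v * y) = z * v * (y * z) * v * y by group, ← a.eq,
        show z * v * (z * y) * v * y = z * v * z * (y * v) * y by group, ← b.eq,
        show z * v * z * (v * y) * y = z * v * z * v * (y * y) by group, hv, one_mul]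
  rcases h with h | rfl | rfl
  · exact h
  · exact absurd (key x zx vx hu) x2
  · exact absurd (by simpa using congrArg Inv.inv (key _ zx.inv_right vx.inv_right hu)) x2

/-- the letters of `2.A₁₁` together with `r` -/
structure T3 (g : ℕ → G) : Prop where
  sat : Sat g 10 iM R3
  hrel : ∀ W, hB W = true → wv g W = 1
  cent : centralizer {g 8} = gL g L9
  card : 2694384000 ≤ Nat.card (gL g L9)

namespace T3

variable {g : ℕ → G}

theorem inv (h : T3 g) : Sat g 13 iM [] := by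
  refine ⟨h.sat.zero, fun l hl => ?_, by simp⟩
  by_cases a : l < 10
  · exact h.sat.inv l a
  · refine eq_inv_of_mul_eq_one_left ?_
    simpa using h.hrel [l, iM l] ((by decide +kernel : ∀ l < 13, ¬ l < 10 →
      hB [l, iM l] = true) l hl a)

theorem eqH (h : T3 g) (A B : List ℕ) (a : (∀ l ∈ B, l < 13) ∧ hB (A ++ iw B) = true) :
    wv g A = wv g B := eq_of_iw h.inv a.1 (h.hrel _ a.2)

theorem x3 (h : T3 g) : g 8 ^ 3 = 1 := by
  simpa [pow_three'] using h.sat.rel [8, 8, 8] (by decide)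

theorem x1 (h : T3 g) : g 8 ≠ 1 := fun a => by
  have := h.card.trans (up_one h.sat a).2
  omega

theorem x2 (h : T3 g) : g 8 * g 8 ≠ 1 := fun a => h.x1 (by
  have := h.x3
  rwa [pow_three', a, one_mul] at this)

theorem comm (h : T3 g) {W : List ℕ} (hW : ∀ l ∈ W, l ∈ L9) : Commute (wv g W) (g 8) :=
  mem_centralizer_singleton_iff.1 (h.cent.ge (wv_mem _ fun l hl => mem_gL (hW l hl)))

theorem exists_rel (h : T3 g) : ∃ R : G → Perm (Fin 275) → Prop,
    (∀ {u v p q}, R u p → R v q → R (u * v) (p * q)) ∧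
    (∀ u, Commute u (g 8) → ∃ p ∈ sub P7.m L7, R u p) ∧
    (∀ W : List ℕ, (∀ l ∈ W, l ∈ L9) → R (wv g W) (wv P7.m W)) ∧
    (∀ {u v p q}, R u p → R v q → u = v → p = q) ∧
    (∀ {u v p}, R u p → R v p → u = v ∨ u = v * g 8 ∨ u = v * (g 8)⁻¹) ∧
    ¬ Group.IsSolvable (gL g L9) := by
  obtain ⟨φ, h1, h2⟩ := exists_hom_gL (up3 (h.sat.prod P7_sat)) h.card
  rw [gL_L9 P7_one] at h1
  have := (up3 h.sat).1
  have : Fact (Nat.Prime 3) := ⟨by norm_num⟩
  let x : gL g L9 := ⟨g 8, mem_gL (by decide)⟩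
  have ox : orderOf x = 3 :=
    orderOf_eq_prime (Subtype.ext h.x3) fun e => h.x1 (congrArg Subtype.val e)
  have hk : zpowers x = φ.ker := by
    refine eq_of_le_of_card_ge (zpowers_le.2 ?_) ?_
    · simpa [P7_one 8 le_rfl] using h2 [8] (by decide)
    · have a := φ.ker.card_mul_index
      rw [Subgroup.index_ker, h1, P7_card] at a
      have := (up3 h.sat).2
      rw [Nat.card_zpowers, ox]
      omega
  refine ⟨fun u p => ∃ hu, φ ⟨u, hu⟩ = p, ?_, fun u hu => ⟨_, h1.le ⟨⟨u, h.cent.le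
    (mem_centralizer_singleton_iff.2 hu)⟩, rfl⟩, _, rfl⟩, fun W hW => ⟨_, h2 W hW⟩, ?_, ?_,
    fun hs => model3.2.2.2 ?_⟩
  · rintro u v _ _ ⟨a, rfl⟩ ⟨b, rfl⟩
    exact ⟨mul_mem a b, φ.map_mul ⟨u, a⟩ ⟨v, b⟩⟩
  · rintro u v _ _ ⟨a, rfl⟩ ⟨b, rfl⟩ rfl
    rfl
  · rintro u v _ ⟨a, rfl⟩ ⟨b, e⟩
    have m : (⟨v, b⟩ : gL g L9)⁻¹ * ⟨u, a⟩ ∈ zpowers x := hk.ge (by
      rw [MonoidHom.mem_ker, map_mul, map_inv, inv_mul_eq_one]; exact e)
    classical
    rw [mem_zpowers_iff_mem_range_orderOf, ox] at m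
    obtain ⟨k, k3, e⟩ := Finset.mem_image.1 m
    replace e : u = v * g 8 ^ k := congrArg Subtype.val (eq_inv_mul_iff_mul_eq.1 e).symm
    rw [Finset.mem_range] at k3
    interval_cases k
    · exact Or.inl (by simpa using e)
    · exact Or.inr (Or.inl (by simpa using e))
    · refine Or.inr (Or.inr (e.trans (congrArg _ (eq_inv_of_mul_eq_one_left ?_))))
      rw [← pow_succ, h.x3]
  · have s : Group.IsSolvable φ.range := Group.isSolvable_of_surjective φ.rangeRestrict_surjective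
    rw [h1] at s
    have := P7_simple
    have m : ∀ l ∈ [1, 3], P7.m l ∈ sub P7.m L7 := fun l hl => by
      simpa using wv_mem_sub P7.m ((by decide : ∀ l ∈ [1, 3], [l] ∈ L7) l hl)
    simpa using congrArg Subtype.val (IsSimpleGroup.comm_iff_isSolvable.2 s
      ⟨_, m 3 (by decide)⟩ ⟨_, m 1 (by decide)⟩)

theorem l2 (h : T3 g) : wv g wl * wv g wl ≠ 1 := fun a => by
  obtain ⟨R, -, -, g2, g3, -⟩ := h.exists_rel
  exact model3.1 (g3 (g2 _ (by decide)) (g2 _ (by decide)) ((wv_append ..).trans a))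

theorem zz (h : T3 g) : wv g wz * wv g wz = 1 :=
  (wv_append ..).symm.trans (h.hrel (wz ++ wz) (by decide +kernel))

theorem sl (h : T3 g) : Commute (g 12) (wv g wl) := by
  obtain ⟨R, g0, g1, g2, g3, g4, -⟩ := h.exists_rel
  obtain ⟨l2, l3, la, lz, lh, -⟩ := rels3 h.sat
  have s1 := h.eqH [12, 12] [] (by decide +kernel)
  have s2 := h.eqH [12, 8, 12] w2 (by decide +kernel)
  have s3 := h.eqH ([12] ++ w3 ++ [12]) w3 (by decide +kernel)
  have s4 := h.eqH ([12] ++ wz ++ [12]) wz (by decide +kernel)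
  have s5 := h.eqH ([12] ++ wh ++ [12]) wh' (by decide +kernel)
  have s6 := h.eqH [1, 12, 1, 12, 1, 12] [] (by decide +kernel)
  have s7 := h.eqH (wh' ++ wh'.reverse) [] (by decide +kernel)
  have s8 : wv g wl.reverse = (wv g wl)⁻¹ := by
    rw [show wl.reverse = iw wl by decide +kernel, iw,
      wv_reverse_map_inv g fun l hl => h.sat.inv l ((by decide : ∀ l ∈ wl, l < 10) l hl)]
  simp only [wv_append, wv_cons, wv_nil, one_mul] at s1 s2 s3 s4 s5 s6 s7
  have lx := h.comm (W := wl) (by decide)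
  have zx := h.comm (W := wz) (by decide)
  have l0 := h.l2
  have zz := h.zz
  have r2 := g2 w2 (by decide)
  have r3 := g2 w3 (by decide)
  have rz := g2 wz (by decide)
  have rh := g2 wh' (by decide)
  have rh' := g2 wh'.reverse (by decide)
  have rl := g2 wl (by decide)
  have rl' := g2 wl.reverse (by decide)
  have r1 := g2 [] (by decide)
  rw [s8] at rl'
  rw [eq_inv_of_mul_eq_one_left s7] at rh'
  generalize wv g wl = l at *
  generalize wv g wz = z at *
  have si : (g 12)⁻¹ = g 12 := inv_eq_of_mul_eq_one_right s1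
  obtain ⟨θ, hθ⟩ : ∃ θ : G →* G, ∀ u, θ u = g 12 * (u * g 12) :=
    ⟨(MulAut.conj (g 12)).toMonoidHom, fun u => (mul_assoc ..).trans (by rw [si])⟩
  have θ2 : θ (g 8) = wv g w2 := by rw [hθ, ← mul_assoc, s2]
  have θ2' : θ (wv g w2) = g 8 := by
    rw [← θ2, hθ, hθ, ← mul_assoc, ← mul_assoc, s1, one_mul, mul_assoc, s1, mul_one]
  rw [← hθ] at s3 s4 s5
  have ux : Commute (θ l) (g 8) := θ2' ▸ l2.map θ
  have uz : z * θ l * z * θ l = 1 := by simpa only [map_mul, s4, map_one] using congrArg θ lz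
  obtain ⟨p, hp, r⟩ := g1 _ ux
  have rp := g0 (g0 rh r) rh'
  have e : θ l = l ∨ θ l = l⁻¹ := by
    refine (model2 hp (g3 (g0 r2 r) (g0 r r2) (θ2 ▸ (lx.map θ).symm.eq))
      (g3 (g0 r3 r) (g0 r r3) (s3 ▸ (l3.map θ).symm.eq)) (g3 (g0 (g0 (g0 rz r) rz) r) r1 uz)
      (g3 (g0 r rp) (g0 (g0 r2 rp) r) ?_)).imp (fun a => ?_) fun a => ?_
    · simpa only [map_mul, map_inv, s5, θ2] using congrArg θ lh
    · exact eq_of_inverted uz lz zx lx h.x2 (g4 r (a ▸ rl))
    · refine eq_of_inverted uz ?_ zx lx.inv_left h.x2 (g4 r (a ▸ rl'))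
      have zi : z⁻¹ = z := inv_eq_of_mul_eq_one_right zz
      have := congrArg (fun u => z * u⁻¹ * z) lz
      simpa [zi, mul_assoc, zz] using this
  rcases e with e | e
  · rw [hθ] at e
    rw [Commute, SemiconjBy, ← e, mul_assoc, mul_assoc, s1, mul_one, e]
  · have c1 : SemiconjBy (g 12 * g 1) l l⁻¹ := by
      refine SemiconjBy.mul_left ?_ la.symm
      rw [SemiconjBy, ← e, hθ, mul_assoc, mul_assoc, s1, mul_one]
    have c2 : SemiconjBy (g 12 * g 1) l⁻¹ l := by simpa using c1.inv_right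
    have c3 := ((c1.mul_left c2).mul_left c1).eq
    simp only [← mul_assoc] at c3
    rw [s6, one_mul, show l⁻¹ * g 12 * g 1 * g 12 * g 1 * g 12 * g 1 =
      l⁻¹ * (g 12 * g 1 * g 12 * g 1 * g 12 * g 1) by simp only [mul_assoc], s6, mul_one] at c3
    exact absurd (mul_eq_one_iff_eq_inv.2 c3) l0

theorem conj_r (h : T3 g) : g 10 * g 7 * g 11 = wv g [2, 7, 2] ∨
    g 10 * g 7 * g 11 = wv g (wz ++ [2, 7, 2] ++ wz) := by
  obtain ⟨R, g0, g1, g2, g3, g4, -⟩ := h.exists_rel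
  obtain ⟨-, -, -, -, -, r1, r3, ry, -⟩ := rels3 h.sat
  have o0 := h.eqH [11, 10] [] (by decide +kernel)
  have o1 := h.eqH [10, 1, 11] [3] (by decide +kernel)
  have o2 := h.eqH [10, 3, 11] [1] (by decide +kernel)
  have o3 := h.eqH [10, 2, 5, 11] [2, 5] (by decide +kernel)
  have o4 := h.eqH [11, 5, 3, 5, 10] [5, 1, 5] (by decide +kernel)
  have o5 := h.eqH [11, 1, 10] [3] (by decide +kernel)
  have o6 := h.eqH [11, 5, 2, 8, 10] ([5, 2] ++ [9]) (by decide +kernel)
  have o7 := h.eqH [10, 8, 11] [9] (by decide +kernel)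
  have o8 := h.eqH [11, 9, 10] [8] (by decide +kernel)
  have b2 : g 2 * g 2 = 1 := mul_eq_one_iff_eq_inv.2 (h.sat.inv 2 (by norm_num))
  have r2 : g 7 * g 7 = 1 := mul_eq_one_iff_eq_inv.2 (h.sat.inv 7 (by norm_num))
  have rx : Commute (g 7) (g 9) := by
    rw [show g 9 = _ from h.sat.inv 8 (by norm_num)]
    simpa using (h.comm (W := [7]) (by decide)).inv_right
  have oi : g 11 = (g 10)⁻¹ := h.inv.inv 10 (by norm_num)
  have c : ∀ {A B C : List ℕ} {u v : G}, wv g (10 :: (A ++ [11])) = u → g 7 * u * g 7 = v →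
      g 10 * v * g 11 = wv g C → g 10 * g 7 * g 11 * wv g A * (g 10 * g 7 * g 11) = wv g C :=
    fun a b c => by
      rw [← c, ← b, ← a, wv_cons, wv_append, wv_cons, wv_nil, one_mul]
      simp only [mul_assoc]
  have u2 : g 10 * g 7 * g 11 * (g 10 * g 7 * g 11) = 1 := by
    rw [oi, conj_mul, r2]; simp
  have ux : Commute (g 10 * g 7 * g 11) (g 8) := by
    have := c (A := [8]) (B := []) (C := [8]) o7 (v := g 9)
      (by rw [wv_cons, wv_nil, one_mul, rx.eq, mul_assoc, r2, mul_one])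
      (by simpa [mul_assoc] using o8)
    rw [wv_cons, wv_nil, one_mul] at this
    rw [Commute, SemiconjBy]
    nth_rewrite 2 [← this]
    rw [mul_assoc _ _ (_ * _), u2, mul_one]
  obtain ⟨p, hp, r⟩ := g1 _ ux
  have a3 := g3 (g0 (g0 r (g2 [2, 5] (by decide))) r) (g2 ([5, 2] ++ [9]) (by decide))
    (c (B := []) o3 (v := g 8 * (g 2 * g 5)) (by simpa using ry) (by simpa [mul_assoc] using o6))
  rw [wv_append, wv_cons (l := 9), P7_one 9 (by norm_num), wv_nil, one_mul, one_mul] at a3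
  have zz := h.zz
  refine (model1 hp (g3 (g0 r r) (g2 [] (by decide)) u2)
    (g3 (g0 (g0 r (g2 [1] (by decide))) r) (g2 _ (by decide)) (c (B := []) o1
      (v := g 5 * g 3 * g 5) (by simpa using r3) (by simpa [mul_assoc] using o4)))
    (g3 (g0 (g0 r (g2 [3] (by decide))) r) (g2 _ (by decide)) (c (B := []) o2
      (v := g 1) (by simpa using r1) (by simpa [mul_assoc] using o5))) a3).imp
    (fun a => ?_) fun a => ?_ <;>
  refine eq_of_inverted (z := 1) (by simpa using u2) ?_ (Commute.one_left _) (h.comm (by decide))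
    h.x2 (g4 r (a ▸ g2 _ (by decide)))
  · simp [mul_assoc, ← mul_assoc (g 2) (g 2), ← mul_assoc (g 7) (g 7), b2, r2]
  · simp [mul_assoc, ← mul_assoc (g 2) (g 2), ← mul_assoc (g 7) (g 7), b2, r2, zz,
      ← mul_assoc (wv g wz) (wv g wz)]

/-- exchange of `o` and `O` -/
def sw (l : ℕ) : ℕ := if l = 10 then 11 else if l = 11 then 10 else l

theorem sw_eq_1' : type_of% @sw.eq_1 := @sw.eq_1

theorem satRo (h : T3 g) {f : ℕ → ℕ} (hf : (∀ l < 10, f l = l) ∧ (∀ l < 13, f l < 13 ∧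
    f (iM l) = iM (f l)) ∧ ∀ r ∈ Ro, r = [11, 7, 10, 2, 7, 2] ∨ hB (r.map f) = true)
    (hr : g (f 10) * g 7 * g (f 11) = wv g [2, 7, 2]) : Sat (fun l => g (f l)) 13 iM (R3 ++ Ro) := by
  refine Sat.append ⟨by simp [hf.1 0, h.sat.zero], fun l hl => ?_, fun r a => ?_⟩ fun r a => ?_
  · rw [(hf.2.1 l hl).2, h.inv.inv _ (hf.2.1 l hl).1]
  · rw [← h.sat.rel r a]
    exact wv_congr fun l hl => by
      rw [hf.1 l ((by decide : ∀ r ∈ R3, ∀ l ∈ r, l < 10) r a l hl)]
  · rcases hf.2.2 r a with rfl | b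
    · have b2 : g 2 * g 2 = 1 := mul_eq_one_iff_eq_inv.2 (h.sat.inv 2 (by norm_num))
      have r2 : g 7 * g 7 = 1 := mul_eq_one_iff_eq_inv.2 (h.sat.inv 7 (by norm_num))
      simp only [wv_cons, wv_nil, one_mul, hf.1 2 (by norm_num), hf.1 7 (by norm_num)] at hr ⊢
      rw [mul_assoc, mul_assoc, ← mul_assoc (g (f 10)), hr]
      simp [mul_assoc, ← mul_assoc (g 2) (g 2), ← mul_assoc (g 7) (g 7), b2, r2]
    · rw [← h.hrel _ b]
      clear a b
      induction r with
      | nil => rfl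
      | cons l r ih => rw [List.map_cons, wv_cons, wv_cons, ih]

theorem satM (h : T3 g) : Sat g 13 iM (R3 ++ Ro) := by
  refine h.satRo (f := id) (by decide +kernel) (h.conj_r.resolve_right fun a => h.l2 ?_)
  have o0 := h.eqH [11] ([10] ++ wz) (by decide +kernel)
  have o1 := h.eqH [10] (wz ++ [11]) (by decide +kernel)
  have s0 := h.eqH [12, 12] [] (by decide +kernel)
  have s1 := h.eqH [12, 10, 12] [11] (by decide +kernel)
  have s2 := h.eqH [12, 1, 3, 12] [1, 3, 10] (by decide +kernel)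
  have s3 := h.eqH [3, 1, 1, 3] [] (by decide +kernel)
  rw [wv_append, wv_append] at a
  simp only [wv_append, wv_cons, wv_nil, one_mul] at o0 o1 s0 s1 s2 s3
  have zz := h.zz
  have e : g 11 * wv g wl * g 10 = wv g wl * (g 3 * g 1 * wv g wl * (g 1 * g 3)) := by
    have := relO ((h.satRo (f := sw) (by decide +kernel) (show g 11 * g 7 * g 10 = _ by
      rw [show g 11 * g 7 * g 10 = wv g wz * g 10 * g 7 * (g 11 * wv g wz) by rw [← o0, ← o1],
        show wv g wz * g 10 * g 7 * (g 11 * wv g wz) = wv g wz * (g 10 * g 7 * g 11) * wv g wz by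
          simp only [mul_assoc], a, ← mul_assoc, zz, one_mul, mul_assoc, zz, mul_one])).mono
      (by norm_num) fun _ a => a)
    rwa [show wv (fun l => g (sw l)) wl = wv g wl from wv_congr fun l hl => by
      rw [(by decide : ∀ l ∈ wl, sw l = l) l hl]] at this
  have sl := h.sl
  have oi : g 11 = (g 10)⁻¹ := h.inv.inv 10 (by norm_num)
  have di : g 1 * g 3 = (g 3 * g 1)⁻¹ := eq_inv_of_mul_eq_one_right (by rw [← mul_assoc, s3])
  have si : (g 12)⁻¹ = g 12 := inv_eq_of_mul_eq_one_right s0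
  rw [mul_assoc (g 12) (g 3), mul_assoc (g 10)] at s2
  rw [oi] at e s1
  rw [di] at e
  generalize wv g wl = l at *
  generalize g 3 * g 1 = d at *
  generalize g 10 = o at *
  have e' := congrArg (MulAut.conj (g 12)) e
  simp only [map_mul, map_inv] at e'
  simp only [MulAut.conj_apply, sl.mul_inv_cancel] at e'
  rw [si, s1, s2, inv_inv] at e'
  have f : l = o * l * o⁻¹ * (o * d * l * (o * d)⁻¹) := by
    calc l = o * (o⁻¹ * l * o) * o⁻¹ := by group
      _ = _ := by rw [e]; group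
  rw [e', mul_assoc, left_eq_mul, conj_mul] at f
  exact conj_eq_one_iff.1 f

theorem card_L11 (h : T3 g) [Finite G] : 5388768000 ≤ Nat.card (gL g L11) := by
  have a : gL g L9 ≤ gL g L11 := gL_le fun l hl => mem_gL ((by decide : ∀ l ∈ L9, l ∈ L11) l hl)
  obtain ⟨k, hk⟩ := card_dvd_of_le a
  have := h.card
  rcases k with _ | _ | k
  · exact absurd hk Nat.card_pos.ne'
  · have b := (eq_of_le_of_card_ge a (by omega)).ge (mem_gL (show 10 ∈ L11 by decide))
    rw [← h.cent, mem_centralizer_singleton_iff] at b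
    have c := h.hrel [11, 8, 10, 8] (by decide +kernel)
    simp only [wv_cons, wv_nil, one_mul, show g 11 = (g 10)⁻¹ from h.inv.inv 10 (by norm_num)] at c
    rw [mul_assoc (g 8), b, ← mul_assoc, mul_inv_cancel_right] at c
    exact absurd c h.x2
  · rw [hk]; nlinarith

theorem top (h : T3 g) [Finite G] (hz : ∀ u, Commute u (wv g wz) → u ∈ gL g LH)
    (hf : ∀ t v, Commute t (wv g wz) → t * t = 1 → t ≠ 1 → t ≠ wv g wz →
      Commute v (wv g wz) → v * v = 1 → v ≠ 1 → v ≠ wv g wz →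
        ∃ u, Commute u (wv g wz) ∧ u * t * u⁻¹ = v) : gL g (L11 ++ [12]) = ⊤ := by
  obtain ⟨R, -, -, g2, g3, -, g5⟩ := h.exists_rel
  obtain ⟨-, -, -, -, -, -, -, -, w⟩ := rels3 h.sat
  have t1 : wv g wt ≠ 1 := fun a => model3.2.1 (g3 (g2 _ (by decide)) (g2 _ (by decide)) a)
  have t2 : wv g wt ≠ wv g wz := fun a => model3.2.2.1 (g3 (g2 _ (by decide)) (g2 _ (by decide)) a)
  have tt : wv g wt * wv g wt = 1 :=
    (wv_append ..).symm.trans (h.hrel (wt ++ wt) (by decide +kernel))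
  have tz : Commute (wv g wt) (wv g wz) := by
    have := h.eqH (wz ++ wt) (wt ++ wz) (by decide +kernel)
    rwa [wv_append, wv_append] at this
  have h1 : ∀ u, Commute u (wv g wz) → u ∈ gL g (L11 ++ [12]) := fun u hu =>
    gL_le (fun l hl => mem_gL ((by decide : ∀ l ∈ LH, l ∈ L11 ++ [12]) l hl)) (hz u hu)
  have m : wv g [7, 2] ∈ gL g (L11 ++ [12]) := wv_mem _ fun l hl =>
    mem_gL ((by decide : ∀ l ∈ [7, 2], l ∈ L11 ++ [12]) l hl)
  generalize wv g [7, 2] = k at *
  refine eq_top_of_gen h.zz (fun a => t1 ?_) tt t1 t2 tz h1 (fun c hc => ?_)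
    (fun v => hf _ v tz tt t1 t2) fun hs => g5 ?_
  · rw [a, mul_one, right_eq_mul] at w
    exact w
  · have := h1 (k⁻¹ * c * k) (by
      rw [show wv g wz = k⁻¹ * wv g wt * k by rw [mul_assoc, ← w]; simp]
      simpa using hc.map (MulAut.conj k⁻¹))
    simpa [mul_assoc] using mul_mem (mul_mem m this) (inv_mem m)
  · exact Group.isSolvable_of_isSolvable_injective (f := inclusion (gL_le fun l hl => mem_gL
      ((by decide : ∀ l ∈ L9, l ∈ L11 ++ [12]) l hl))) (inclusion_injective _)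

end T3

theorem gL_congr {g g' : ℕ → G} {Ls : List ℕ} (h : ∀ l ∈ Ls, g l = g' l) : gL g Ls = gL g' Ls :=
  le_antisymm (gL_le fun l hl => h l hl ▸ mem_gL hl) (gL_le fun l hl => (h l hl).symm ▸ mem_gL hl)

theorem lyGen_of [Finite G] {z : G} {π : centralizer ({z} : Set G) →* Perm (Fin 11)} (hd : DC z π)
    {c : ℕ → G} (hc : Sat c 20 iC (Rc 9)) (hz : c 1 = z) (hf : ∀ u, Commute u z → u ∈ gL c (Lc 9))
    {g : ℕ → G} (hg : ∀ l ∈ [1, 2, 3, 4, 5, 6, 8], g l = gH c l)
    (hs : Sat g 10 iM (R8 ++ Rr ++ Rx)) (h1 : centralizer {g 8} = gL g L9)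
    (h2 : 2694384000 ≤ Nat.card (gL g L9)) : LyGen (upd (gH c) 7 (g 7)) := by
  have hr : ∀ W, hB W = true → wv (upd (gH c) 7 (g 7)) W = 1 := fun W hW => by
    rw [wv_upd _ _ fun a => absurd (hB_mem hW _ a) (by decide), hrel_of_sat hc hW]
  have e : ∀ l < 10, upd (gH c) 7 (g 7) l = g l := fun l hl => by
    rw [upd_apply]
    split_ifs with a
    · rw [a]
    by_cases b : l = 0
    · rw [b, hs.zero]; rfl
    by_cases b' : l = 9
    · rw [b', show g 9 = _ from hs.inv 8 (by norm_num), hg 8 (by decide)]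
      exact eq_inv_of_mul_eq_one_left
        (by simpa using hrel_of_sat hc (W := [8, 9]) (by decide +kernel))
    · exact (hg l (by simp; omega)).symm
  have e9 : gL (upd (gH c) 7 (g 7)) L9 = gL g L9 :=
    gL_congr fun l hl => e l ((by decide : ∀ l ∈ L9, l < 10) l hl)
  have s3 := sat3_of hs
  have h : T3 (upd (gH c) 7 (g 7)) := ⟨⟨rfl, fun l hl => by
      rw [e l hl, e _ ((by decide +kernel : ∀ l < 10, iM l < 10) l hl), s3.inv l hl], fun r a => by
      rw [← s3.rel r a]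
      exact wv_congr fun l hl => e l ((by decide : ∀ r ∈ R3, ∀ l ∈ r, l < 10) r a l hl)⟩, hr,
    by rw [e 8 (by norm_num), e9, h1], e9 ▸ h2⟩
  have ez : wv (upd (gH c) 7 (g 7)) wz = z := by
    have := crel hc (W := 1 :: wz.flatMap fun l => W11.getD l []) (by decide +kernel)
    rw [wv_cons, ← wv_gH, hz, mul_eq_one_iff_eq_inv, inv_eq_of_mul_eq_one_right hd.mul_self] at this
    rw [wv_upd _ _ (by decide), this]
  refine ⟨h.satM, hr, h.sl, h.card_L11, h.top (fun u hu => ?_) ?_⟩ <;> rw [ez] at *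
  · rw [gL_congr (g' := gH c) fun l hl => by
      rw [upd_apply, if_neg ((by decide : ∀ l ∈ LH, l ≠ 7) l hl)], gL_gH hc]
    exact hf u hu
  · intro t v t1 t2 t3 t4 v1 v2 v3 v4
    obtain ⟨u, hu⟩ := isConj_iff.1 (hd.isConj_of_card_lt (by simp)
      (t := ⟨t, mem_centralizer_singleton_iff.2 t1⟩) (t' := ⟨v, mem_centralizer_singleton_iff.2 v1⟩)
      t2 v2 t3 t4 v3 v4)
    exact ⟨u, mem_centralizer_singleton_iff.1 u.2, congrArg Subtype.val hu⟩

/-- exchange of the last two points -/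
def swC (l : ℕ) : ℕ := if 16 ≤ l ∧ l < 18 then l + 2 else if 18 ≤ l ∧ l < 20 then l - 2 else l

theorem swC_eq_1' : type_of% @swC.eq_1 := @swC.eq_1

theorem wv_comp (c : ℕ → G) (f : ℕ → ℕ) (W : List ℕ) : wv (fun l => c (f l)) W = wv c (W.map f) := by
  induction W with
  | nil => rfl
  | cons l r ih => rw [List.map_cons, wv_cons, wv_cons, ih]

theorem exists_lyGen [Finite G] [IsSimpleGroup G] {t : G} (ht : orderOf t = 2)
    (hG : IsNonsplitDoubleCover (centralizer ({t} : Set G)) (alternatingGroup (Fin 11))) :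
    ∃ g : ℕ → G, LyGen g := by
  obtain ⟨π, hd⟩ := exists_dc ht hG
  obtain ⟨c, hc⟩ := exists_carm (m := 9) hd.cov (Function.Embedding.refl _)
  obtain ⟨r, y, hy, a1, a2, a3⟩ := exists_m3 hd (hd.not_isolated (by simp)) (hc.l8' hd.pre) hc.im_x
    hc.cube_x
  have s : Sat (fun l => (c l : G)) 20 iC (Rc 9) := hc.sat.map (Subgroup.subtype _)
  have m : ∀ l, gH (fun l => (c l : G)) l = (gH c l :) := gH_map (Subgroup.subtype _) c
  have f : ∀ u, Commute u t → u ∈ gL (fun l => (c l : G)) (Lc 9) := fun u hu => by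
    have := gL_gH hc.sat ▸ hc.mem_gH hd.pre (fun x => ⟨x, rfl⟩)
      ⟨u, mem_centralizer_singleton_iff.2 hu⟩
    exact gL_le (K := (gL (fun l => (c l : G)) (Lc 9)).comap (Subgroup.subtype _))
      (fun l hl => mem_gL hl) this
  have k : ∀ l ∈ [1, 2, 3, 4, 5, 6], gM (fun l => ((kp [1, 2, 3, 4, 5, 6] (gH c) l :) : G)) r y l =
      gH (fun l => (c l : G)) l := fun l hl => by
    rw [gM_lt _ _ _ (by simp at hl; omega), upd_apply, if_neg (by simp at hl; omega), kp,
      if_pos hl, m]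
  have k8 : gM (fun l => ((kp [1, 2, 3, 4, 5, 6] (gH c) l :) : G)) r y 8 = y := rfl
  rw [← m] at hy a2
  generalize gM (fun l => ((kp [1, 2, 3, 4, 5, 6] (gH c) l :) : G)) r y = g at *
  have z1 : (c 1 : G) = t := congrArg Subtype.val hc.z
  change (fun l => (c l : G)) 1 = t at z1
  generalize (fun l => (c l : G)) = c' at *
  rcases hy with rfl | rfl
  · exact ⟨_, lyGen_of hd s z1 f (fun l hl => by
      by_cases b : l = 8
      · rw [b, k8]
      · exact k l (by simp at hl ⊢; omega)) a1 (k8 ▸ a2) a3⟩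
  have i : ∀ l ∈ Lc 9, swC l ∈ Lc 9 ∧ swC (swC l) = l := by decide +kernel
  refine ⟨_, lyGen_of (c := fun l => c' (swC l)) hd ⟨s.zero, fun l hl => ?_, fun r a => ?_⟩ z1
    (fun u hu => gL_le (fun l hl => ?_) (f u hu)) (fun l hl => ?_) a1 ?_ a3⟩
  · have := (by decide +kernel : ∀ l < 20, swC l < 20 ∧ swC (iC l) = iC (swC l)) l hl
    rw [this.2, s.inv _ this.1]
  · rw [wv_comp]
    exact crel s ((by decide +kernel : ∀ r ∈ Rc 9, cB (r.map swC) = true) r a)
  · rw [← (i l hl).2]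
    exact mem_gL (g := fun l => c' (swC l)) (i l hl).1
  · by_cases b : l = 8
    · rw [b, k8, gH, gH, wv_comp c' swC, eq_comm, eq_inv_iff_mul_eq_one, ← wv_append]
      exact crel s (by decide +kernel)
    · have a : l ∈ [1, 2, 3, 4, 5, 6] := by simp at hl ⊢; omega
      rw [k l a, gH, gH, wv_comp c' swC,
        (by decide +kernel : ∀ l ∈ [1, 2, 3, 4, 5, 6], (W11.getD l []).map swC = W11.getD l []) l a]
  · rw [k8, ← a2]
    ext u
    simp only [mem_centralizer_singleton_iff]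
    exact Commute.inv_right_iff

end Cfsg.Lib.LyT
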