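import Cfsg.Agent.LyT.M3Up
import Cfsg.Agent.LyT.StepW
import Cfsg.Agent.Spor.Co0Simple
import Cfsg.Agent.Spor.Co0Pres

/-! A subgroup isomorphic to the McLaughlin group. -/

set_option autoImplicit false
set_option maxRecDepth 100000
set_option Elab.async false

namespace Cfsg.Lib.LyT

open Subgroup Equiv Cfsg.Lib.Spor Cfsg.Lib.Spor.Bulk Cfsg.Lib.Spor.PK Cfsg.Lib.Spor.WF Cfsg.Lib.DC
  Cfsg.Lib.Known

variable {G : Type*} [Group G]

/-- the letters `a..f, r` as words -/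
def L7 : List (List ℕ) := [[1],[2],[3],[4],[5],[6],[7]]

theorem P7_sat : Sat P7.m 10 iM R3 := PM.sat P7_ok (by decide +kernel)

theorem PM.m_eq_one {M : PM} [NeZero M.n] {l : ℕ} (hl : M.cs.length ≤ l) : M.m l = 1 := by
  rw [PM.m, lf, List.getD_eq_default _ _ (by simpa using hl)]

theorem eq_one_of_emb {M : PM} [NeZero M.n] {g : ℕ → G} (h : Emb M.m g) {l : ℕ}
    (hl : M.cs.length ≤ l) : g l = 1 := by
  obtain ⟨H, hm, φ, -, e⟩ := h
  rw [← e, ← φ.map_one]
  exact congrArg φ (Subtype.ext (PM.m_eq_one hl))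

theorem gL_L9 {g : ℕ → G} (h : ∀ l, 8 ≤ l → g l = 1) : gL g L9 = sub g L7 := by
  refine le_antisymm (gL_le fun l hl => ?_) (sub_le fun W hW => wv_mem _ fun l hl =>
    mem_gL ((by decide : ∀ W ∈ L7, ∀ l ∈ W, l ∈ L9) W hW l hl))
  by_cases a : 8 ≤ l
  · rw [h l a]; exact one_mem _
  · simpa using wv_mem_sub g ((by decide : ∀ l ∈ L9, ¬ 8 ≤ l → [l] ∈ L7) l hl a)

theorem P7_one (l : ℕ) (hl : 8 ≤ l) : P7.m l = 1 := PM.m_eq_one hl

theorem P7_card : Nat.card (sub P7.m L7) = 898128000 :=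
  le_antisymm (gL_L9 P7_one ▸ (up_one P7_sat (P7_one 8 le_rfl)).2) P7_low

/-- generators for the presentation of the McLaughlin group -/
def Wm : List (List ℕ) := [[],[7,2],[2,7],[3,4,3,2,7,4],[4,7,2,3,4,3],[1,3,1,3],[1,2,7,3,6,7,6,4,7,4,6,7,6,3,1],[4,1,2,7,6,4,3,7,6,4,7,2,4],[2,3,6,7,4,6,2,5,2,7,4,6,7,6,3,7]]

theorem P7_equiv : Nonempty (CK.sMcL ≃* sub P7.m L7) := by
  obtain ⟨g, -, hg⟩ := CK.mclp_pres
  have e := eqs_of_emb P7_ok P7_subs ⟨⊤, fun _ => trivial, Subgroup.subtype _, subtype_injective _,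
    fun _ => rfl⟩ (E := ((List.range 9).map fun l => (Wm.getD (CK.mclp_i l) [] ++ Wm.getD l [], [])) ++
      CK.mclp_R.map fun r => (r.flatMap fun l => Wm.getD l [], [])) (by decide +kernel)
  obtain ⟨θ, hθ⟩ := hg.lift _ (fun l => wv P7.m (Wm.getD l [])) ⟨rfl, fun l hl =>
    eq_inv_of_mul_eq_one_right (by
      simpa using e _ (List.mem_append_left _ (List.mem_map_of_mem (List.mem_range.2 hl)))),
    fun r hr => (wv_flatMap _ _ _).symm.trans (e _ (List.mem_append_right _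
      (List.mem_map_of_mem hr)))⟩
  have := CK.isSimpleGroup_sMcL
  have hi : Function.Injective θ := (MonoidHom.ker_eq_bot_iff θ).1 <|
    (IsSimpleGroup.eq_bot_or_eq_top_of_normal θ.ker inferInstance).resolve_right fun h => by
      have a : θ (g 5) = 1 := h.ge (mem_top _)
      rw [hθ 5 (by norm_num)] at a
      exact (PM.dec_iff P7_ok P7_subs (.not (.eq [1, 3, 1, 3] []))).1 (by decide +kernel) a
  have hr : θ.range = sub P7.m L7 := by
    refine eq_of_le_of_card_ge ?_ ?_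
    · rw [MonoidHom.range_eq_map, ← hg.gen, MonoidHom.map_closure, closure_le]
      rintro _ ⟨_, ⟨l, hl, rfl⟩, rfl⟩
      rw [hθ l hl]
      exact wv_mem _ fun a ha => by
        simpa using wv_mem_sub P7.m ((by decide : ∀ l < 9, ∀ a ∈ Wm.getD l [], [a] ∈ L7) l hl a ha)
    · rw [P7_card, ← CK.card_sMcL, Nat.card_congr (θ.ofInjective hi).toEquiv]
  exact ⟨(θ.ofInjective hi).trans (MulEquiv.subgroupCongr hr)⟩

theorem P7_simple : IsSimpleGroup (sub P7.m L7) :=
  let ⟨e⟩ := P7_equiv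
  have := CK.isSimpleGroup_sMcL
  e.symm.isSimpleGroup

theorem wv_filter {g : ℕ → G} {k : ℕ} (h : ∀ l, k ≤ l → g l = 1) (W : List ℕ) :
    wv g (W.filter (· < k)) = wv g W := by
  induction W with
  | nil => rfl
  | cons a W ih =>
    by_cases ha : a < k
    · simp [ha, ih]
    · simp [ha, ih, h a (not_lt.1 ha)]

theorem sat3_of_one {g : ℕ → G} (hg : Sat g 8 iM (R8 ++ Rr0)) (h8 : ∀ l, 8 ≤ l → g l = 1) :
    Sat g 10 iM R3 := by
  refine sat3_of ⟨hg.zero, fun l hl => ?_, fun r hr => ?_⟩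
  · by_cases a : l < 8
    · exact hg.inv l a
    · rw [h8 l (by omega), h8 _ ((by decide +kernel : ∀ l < 10, ¬ l < 8 → 8 ≤ iM l) l hl a), inv_one]
  · rw [← wv_filter h8]
    rcases (by decide +kernel : ∀ r ∈ R8 ++ Rr ++ Rx, r.filter (· < 8) ∈ R8 ++ Rr0 ∨
      r.filter (· < 8) = [] ∨ ∃ l < 8, r.filter (· < 8) = [l, l]) r hr with a | a | ⟨l, hl, a⟩
    · exact hg.rel _ a
    · rw [a]; rfl
    · rw [a]; simpa using mul_self_of_sat hg l hl

theorem emb7 {g : ℕ → G} (hg : Sat g 10 iM R3) (h8 : ∀ l, 8 ≤ l → g l = 1) (h1 : g 1 ≠ 1) :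
    Emb P7.m g := by
  obtain ⟨φ, -, h2⟩ := exists_hom_gL (up_one (P7_sat.prod hg)
    (Prod.ext (P7_one 8 le_rfl) (h8 8 le_rfl))) (by rw [gL_L9 P7_one]; exact P7_low)
  have hs : IsSimpleGroup (gL P7.m L9) := gL_L9 P7_one ▸ P7_simple
  have hm : ∀ l, P7.m l ∈ gL P7.m L9 := fun l => by
    by_cases a : l ∈ L9
    · exact mem_gL a
    · rcases Nat.eq_zero_or_pos l with rfl | b
      · rw [P7_sat.zero]; exact one_mem _
      · rw [P7_one l (by simp [L9] at a; omega)]; exact one_mem _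
  have e : ∀ l, φ ⟨_, hm l⟩ = g l := fun l => by
    by_cases a : l ∈ L9
    · simpa using h2 [l] (by simpa using a)
    · rw [show (⟨_, hm l⟩ : gL P7.m L9) = 1 from Subtype.ext ?_, map_one] <;>
        rcases Nat.eq_zero_or_pos l with rfl | b
      exacts [hg.zero.symm, (h8 l (by simp [L9] at a; omega)).symm, P7_sat.zero,
        P7_one l (by simp [L9] at a; omega)]
  refine ⟨_, hm, φ, (MonoidHom.ker_eq_bot_iff φ).1 <|
    (IsSimpleGroup.eq_bot_or_eq_top_of_normal φ.ker inferInstance).resolve_right fun h => ?_, e⟩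
  exact h1 ((e 1).symm.trans (h.ge (mem_top _)))

theorem emb7_of_stepW [Finite G] {g : ℕ → G} (he : Emb P8.m g) {r : G}
    (h : Sat (upd g 7 r) 8 iM (R8 ++ Rr0)) : Emb P7.m (upd g 7 r) := by
  have h8 : ∀ l, 8 ≤ l → upd g 7 r l = 1 := fun l hl => by
    rw [upd_apply, if_neg (by omega), eq_one_of_emb he (by change 7 ≤ l; omega)]
  refine emb7 (sat3_of_one h h8) h8 ?_
  simpa [Fm.sem, upd_apply] using PM.holds P8_ok P8_subs he (p := .not (.eq [1] []))
    (by decide +kernel)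

/-- the image of a point under a word -/
def apW (T : ℕ → ℕ → ℕ) (W : List ℕ) (i : ℕ) : ℕ := W.foldl (fun i l => T l i) i

theorem apW_eq_1' : type_of% @apW.eq_1 := @apW.eq_1

theorem val_wv {n : ℕ} {s : ℕ → Perm (Fin n)} {T : ℕ → ℕ → ℕ} (h : ∀ l i, (s l i : ℕ) = T l i)
    (W : List ℕ) (i : Fin n) : (wv s W i : ℕ) = apW T W i := by
  induction W generalizing i with
  | nil => rfl
  | cons a W ih => rw [wv_cons, Perm.mul_apply, ih, h]; rfl

/-- tables of the permutations `s8` -/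
def T8 (l i : ℕ) : ℕ := ([[0,1,2,3,4,5,6,7],[4,5,6,7,0,1,2,3],[1,0,3,2,6,7,4,5],[4,5,7,6,0,1,3,2],[4,7,5,6,0,2,3,1],[6,7,3,2,5,4,0,1],[4,7,6,5,0,3,2,1]].getD l [0,1,2,3,4,5,6,7]).getD i 0

theorem s8_val (l : ℕ) : ∀ i, (s8 l i : ℕ) = T8 l i := by
  by_cases hl : l < 7
  · revert l; decide +kernel
  · unfold T8
    rw [s8, lf, List.getD_eq_default _ _ (by simpa using hl),
      List.getD_eq_default _ _ (by simpa using hl)]
    decide +kernel

theorem val_s8 (W : List ℕ) (i : Fin 8) : (wv s8 W i : ℕ) = apW T8 W i := val_wv s8_val W i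

theorem wt_ne (i : Fin 8) : wv s8 wt i ≠ i := fun a =>
  (by decide +kernel : ∀ i < 8, apW T8 wt i ≠ i) i i.2 (by rw [← val_s8, a])

section Perms

variable {Ω : Type*} [Fintype Ω] [DecidableEq Ω] {e : Fin 8 ↪ Ω} {σ : Perm Ω}

omit [Fintype Ω] [DecidableEq Ω] in
theorem mem_range_iff_of_comm {τ : Perm (Fin 8)} (hτ : ∀ i, τ i ≠ i) (h : Commute σ (via e τ))
    (x : Ω) : σ x ∈ Set.range e ↔ x ∈ Set.range e := by
  have key : ∀ x, x ∈ Set.range e ↔ via e τ x ≠ x := fun x => ⟨by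
    rintro ⟨i, rfl⟩; rw [via_apply]; exact e.injective.ne (hτ i),
    fun h => by_contra fun a => h (via_of_notMem e τ a)⟩
  rw [key, key, ← comm_apply h, σ.injective.ne_iff]

theorem card_compl_range (hn : Fintype.card Ω ≤ 10) :
    (Finset.univ.filter fun x => x ∉ Set.range e).card ≤ 2 := by
  have := Finset.card_filter_add_card_filter_not (s := Finset.univ) fun x => x ∈ Set.range e
  rw [show Finset.univ.filter (fun x => x ∈ Set.range e) = Finset.univ.map e by ext; simp,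
    Finset.card_map, Finset.card_univ, Finset.card_univ, Fintype.card_fin] at this
  omega

theorem mem_altOn_of_cube (hn : Fintype.card Ω ≤ 10) {τ : Perm (Fin 8)} (hτ : ∀ i, τ i ≠ i)
    (h : Commute σ (via e τ)) (hs : Perm.sign σ = 1) (h3 : σ ^ 3 = 1) :
    σ ∈ altOn (Set.range e) := by
  refine mem_altOn.2 ⟨hs, fun x hx => by_contra fun a => ?_⟩
  have h1 := card_tri (cube_apply h3) a
  have h2 : tri σ x ⊆ Finset.univ.filter fun x => x ∉ Set.range e := fun p hp => by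
    rcases mem_tri.1 hp with rfl | rfl | rfl <;>
      simp only [Finset.mem_filter, Finset.mem_univ, true_and, mem_range_iff_of_comm hτ h, hx,
        not_false_eq_true]
  have := (Finset.card_le_card h2).trans (card_compl_range hn)
  omega

theorem mem_altOn_of_regular (hn : Fintype.card Ω ≤ 10) {S : List (List ℕ)}
    (hS : (∃ U ∈ S, ∀ i < 8, apW T8 U i ≠ i) ∧ (∀ i < 8, ∃ U ∈ S, apW T8 U 0 = i) ∧
      ∀ U ∈ S, ∀ V ∈ S, apW T8 (U ++ V) 0 = apW T8 (V ++ U) 0)
    (h : ∀ U ∈ S, Commute σ (via e (wv s8 U))) (h' : ∀ U ∈ S, Perm.sign (wv s8 U) = 1)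
    (hs : Perm.sign σ = 1) : σ ∈ altOn (Set.range e) := by
  obtain ⟨⟨τ₀, h0, h0'⟩, h1, h2⟩ := hS
  obtain ⟨i, hi⟩ := (mem_range_iff_of_comm (fun i a => h0' i i.2 (by rw [← val_s8, a])) (h _ h0)
    (e 0)).2 ⟨0, rfl⟩
  replace h1 : ∀ i : Fin 8, ∃ U ∈ S, wv s8 U 0 = i := fun i =>
    let ⟨U, a, b⟩ := h1 i i.2
    ⟨U, a, Fin.ext ((val_s8 U 0).trans b)⟩
  obtain ⟨U, hτ, rfl⟩ := h1 i
  have a : ∀ j, ((via e (wv s8 U))⁻¹ * σ) (e j) = e j := fun j => by
    obtain ⟨V, hτ', rfl⟩ := h1 j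
    rw [Perm.mul_apply, Perm.inv_eq_iff_eq, ← via_apply, comm_apply (h _ hτ'), ← hi, via_apply,
      via_apply, via_apply, ← Perm.mul_apply, ← Perm.mul_apply (wv s8 U), ← wv_append, ← wv_append]
    exact congrArg e (Fin.ext ((val_s8 _ 0).trans ((h2 _ hτ _ hτ').trans (val_s8 _ 0).symm)))
  have hs' := h' _ hτ
  generalize wv s8 U = τ at *
  have b : ((via e τ)⁻¹ * σ).support.card ≤ 2 := (Finset.card_le_card fun x hx => by
    simp only [Finset.mem_filter, Finset.mem_univ, true_and]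
    rintro ⟨j, rfl⟩
    exact Perm.mem_support.1 hx (a j)).trans (card_compl_range (e := e) hn)
  have c : Perm.sign ((via e τ)⁻¹ * σ) = 1 := by simp [hs, sign_via, hs']
  have d : (via e τ)⁻¹ * σ = 1 := by
    rcases b.lt_or_eq with b | b
    · exact Perm.card_support_le_one.1 (by omega)
    · rw [(Perm.card_support_eq_two.1 b).sign_eq] at c
      exact absurd c (by decide)
  rw [← inv_mul_eq_one.1 d]
  exact via_mem_altOn e hs'

end Perms

section McL

variable {Ω : Type*} [Fintype Ω] [DecidableEq Ω] {z : G} {π : centralizer ({z} : Set G) →* Perm Ω}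
  {e : Fin 8 ↪ Ω} {g : ℕ → centralizer ({z} : Set G)}

theorem coe_wv {H : Subgroup G} (g : ℕ → H) (W : List ℕ) :
    wv (fun l => (g l : G)) W = (wv g W : H) := wv_map H.subtype g W

theorem L8.coe_emb (h : L8 (zc z) π e g) : Emb P8.m fun l => (g l : G) :=
  h.emb.map (Subgroup.subtype _) (subtype_injective _)

theorem L8.coe_z (h : L8 (zc z) π e g) : wv (fun l => (g l : G)) wz = z := by
  rw [coe_wv, wz, h.z]; rfl

theorem L8.coe_full (h : L8 (zc z) π e g) {x : centralizer ({z} : Set G)}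
    (hx : π x ∈ altOn (Set.range e)) : (x : G) ∈ sub (fun l => (g l : G)) L6 := by
  have := mem_map_of_mem (Subgroup.subtype _) (h.full x hx)
  rwa [sub_map] at this

theorem L8.exists_cycle (hd : DC z π) (hi : ¬ IsIsolatedInvolution z) (h : L8 (zc z) π e g) :
    ∃ k : G, k * z * k⁻¹ = wv (fun l => (g l : G)) wt ∧
      k * wv (fun l => (g l : G)) wt * k⁻¹ = wv (fun l => (g l : G)) wt * z := by
  obtain ⟨t, t1, t2, t3, -, t4⟩ := hd.card_of_not_isolated hi
  have a := PM.holds P8_ok P8_subs h.coe_emb (p := .and (.eq (wt ++ wt) [])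
    (.and (.not (.eq wt [])) (.not (.eq wt wz)))) (by decide +kernel)
  simp only [Fm.sem, wv_append, wv_nil, h.coe_z] at a
  simp only [coe_wv] at a ⊢
  obtain ⟨c, hc⟩ := isConj_iff.1 t2
  have := hd.isConj_of_card_lt (by omega) (t := t) (t' := wv g wt)
    (by rw [← hc, conj_mul, hd.mul_self]; simp) a.1
    (by rw [← hc]; simpa using hd.ne_one) t1 a.2.1 a.2.2
  exact hd.exists_cycle a.2.2 (t2.trans ((Subgroup.subtype _).map_isConj this))

theorem L8.exists_r [Finite G] (hd : DC z π) (hn : Fintype.card Ω ≤ 10)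
    (hi : ¬ IsIsolatedInvolution z) (h : L8 (zc z) π e g) :
    ∃ r, Emb P7.m (upd (fun l => (g l : G)) 7 r) := by
  obtain ⟨k, k1, k2⟩ := h.exists_cycle hd hi
  have im : ∀ {u : centralizer ({z} : Set G)} {W : List ℕ},
      Commute (u : G) (wv (fun l => (g l : G)) W) → Commute (π u) (via e (wv s8 W)) := fun a => by
    rw [coe_wv] at a
    rw [← h.im_wv]
    exact (Commute.of_map (subtype_injective _) a).map π
  have hE : ∀ Ws : List (List ℕ), ((∃ U ∈ Ws.sublists.map List.flatten, ∀ i < 8, apW T8 U i ≠ i) ∧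
      (∀ i < 8, ∃ U ∈ Ws.sublists.map List.flatten, apW T8 U 0 = i) ∧
      ∀ U ∈ Ws.sublists.map List.flatten, ∀ V ∈ Ws.sublists.map List.flatten,
        apW T8 (U ++ V) 0 = apW T8 (V ++ U) 0) →
      ∀ u, (∀ W ∈ wz :: Ws, Commute u (wv (fun l => (g l : G)) W)) →
        u ∈ sub (fun l => (g l : G)) L6 := fun Ws hS u hu => by
    have uz : u ∈ centralizer {z} := mem_centralizer_singleton_iff.2 (h.coe_z ▸ hu _ List.mem_cons_self)
    refine h.coe_full (x := ⟨u, uz⟩) (mem_altOn_of_regular hn hS (fun τ hτ => ?_)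
      (fun τ hτ => ?_) (hd.pre.sign_eq _)) <;> obtain ⟨U, hU, rfl⟩ := List.mem_map.1 hτ
    · exact im (Commute.symm (mem_centralizer_singleton_iff.1 (wv_flatten_mem (K := centralizer {u})
        fun W hW => mem_centralizer_singleton_iff.2
          (hu W (List.mem_cons_of_mem _ ((List.mem_sublists.1 hU).subset hW))).symm)))
    · rw [← sign_via e, ← h.im_wv, hd.pre.sign_eq]
  obtain ⟨r, hr⟩ := stepW h.coe_emb (k := k) (by rwa [h.coe_z]) (by rwa [h.coe_z])
    (fun u u3 uz ut => by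
      rw [h.coe_z] at uz
      have uz' : u ∈ centralizer {z} := mem_centralizer_singleton_iff.2 uz
      exact h.coe_full (x := ⟨u, uz'⟩) (mem_altOn_of_cube hn (τ := wv s8 wt) wt_ne
        (im ut) (hd.pre.sign_eq _) (by rw [← map_pow, show (⟨u, uz'⟩ : centralizer {z}) ^ 3 = 1
          from Subtype.ext u3, map_one])))
    (hE _ (by decide +kernel)) (hE _ (by decide +kernel))
  exact ⟨r, emb7_of_stepW h.coe_emb hr⟩

theorem exists_mcl [Finite G] (hd : DC z π) (hn : Fintype.card Ω ≤ 10)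
    (hi : ¬ IsIsolatedInvolution z) : ∃ (e : Fin 8 ↪ Ω) (g : ℕ → centralizer ({z} : Set G)) (r : G),
      L8 (zc z) π e g ∧ Emb P7.m (upd (fun l => (g l : G)) 7 r) := by
  obtain ⟨t, -, -, -, h8, -⟩ := hd.card_of_not_isolated hi
  obtain ⟨e⟩ := Function.Embedding.nonempty_of_card_le (α := Fin 8) (β := Ω) (by simpa using h8)
  obtain ⟨g, hg⟩ := exists_l8 hd.cov e
  obtain ⟨r, hr⟩ := hg.exists_r hd hn hi
  exact ⟨e, g, r, hg, hr⟩

end McL

end Cfsg.Lib.LyT
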