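import Cfsg.Agent.LyT.Defs

/-! Upper bounds for the order of groups satisfying Carmichael's relations. -/

set_option autoImplicit false
set_option maxRecDepth 100000
set_option Elab.async false

namespace Cfsg.Lib.LyT

open Subgroup Cfsg.Lib.Spor Cfsg.Lib.Spor.Bulk Cfsg.Lib.Spor.PK Cfsg.Lib.Spor.WF

/-- inversion of the letters `z = 1`, `X j = 2 j`, `(X j)⁻¹ = 2 j + 1` -/
def iC (l : ℕ) : ℕ := if l < 2 then l else if l % 2 = 0 then l + 1 else l - 1

/-- Carmichael's relators of the double cover of the alternating group of degree `m + 2` -/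
def Rc (m : ℕ) : List (List ℕ) := (List.range' 1 m).flatMap fun j =>
  [2 * j, 2 * j, 2 * j] :: [1, 2 * j, 1, 2 * j + 1] ::
    (List.range' 1 (j - 1)).map fun i => [2 * i, 2 * j, 2 * i, 2 * j, 1]

/-- the letters -/
def Lc (m : ℕ) : List ℕ := List.range' 1 (2 * m + 1)

noncomputable def cm0_C : SeqCert := ⟨nat_lit 1, nat_lit 9, nat_lit 2, nat_lit 0x1010000, (NT.leaf (nat_lit 0) (nat_lit 0x1800)), (NT.leaf (nat_lit 2) (nat_lit 0))⟩
noncomputable def cm0_U : List (List ℕ) := []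
noncomputable def cm0_HL : List ℕ := []
theorem cm0_head : cm0_C.head 2 iC (Rc 0) cm0_U cm0_HL 2 1 0 = true := by decide +kernel
theorem cm0_ok : cm0_C.StepsOK (2 + 0) 2 := SeqCert.StepsOK.refl _ _
noncomputable def cm0_r0 : List ℕ := [nat_lit 0xa, nat_lit 0xd]
theorem cm0_final : cm0_C.final 2 2 (nat_lit 0x3) 2 (Lc 0) (cm0_r0) = true := by decide +kernel
theorem cm0 {G : Type*} [Group G] {g : ℕ → G} {H : Subgroup G} (hg : Sat g 2 iC (Rc 0))
    (hU : ∀ u ∈ cm0_U, wv g u ∈ H) (hL : ∀ l ∈ cm0_HL, g l ∈ H) :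
    IdxLe H (Subgroup.closure {x | ∃ l ∈ Lc 0, g l = x}) 2 :=
  SeqCert.idxLe_of_final hg hU hL cm0_head cm0_ok cm0_final
theorem upC0 {G : Type*} [Group G] {g : ℕ → G} (hg : Sat g 2 iC (Rc 0)) :
    Finite (gL g (Lc 0)) ∧ Nat.card (gL g (Lc 0)) ≤ 2 :=
  ((cm0 (H := ⊥) hg forall_mem_nil' forall_mem_nil').card_le finite_card_bot).imp id fun h => h.trans (by norm_num)

noncomputable def cm1_C : SeqCert := ⟨nat_lit 2, nat_lit 9, nat_lit 4, nat_lit 0x203030201010000, (NT.leaf (nat_lit 0) (nat_lit 0x1a036015010038024000)), (NT.node (nat_lit 1) (NT.leaf (nat_lit 32772) (nat_lit 0x1030102)) (NT.node (nat_lit 2) (NT.leaf (nat_lit 1) (nat_lit 0x30303)) (NT.leaf (nat_lit 4) (nat_lit 0x1020103))))⟩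
noncomputable def cm1_U : List (List ℕ) := []
noncomputable def cm1_HL : List ℕ := Lc 0
theorem cm1_head : cm1_C.head 4 iC (Rc 1) cm1_U cm1_HL 3 2 1 = true := by decide +kernel
noncomputable def cm1_s0 : List ℕ := [nat_lit 0x100c050180808030100404060180c0003]
theorem cm1_ok0 : cm1_C.StepsOK 4 7 := (SeqCert.StepsOK.refl _ 4).step (L := cm1_s0) (by decide +kernel)
theorem cm1_ok : cm1_C.StepsOK (3 + 1) 7 := cm1_ok0
noncomputable def cm1_r0 : List ℕ := [nat_lit 0x12012060, nat_lit 0xc05c085, nat_lit 0x290280ca]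
theorem cm1_final : cm1_C.final 4 7 (nat_lit 0x7) 3 (Lc 1) (cm1_r0) = true := by decide +kernel
theorem cm1 {G : Type*} [Group G] {g : ℕ → G} {H : Subgroup G} (hg : Sat g 4 iC (Rc 1))
    (hU : ∀ u ∈ cm1_U, wv g u ∈ H) (hL : ∀ l ∈ cm1_HL, g l ∈ H) :
    IdxLe H (Subgroup.closure {x | ∃ l ∈ Lc 1, g l = x}) 3 :=
  SeqCert.idxLe_of_final hg hU hL cm1_head cm1_ok cm1_final
theorem upC1 {G : Type*} [Group G] {g : ℕ → G} (hg : Sat g 4 iC (Rc 1)) :
    Finite (gL g (Lc 1)) ∧ Nat.card (gL g (Lc 1)) ≤ 6 :=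
  ((cm1 hg forall_mem_nil' (forall_mem_gL g (Lc 0))).card_le
    (upC0 (hg.mono (by decide) (mem_of_subL (by decide +kernel))))).imp id fun h => h.trans (by norm_num)

noncomputable def cm2_C : SeqCert := ⟨nat_lit 2, nat_lit 9, nat_lit 6, nat_lit 0x40505040203030201010000, (NT.leaf (nat_lit 0) (nat_lit 0x5f01f03b03601a05601502001003d058044000)), (NT.node (nat_lit 3) (NT.node (nat_lit 1) (NT.leaf (nat_lit 32780) (nat_lit 0x1050104)) (NT.node (nat_lit 2) (NT.leaf (nat_lit 9) (nat_lit 0x50505)) (NT.leaf (nat_lit 12) (nat_lit 0x1040105)))) (NT.node (nat_lit 5) (NT.node (nat_lit 4) (NT.leaf (nat_lit 32785) (nat_lit 0x305030105)) (NT.leaf (nat_lit 1) (nat_lit 0x30303))) (NT.node (nat_lit 6) (NT.leaf (nat_lit 4) (nat_lit 0x1020103)) (NT.leaf (nat_lit 49169) (nat_lit 0x503010503)))))⟩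
noncomputable def cm2_U : List (List ℕ) := []
noncomputable def cm2_HL : List ℕ := Lc 1
theorem cm2_head : cm2_C.head 6 iC (Rc 2) cm2_U cm2_HL 4 2 2 = true := by decide +kernel
noncomputable def cm2_s0 : List ℕ := [nat_lit 0x30382014020180c0c0380c0a060900808040402c06040181010050180808030100404080180c0007]
theorem cm2_ok0 : cm2_C.StepsOK 6 13 := (SeqCert.StepsOK.refl _ 6).step (L := cm2_s0) (by decide +kernel)
theorem cm2_ok : cm2_C.StepsOK (4 + 2) 13 := cm2_ok0
noncomputable def cm2_r0 : List ℕ := [nat_lit 0x480482c050080, nat_lit 0x301f01b09c0c5, nat_lit 0xe40a0490ae10a, nat_lit 0x18c3385203a16f]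
theorem cm2_final : cm2_C.final 6 13 (nat_lit 0xf) 4 (Lc 2) (cm2_r0) = true := by decide +kernel
theorem cm2 {G : Type*} [Group G] {g : ℕ → G} {H : Subgroup G} (hg : Sat g 6 iC (Rc 2))
    (hU : ∀ u ∈ cm2_U, wv g u ∈ H) (hL : ∀ l ∈ cm2_HL, g l ∈ H) :
    IdxLe H (Subgroup.closure {x | ∃ l ∈ Lc 2, g l = x}) 4 :=
  SeqCert.idxLe_of_final hg hU hL cm2_head cm2_ok cm2_final
theorem upC2 {G : Type*} [Group G] {g : ℕ → G} (hg : Sat g 6 iC (Rc 2)) :
    Finite (gL g (Lc 2)) ∧ Nat.card (gL g (Lc 2)) ≤ 24 :=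
  ((cm2 hg forall_mem_nil' (forall_mem_gL g (Lc 1))).card_le
    (upC1 (hg.mono (by decide) (mem_of_subL (by decide +kernel))))).imp id fun h => h.trans (by norm_num)

noncomputable def cm3_C : SeqCert := ⟨nat_lit 3, nat_lit 9, nat_lit 8, nat_lit 0x6070706040505040203030201010000, (NT.leaf (nat_lit 0) (nat_lit 0x1e4039006405501db056c05b034c14a032805207280490400080010016103641d00620000)), (NT.node (nat_lit 6) (NT.node (nat_lit 3) (NT.node (nat_lit 1) (NT.leaf (nat_lit 32792) (nat_lit 0x1070106)) (NT.node (nat_lit 2) (NT.leaf (nat_lit 21) (nat_lit 0x70707)) (NT.leaf (nat_lit 24) (nat_lit 0x1060107)))) (NT.node (nat_lit 4) (NT.leaf (nat_lit 32797) (nat_lit 0x307030107)) (NT.node (nat_lit 5) (NT.leaf (nat_lit 32801) (nat_lit 0x507050107)) (NT.leaf (nat_lit 1) (nat_lit 0x30303))))) (NT.node (nat_lit 9) (NT.node (nat_lit 7) (NT.leaf (nat_lit 4) (nat_lit 0x1020103)) (NT.node (nat_lit 8) (NT.leaf (nat_lit 49169) (nat_lit 0x503010503)) (NT.leaf (nat_lit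 49181) (nat_lit 0x703010703)))) (NT.node (nat_lit 11) (NT.node (nat_lit 10) (NT.leaf (nat_lit 9) (nat_lit 0x50505)) (NT.leaf (nat_lit 12) (nat_lit 0x1040105))) (NT.node (nat_lit 12) (NT.leaf (nat_lit 32785) (nat_lit 0x305030105)) (NT.leaf (nat_lit 49185) (nat_lit 0x705010705))))))⟩
noncomputable def cm3_U : List (List ℕ) := []
noncomputable def cm3_HL : List ℕ := Lc 2
theorem cm3_head : cm3_C.head 8 iC (Rc 3) cm3_U cm3_HL 5 3 3 = true := by decide +kernel
noncomputable def cm3_s0 : List ℕ := [nat_lit 0x809050440406020201611010160808024060a04060040903048281a020200c180a0680807030400e03030182c0202810140f01810080405034060401810140501808080301004040a0180c000d]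
theorem cm3_ok0 : cm3_C.StepsOK 8 21 := (SeqCert.StepsOK.refl _ 8).step (L := cm3_s0) (by decide +kernel)
theorem cm3_ok : cm3_C.StepsOK (5 + 3) 21 := cm3_ok0
noncomputable def cm3_r0 : List ℕ := [nat_lit 0x1100883c0380340300280, nat_lit 0xc04d02206501985d0409, nat_lit 0x4881406088e05886d8512, nat_lit 0x8188587987d86901c871b, nat_lit 0xa20a608902489a09e0924]
theorem cm3_final : cm3_C.final 8 21 (nat_lit 0x1f) 5 (Lc 3) (cm3_r0) = true := by decide +kernel
theorem cm3 {G : Type*} [Group G] {g : ℕ → G} {H : Subgroup G} (hg : Sat g 8 iC (Rc 3))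
    (hU : ∀ u ∈ cm3_U, wv g u ∈ H) (hL : ∀ l ∈ cm3_HL, g l ∈ H) :
    IdxLe H (Subgroup.closure {x | ∃ l ∈ Lc 3, g l = x}) 5 :=
  SeqCert.idxLe_of_final hg hU hL cm3_head cm3_ok cm3_final
theorem upC3 {G : Type*} [Group G] {g : ℕ → G} (hg : Sat g 8 iC (Rc 3)) :
    Finite (gL g (Lc 3)) ∧ Nat.card (gL g (Lc 3)) ≤ 120 :=
  ((cm3 hg forall_mem_nil' (forall_mem_gL g (Lc 2))).card_le
    (upC2 (hg.mono (by decide) (mem_of_subL (by decide +kernel))))).imp id fun h => h.trans (by norm_num)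

noncomputable def cm4_C : SeqCert := ⟨nat_lit 3, nat_lit 9, nat_lit 10, nat_lit 0x809090806070706040505040203030201010000, (NT.leaf (nat_lit 0) (nat_lit 0x26d05b40ed01b41d509901e40390064055025b076c15b016c0d3072814a032805209280490600100020004007a416103642500820000)), (NT.node (nat_lit 10) (NT.node (nat_lit 5) (NT.node (nat_lit 2) (NT.node (nat_lit 1) (NT.leaf (nat_lit 32808) (nat_lit 0x1090108)) (NT.leaf (nat_lit 37) (nat_lit 0x90909))) (NT.node (nat_lit 3) (NT.leaf (nat_lit 40) (nat_lit 0x1080109)) (NT.node (nat_lit 4) (NT.leaf (nat_lit 32813) (nat_lit 0x309030109)) (NT.leaf (nat_lit 32817) (nat_lit 0x509050109))))) (NT.node (nat_lit 7) (NT.node (nat_lit 6) (NT.leaf (nat_lit 32821) (nat_lit 0x709070109)) (NT.leaf (nat_lit 1) (nat_lit 0x30303))) (NT.node (nat_lit 8) (NT.leaf (nat_lit 4) (nat_lit 0x1020103)) (NT.node (nat_lit 9) (NT.leaf (nat_lit 49169) (nat_lit 0x503010503)) (NT.leaf (nat_lit 49181) (nat_lit 0x703010703)))))) (NT.node (nat_lit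 15) (NT.node (nat_lit 12) (NT.node (nat_lit 11) (NT.leaf (nat_lit 49197) (nat_lit 0x903010903)) (NT.leaf (nat_lit 9) (nat_lit 0x50505))) (NT.node (nat_lit 13) (NT.leaf (nat_lit 12) (nat_lit 0x1040105)) (NT.node (nat_lit 14) (NT.leaf (nat_lit 32785) (nat_lit 0x305030105)) (NT.leaf (nat_lit 49185) (nat_lit 0x705010705))))) (NT.node (nat_lit 18) (NT.node (nat_lit 16) (NT.leaf (nat_lit 49201) (nat_lit 0x905010905)) (NT.node (nat_lit 17) (NT.leaf (nat_lit 21) (nat_lit 0x70707)) (NT.leaf (nat_lit 24) (nat_lit 0x1060107)))) (NT.node (nat_lit 19) (NT.leaf (nat_lit 32797) (nat_lit 0x307030107)) (NT.node (nat_lit 20) (NT.leaf (nat_lit 32801) (nat_lit 0x507050107)) (NT.leaf (nat_lit 49205) (nat_lit 0x907010907)))))))⟩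
noncomputable def cm4_U : List (List ℕ) := []
noncomputable def cm4_HL : List ℕ := Lc 3
theorem cm4_head : cm4_C.head 10 iC (Rc 4) cm4_U cm4_HL 6 3 4 = true := by decide +kernel
noncomputable def cm4_s0 : List ℕ := [nat_lit 0x14160c0d008140505038340204c14140d0d00812050501603088283c02080202c18150101e080f060540407020281a150101a080a024060c04070040b030583020020280c1e0c0800809030703020020200c140380c0e060d0080c040604c06040281018110181008040603c060401810180501808080301004040c0180c0015]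
theorem cm4_ok0 : cm4_C.StepsOK 10 31 := (SeqCert.StepsOK.refl _ 10).step (L := cm4_s0) (by decide +kernel)
theorem cm4_ok : cm4_C.StepsOK (6 + 4) 31 := cm4_ok0
noncomputable def cm4_r0 : List ℕ := [nat_lit 0x1100884c04804404003c0380300, nat_lit 0xc05d02a87d02207501986d0509, nat_lit 0x588140788d68708ae0688858612, nat_lit 0xa18a589989d89189588101c889b, nat_lit 0xca0ce0c20c60a90248ba0be0b24, nat_lit 0xf28f68d102c8ea8ee8e28e68dad]
theorem cm4_final : cm4_C.final 10 31 (nat_lit 0x3f) 6 (Lc 4) (cm4_r0) = true := by decide +kernel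
theorem cm4 {G : Type*} [Group G] {g : ℕ → G} {H : Subgroup G} (hg : Sat g 10 iC (Rc 4))
    (hU : ∀ u ∈ cm4_U, wv g u ∈ H) (hL : ∀ l ∈ cm4_HL, g l ∈ H) :
    IdxLe H (Subgroup.closure {x | ∃ l ∈ Lc 4, g l = x}) 6 :=
  SeqCert.idxLe_of_final hg hU hL cm4_head cm4_ok cm4_final
theorem upC4 {G : Type*} [Group G] {g : ℕ → G} (hg : Sat g 10 iC (Rc 4)) :
    Finite (gL g (Lc 4)) ∧ Nat.card (gL g (Lc 4)) ≤ 720 :=
  ((cm4 hg forall_mem_nil' (forall_mem_gL g (Lc 3))).card_le
    (upC3 (hg.mono (by decide) (mem_of_subL (by decide +kernel))))).imp id fun h => h.trans (by norm_num)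

noncomputable def cm5_C : SeqCert := ⟨nat_lit 3, nat_lit 9, nat_lit 12, nat_lit 0xa0b0b0a0809090806070706040505040203030201010000, (NT.leaf (nat_lit 0) (nat_lit 0x2f607d817603d807609582ed09b416d03b406d07542e409901e4039006405502db096c1db056c05b034c24a072814a03280520b2804908001800400080010027107a416103642d00a20000)), (NT.node (nat_lit 15) (NT.node (nat_lit 7) (NT.node (nat_lit 3) (NT.node (nat_lit 1) (NT.leaf (nat_lit 32828) (nat_lit 0x10b010a)) (NT.node (nat_lit 2) (NT.leaf (nat_lit 57) (nat_lit 0xb0b0b)) (NT.leaf (nat_lit 60) (nat_lit 0x10a010b)))) (NT.node (nat_lit 5) (NT.node (nat_lit 4) (NT.leaf (nat_lit 32833) (nat_lit 0x30b03010b)) (NT.leaf (nat_lit 32837) (nat_lit 0x50b05010b))) (NT.node (nat_lit 6) (NT.leaf (nat_lit 32841) (nat_lit 0x70b07010b)) (NT.leaf (nat_lit 32845) (nat_lit 0x90b09010b))))) (NT.node (nat_lit 11) (NT.node (nat_lit 9) (NT.node (nat_lit 8) (NT.leaf (nat_lit 1) (nat_lit 0x30303)) (NT.leaf (nat_lit 4) (nat_lit 0x1020103)))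 (NT.node (nat_lit 10) (NT.leaf (nat_lit 49169) (nat_lit 0x503010503)) (NT.leaf (nat_lit 49181) (nat_lit 0x703010703)))) (NT.node (nat_lit 13) (NT.node (nat_lit 12) (NT.leaf (nat_lit 49197) (nat_lit 0x903010903)) (NT.leaf (nat_lit 49217) (nat_lit 0xb03010b03))) (NT.node (nat_lit 14) (NT.leaf (nat_lit 9) (nat_lit 0x50505)) (NT.leaf (nat_lit 12) (nat_lit 0x1040105)))))) (NT.node (nat_lit 23) (NT.node (nat_lit 19) (NT.node (nat_lit 17) (NT.node (nat_lit 16) (NT.leaf (nat_lit 32785) (nat_lit 0x305030105)) (NT.leaf (nat_lit 49185) (nat_lit 0x705010705))) (NT.node (nat_lit 18) (NT.leaf (nat_lit 49201) (nat_lit 0x905010905)) (NT.leaf (nat_lit 49221) (nat_lit 0xb05010b05)))) (NT.node (nat_lit 21) (NT.node (nat_lit 20) (NT.leaf (nat_lit 21) (nat_lit 0x70707)) (NT.leaf (nat_lit 24) (nat_lit 0x1060107))) (NT.node (nat_lit 22) (NT.leaf (nat_lit 32797) (nat_lit 0x307030107)) (NT.leaf (nat_lit 32801) (nat_lit 0x507050107))))) (NT.node (nat_lit 27) (NT.node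 (nat_lit 25) (NT.node (nat_lit 24) (NT.leaf (nat_lit 49205) (nat_lit 0x907010907)) (NT.leaf (nat_lit 49225) (nat_lit 0xb07010b07))) (NT.node (nat_lit 26) (NT.leaf (nat_lit 37) (nat_lit 0x90909)) (NT.leaf (nat_lit 40) (nat_lit 0x1080109)))) (NT.node (nat_lit 29) (NT.node (nat_lit 28) (NT.leaf (nat_lit 32813) (nat_lit 0x309030109)) (NT.leaf (nat_lit 32817) (nat_lit 0x509050109))) (NT.node (nat_lit 30) (NT.leaf (nat_lit 32821) (nat_lit 0x709070109)) (NT.leaf (nat_lit 49229) (nat_lit 0xb09010b09)))))))⟩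
noncomputable def cm5_U : List (List ℕ) := []
noncomputable def cm5_HL : List ℕ := Lc 4
theorem cm5_head : cm5_C.head 12 iC (Rc 5) cm5_U cm5_HL 7 3 5 = true := by decide +kernel
noncomputable def cm5_s0 : List ℕ := [nat_lit 0x30341c250103c0c0c08894040e830302025010380c0c07894040d830300d01868182401064141a0e0f8081805090383e0205c1418100f80816050603c3e0205414180580c280a1100826080d070640409020481c19010220811070640408020301e190101e080c024060e04080040d030683826020300c240e098080b030883826020280c200e0980809030600e03040183c02038101c17018100c04070540604028101c13018100804070440604018101c0501808080301004040e0180c001f]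
theorem cm5_ok0 : cm5_C.StepsOK 12 43 := (SeqCert.StepsOK.refl _ 12).step (L := cm5_s0) (by decide +kernel)
theorem cm5_ok : cm5_C.StepsOK (7 + 5) 43 := cm5_ok0
noncomputable def cm5_r0 : List ℕ := [nat_lit 0x1100885c05805405004c0480440400380, nat_lit 0xc06d03309502a88d02208501987d0609, nat_lit 0x6881409092f0888fe8808ce07889d8712, nat_lit 0xc18c58b98bd8b18b58a98ad89901c8a1b, nat_lit 0xf20f60ea0ee0e20e60c90248da0de0d24, nat_lit 0x12292691a91e8f902c91291690a90e902d, nat_lit 0x15315712903494b14f14314713b13f1336]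
theorem cm5_final : cm5_C.final 12 43 (nat_lit 0x7f) 7 (Lc 5) (cm5_r0) = true := by decide +kernel
theorem cm5 {G : Type*} [Group G] {g : ℕ → G} {H : Subgroup G} (hg : Sat g 12 iC (Rc 5))
    (hU : ∀ u ∈ cm5_U, wv g u ∈ H) (hL : ∀ l ∈ cm5_HL, g l ∈ H) :
    IdxLe H (Subgroup.closure {x | ∃ l ∈ Lc 5, g l = x}) 7 :=
  SeqCert.idxLe_of_final hg hU hL cm5_head cm5_ok cm5_final
theorem upC5 {G : Type*} [Group G] {g : ℕ → G} (hg : Sat g 12 iC (Rc 5)) :
    Finite (gL g (Lc 5)) ∧ Nat.card (gL g (Lc 5)) ≤ 5040 :=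
  ((cm5 hg forall_mem_nil' (forall_mem_gL g (Lc 4))).card_le
    (upC4 (hg.mono (by decide) (mem_of_subL (by decide +kernel))))).imp id fun h => h.trans (by norm_num)

noncomputable def cm6_C : SeqCert := ⟨nat_lit 3, nat_lit 9, nat_lit 14, nat_lit 0xc0d0d0c0a0b0b0a0809090806070706040505040203030201010000, (NT.leaf (nat_lit 0) (nat_lit 0x37f09fc1ff05fc0ff01fc2d70dd82f607d817603d8076095836d0bb426d05b40ed01b41d50d902e409901e40390064055035b0b6c25b076c15b016c0d30b2824a072814a03280520d280490a00200060010002000400be427107a416103643500c20000)), (NT.node (nat_lit 21) (NT.node (nat_lit 10) (NT.node (nat_lit 5) (NT.node (nat_lit 2) (NT.node (nat_lit 1) (NT.leaf (nat_lit 32852) (nat_lit 0x10d010c)) (NT.leaf (nat_lit 81) (nat_lit 0xd0d0d))) (NT.node (nat_lit 3) (NT.leaf (nat_lit 84) (nat_lit 0x10c010d)) (NT.node (nat_lit 4) (NT.leaf (nat_lit 32857) (nat_lit 0x30d03010d)) (NT.leaf (nat_lit 32861) (nat_lit 0x50d05010d))))) (NT.node (nat_lit 7) (NT.node (nat_lit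 6) (NT.leaf (nat_lit 32865) (nat_lit 0x70d07010d)) (NT.leaf (nat_lit 32869) (nat_lit 0x90d09010d))) (NT.node (nat_lit 8) (NT.leaf (nat_lit 32873) (nat_lit 0xb0d0b010d)) (NT.node (nat_lit 9) (NT.leaf (nat_lit 1) (nat_lit 0x30303)) (NT.leaf (nat_lit 4) (nat_lit 0x1020103)))))) (NT.node (nat_lit 15) (NT.node (nat_lit 12) (NT.node (nat_lit 11) (NT.leaf (nat_lit 49169) (nat_lit 0x503010503)) (NT.leaf (nat_lit 49181) (nat_lit 0x703010703))) (NT.node (nat_lit 13) (NT.leaf (nat_lit 49197) (nat_lit 0x903010903)) (NT.node (nat_lit 14) (NT.leaf (nat_lit 49217) (nat_lit 0xb03010b03)) (NT.leaf (nat_lit 49241) (nat_lit 0xd03010d03))))) (NT.node (nat_lit 18) (NT.node (nat_lit 16) (NT.leaf (nat_lit 9) (nat_lit 0x50505)) (NT.node (nat_lit 17) (NT.leaf (nat_lit 12) (nat_lit 0x1040105)) (NT.leaf (nat_lit 32785) (nat_lit 0x305030105)))) (NT.node (nat_lit 19) (NT.leaf (nat_lit 49185) (nat_lit 0x705010705)) (NT.node (nat_lit 20) (NT.leaf (nat_lit 49201) (nat_lit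 0x905010905)) (NT.leaf (nat_lit 49221) (nat_lit 0xb05010b05))))))) (NT.node (nat_lit 32) (NT.node (nat_lit 26) (NT.node (nat_lit 23) (NT.node (nat_lit 22) (NT.leaf (nat_lit 49245) (nat_lit 0xd05010d05)) (NT.leaf (nat_lit 21) (nat_lit 0x70707))) (NT.node (nat_lit 24) (NT.leaf (nat_lit 24) (nat_lit 0x1060107)) (NT.node (nat_lit 25) (NT.leaf (nat_lit 32797) (nat_lit 0x307030107)) (NT.leaf (nat_lit 32801) (nat_lit 0x507050107))))) (NT.node (nat_lit 29) (NT.node (nat_lit 27) (NT.leaf (nat_lit 49205) (nat_lit 0x907010907)) (NT.node (nat_lit 28) (NT.leaf (nat_lit 49225) (nat_lit 0xb07010b07)) (NT.leaf (nat_lit 49249) (nat_lit 0xd07010d07)))) (NT.node (nat_lit 30) (NT.leaf (nat_lit 37) (nat_lit 0x90909)) (NT.node (nat_lit 31) (NT.leaf (nat_lit 40) (nat_lit 0x1080109)) (NT.leaf (nat_lit 32813) (nat_lit 0x309030109)))))) (NT.node (nat_lit 37) (NT.node (nat_lit 34) (NT.node (nat_lit 33) (NT.leaf (nat_lit 32817) (nat_lit 0x509050109)) (NT.leaf (nat_lit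 32821) (nat_lit 0x709070109))) (NT.node (nat_lit 35) (NT.leaf (nat_lit 49229) (nat_lit 0xb09010b09)) (NT.node (nat_lit 36) (NT.leaf (nat_lit 49253) (nat_lit 0xd09010d09)) (NT.leaf (nat_lit 57) (nat_lit 0xb0b0b))))) (NT.node (nat_lit 40) (NT.node (nat_lit 38) (NT.leaf (nat_lit 60) (nat_lit 0x10a010b)) (NT.node (nat_lit 39) (NT.leaf (nat_lit 32833) (nat_lit 0x30b03010b)) (NT.leaf (nat_lit 32837) (nat_lit 0x50b05010b)))) (NT.node (nat_lit 41) (NT.leaf (nat_lit 32841) (nat_lit 0x70b07010b)) (NT.node (nat_lit 42) (NT.leaf (nat_lit 32845) (nat_lit 0x90b09010b)) (NT.leaf (nat_lit 49257) (nat_lit 0xd0b010d0b))))))))⟩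
noncomputable def cm6_U : List (List ℕ) := []
noncomputable def cm6_HL : List ℕ := Lc 5
theorem cm6_head : cm6_C.head 14 iC (Rc 6) cm6_U cm6_HL 8 3 6 = true := by decide +kernel
noncomputable def cm6_s0 : List ℕ := [nat_lit 0x70784064020a81c1c141900829070704c64020a01c1c121900827070704464020981c1c0780c4a0e15008480c0f080ac041183054202b010440c0e098ac041083038242b010400c0e088ac040f830380d01878182801074141e10120081c050a840480206c142810120081a05070484802064141c1112008180507016030b8284c020b0203c201d0102a081508074040a02050201d01026081308074040902038221d01022080e024061004090040f03078402c020380c2a100b0080d030a0402c020300c26100b0080b03090402c020280c1c0380c12061100810040806c0604038102019018100c040805c06040281020150181008040804c06040181020050180808030100404100180c002b]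
theorem cm6_ok0 : cm6_C.StepsOK 14 57 := (SeqCert.StepsOK.refl _ 14).step (L := cm6_s0) (by decide +kernel)
theorem cm6_ok : cm6_C.StepsOK (8 + 6) 57 := cm6_ok0
noncomputable def cm6_r0 : List ℕ := [nat_lit 0x1100886c06806406005c05805405004c0480400, nat_lit 0xc07d03b8ad0330a502a89d02209501988d0709, nat_lit 0x788140a89978a095f0989268908ee0888b58812, nat_lit 0xe18e58d98dd8d18d58c98cd8c18c58b101c8b9b, nat_lit 0x11a11e11211610a10e1021060e90248fa0fe0f24, nat_lit 0x15295694a94e94294692102c93a93e93293692ad, nat_lit 0x18b18f18318715903497b17f17317716b16f1636, nat_lit 0x1c39c799103c9bb9bf9b39b79ab9af9a39a799bf]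
theorem cm6_final : cm6_C.final 14 57 (nat_lit 0xff) 8 (Lc 6) (cm6_r0) = true := by decide +kernel
theorem cm6 {G : Type*} [Group G] {g : ℕ → G} {H : Subgroup G} (hg : Sat g 14 iC (Rc 6))
    (hU : ∀ u ∈ cm6_U, wv g u ∈ H) (hL : ∀ l ∈ cm6_HL, g l ∈ H) :
    IdxLe H (Subgroup.closure {x | ∃ l ∈ Lc 6, g l = x}) 8 :=
  SeqCert.idxLe_of_final hg hU hL cm6_head cm6_ok cm6_final
theorem upC6 {G : Type*} [Group G] {g : ℕ → G} (hg : Sat g 14 iC (Rc 6)) :
    Finite (gL g (Lc 6)) ∧ Nat.card (gL g (Lc 6)) ≤ 40320 :=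
  ((cm6 hg forall_mem_nil' (forall_mem_gL g (Lc 5))).card_le
    (upC5 (hg.mono (by decide) (mem_of_subL (by decide +kernel))))).imp id fun h => h.trans (by norm_num)

noncomputable def cm7_C : SeqCert := ⟨nat_lit 4, nat_lit 9, nat_lit 16, nat_lit 0xe0f0f0e0c0d0d0c0a0b0b0a0809090806070706040505040203030201010000, (NT.leaf (nat_lit 0) (nat_lit 0xf880b88098807880588038801880d280f770d77097707770577037701770b270f660d660b66076605660366016609260f550d550b55095505550355015507250f440d440b44094407440344014405240f330d330b33093307330533013303230d120b12091207120512031201220f1201110c000a00080006000400020001000d810b7109610751054103310f200e100000)), (NT.node (nat_lit 28) (NT.node (nat_lit 14) (NT.node (nat_lit 7) (NT.node (nat_lit 3) (NT.node (nat_lit 1) (NT.leaf (nat_lit 32880) (nat_lit 0x10f010e)) (NT.node (nat_lit 2) (NT.leaf (nat_lit 109) (nat_lit 0xf0f0f)) (NT.leaf (nat_lit 112) (nat_lit 0x10e010f)))) (NT.node (nat_lit 5) (NT.node (nat_lit 4) (NT.leaf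 (nat_lit 32885) (nat_lit 0x30f03010f)) (NT.leaf (nat_lit 32889) (nat_lit 0x50f05010f))) (NT.node (nat_lit 6) (NT.leaf (nat_lit 32893) (nat_lit 0x70f07010f)) (NT.leaf (nat_lit 32897) (nat_lit 0x90f09010f))))) (NT.node (nat_lit 10) (NT.node (nat_lit 8) (NT.leaf (nat_lit 32901) (nat_lit 0xb0f0b010f)) (NT.node (nat_lit 9) (NT.leaf (nat_lit 32905) (nat_lit 0xd0f0d010f)) (NT.leaf (nat_lit 1) (nat_lit 0x30303)))) (NT.node (nat_lit 12) (NT.node (nat_lit 11) (NT.leaf (nat_lit 4) (nat_lit 0x1020103)) (NT.leaf (nat_lit 49169) (nat_lit 0x503010503))) (NT.node (nat_lit 13) (NT.leaf (nat_lit 49181) (nat_lit 0x703010703)) (NT.leaf (nat_lit 49197) (nat_lit 0x903010903)))))) (NT.node (nat_lit 21) (NT.node (nat_lit 17) (NT.node (nat_lit 15) (NT.leaf (nat_lit 49217) (nat_lit 0xb03010b03)) (NT.node (nat_lit 16) (NT.leaf (nat_lit 49241) (nat_lit 0xd03010d03)) (NT.leaf (nat_lit 49269) (nat_lit 0xf03010f03)))) (NT.node (nat_lit 19) (NT.node (nat_lit 18) (NT.leaf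 (nat_lit 9) (nat_lit 0x50505)) (NT.leaf (nat_lit 12) (nat_lit 0x1040105))) (NT.node (nat_lit 20) (NT.leaf (nat_lit 32785) (nat_lit 0x305030105)) (NT.leaf (nat_lit 49185) (nat_lit 0x705010705))))) (NT.node (nat_lit 24) (NT.node (nat_lit 22) (NT.leaf (nat_lit 49201) (nat_lit 0x905010905)) (NT.node (nat_lit 23) (NT.leaf (nat_lit 49221) (nat_lit 0xb05010b05)) (NT.leaf (nat_lit 49245) (nat_lit 0xd05010d05)))) (NT.node (nat_lit 26) (NT.node (nat_lit 25) (NT.leaf (nat_lit 49273) (nat_lit 0xf05010f05)) (NT.leaf (nat_lit 21) (nat_lit 0x70707))) (NT.node (nat_lit 27) (NT.leaf (nat_lit 24) (nat_lit 0x1060107)) (NT.leaf (nat_lit 32797) (nat_lit 0x307030107))))))) (NT.node (nat_lit 42) (NT.node (nat_lit 35) (NT.node (nat_lit 31) (NT.node (nat_lit 29) (NT.leaf (nat_lit 32801) (nat_lit 0x507050107)) (NT.node (nat_lit 30) (NT.leaf (nat_lit 49205) (nat_lit 0x907010907)) (NT.leaf (nat_lit 49225) (nat_lit 0xb07010b07)))) (NT.node (nat_lit 33) (NT.node (nat_lit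 32) (NT.leaf (nat_lit 49249) (nat_lit 0xd07010d07)) (NT.leaf (nat_lit 49277) (nat_lit 0xf07010f07))) (NT.node (nat_lit 34) (NT.leaf (nat_lit 37) (nat_lit 0x90909)) (NT.leaf (nat_lit 40) (nat_lit 0x1080109))))) (NT.node (nat_lit 38) (NT.node (nat_lit 36) (NT.leaf (nat_lit 32813) (nat_lit 0x309030109)) (NT.node (nat_lit 37) (NT.leaf (nat_lit 32817) (nat_lit 0x509050109)) (NT.leaf (nat_lit 32821) (nat_lit 0x709070109)))) (NT.node (nat_lit 40) (NT.node (nat_lit 39) (NT.leaf (nat_lit 49229) (nat_lit 0xb09010b09)) (NT.leaf (nat_lit 49253) (nat_lit 0xd09010d09))) (NT.node (nat_lit 41) (NT.leaf (nat_lit 49281) (nat_lit 0xf09010f09)) (NT.leaf (nat_lit 57) (nat_lit 0xb0b0b)))))) (NT.node (nat_lit 49) (NT.node (nat_lit 45) (NT.node (nat_lit 43) (NT.leaf (nat_lit 60) (nat_lit 0x10a010b)) (NT.node (nat_lit 44) (NT.leaf (nat_lit 32833) (nat_lit 0x30b03010b)) (NT.leaf (nat_lit 32837) (nat_lit 0x50b05010b)))) (NT.node (nat_lit 47) (NT.node (nat_lit 46) (NT.leaf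 (nat_lit 32841) (nat_lit 0x70b07010b)) (NT.leaf (nat_lit 32845) (nat_lit 0x90b09010b))) (NT.node (nat_lit 48) (NT.leaf (nat_lit 49257) (nat_lit 0xd0b010d0b)) (NT.leaf (nat_lit 49285) (nat_lit 0xf0b010f0b))))) (NT.node (nat_lit 53) (NT.node (nat_lit 51) (NT.node (nat_lit 50) (NT.leaf (nat_lit 81) (nat_lit 0xd0d0d)) (NT.leaf (nat_lit 84) (nat_lit 0x10c010d))) (NT.node (nat_lit 52) (NT.leaf (nat_lit 32857) (nat_lit 0x30d03010d)) (NT.leaf (nat_lit 32861) (nat_lit 0x50d05010d)))) (NT.node (nat_lit 55) (NT.node (nat_lit 54) (NT.leaf (nat_lit 32865) (nat_lit 0x70d07010d)) (NT.leaf (nat_lit 32869) (nat_lit 0x90d09010d))) (NT.node (nat_lit 56) (NT.leaf (nat_lit 32873) (nat_lit 0xb0d0b010d)) (NT.leaf (nat_lit 49289) (nat_lit 0xf0d010f0d))))))))⟩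
noncomputable def cm7_U : List (List ℕ) := []
noncomputable def cm7_HL : List ℕ := Lc 6
theorem cm7_head : cm7_C.head 16 iC (Rc 7) cm7_U cm7_HL 9 4 7 = true := by decide +kernel
noncomputable def cm7_s0 : List ℕ := [nat_lit 0x101109104041c040402e410106e10100b104041b040402a410106a10100a104041a0404026410106610100440632080c00431070884872020c01c30121c8082f070805872020b81c20151c8082d070805072020b01c20131c8082b070801e03150385c0214830442431010500c18090c404138305c24310104c0c100a8c40412830402831010480c10098c40411830400d01888182c010841422121480820050c048520207c142e12148081e050b0485202074142014148081c050804c520206c14200580c340a1500832081109084040c0206024210102e081709084040b0205824210102a081509084040a0204026210102608100240612040a00411030884832020400c30120c8080f030b84832020380c2c120c8080d030a84832020300c28120c8080b030800e03050184c0204810241f01810100409074060403810241b018100c040906406040281024170181008040905406040181024050180808030100404120180c0039]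
theorem cm7_ok0 : cm7_C.StepsOK 16 73 := (SeqCert.StepsOK.refl _ 16).step (L := cm7_s0) (by decide +kernel)
theorem cm7_ok : cm7_C.StepsOK (9 + 7) 73 := cm7_ok0
noncomputable def cm7_r0 : List ℕ := [nat_lit 0x1080421f00f007403801b00d006403001700b005402801200, nat_lit 0xc0464108189039c5e40c61690294564084149018c4e42011, nat_lit 0x8840a030141c0b84e6e2c131b0a84a6a28121a09846662422, nat_lit 0x100c8263e31f98f0c7a63a31d98e0c7263631b98c880e23433, nat_lit 0x1410a284e427a13109a84a425a121092842204891908e84444, nat_lit 0x1814c2a5e52fa9714baa5a52da94881625852ca9594aea5455, nat_lit 0x1c18e2c6e637b1b18dac6220689a98d6c68634b1998cec6466, nat_lit 0x201d02e7e73fb9c881e27c73eb9e9cf6e7873cb9d9ceee7477, nat_lit 0x2421230822088a3a11f08c846c22a117088844c21a10f08488]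
theorem cm7_final : cm7_C.final 16 73 (nat_lit 0x1ff) 9 (Lc 7) (cm7_r0) = true := by decide +kernel
theorem cm7 {G : Type*} [Group G] {g : ℕ → G} {H : Subgroup G} (hg : Sat g 16 iC (Rc 7))
    (hU : ∀ u ∈ cm7_U, wv g u ∈ H) (hL : ∀ l ∈ cm7_HL, g l ∈ H) :
    IdxLe H (Subgroup.closure {x | ∃ l ∈ Lc 7, g l = x}) 9 :=
  SeqCert.idxLe_of_final hg hU hL cm7_head cm7_ok cm7_final
theorem upC7 {G : Type*} [Group G] {g : ℕ → G} (hg : Sat g 16 iC (Rc 7)) :
    Finite (gL g (Lc 7)) ∧ Nat.card (gL g (Lc 7)) ≤ 362880 :=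
  ((cm7 hg forall_mem_nil' (forall_mem_gL g (Lc 6))).card_le
    (upC6 (hg.mono (by decide) (mem_of_subL (by decide +kernel))))).imp id fun h => h.trans (by norm_num)

noncomputable def cm8_C : SeqCert := ⟨nat_lit 4, nat_lit 9, nat_lit 18, nat_lit 0x101111100e0f0f0e0c0d0d0c0a0b0b0a0809090806070706040505040203030201010000, (NT.leaf (nat_lit 0) (nat_lit 0x11990d990b99099907990599039901990f2911880f880b88098807880588038801880d2811770f770d77097707770577037701770b2711660f660d660b660766056603660166092611550f550d550b550955055503550155072511440f440d440b440944074403440144052411330f330d330b33093307330533013303230f120d120b1209120712051203120122111201110e000c000a00080006000400020001000f910d810b710961075105410331112010100000)), (NT.node (nat_lit 36) (NT.node (nat_lit 18) (NT.node (nat_lit 9) (NT.node (nat_lit 4) (NT.node (nat_lit 2) (NT.node (nat_lit 1) (NT.leaf (nat_lit 32912) (nat_lit 0x1110110)) (NT.leaf (nat_lit 141) (nat_lit 0x111111))) (NT.node (nat_lit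 3) (NT.leaf (nat_lit 144) (nat_lit 0x1100111)) (NT.leaf (nat_lit 32917) (nat_lit 0x311030111)))) (NT.node (nat_lit 6) (NT.node (nat_lit 5) (NT.leaf (nat_lit 32921) (nat_lit 0x511050111)) (NT.leaf (nat_lit 32925) (nat_lit 0x711070111))) (NT.node (nat_lit 7) (NT.leaf (nat_lit 32929) (nat_lit 0x911090111)) (NT.node (nat_lit 8) (NT.leaf (nat_lit 32933) (nat_lit 0xb110b0111)) (NT.leaf (nat_lit 32937) (nat_lit 0xd110d0111)))))) (NT.node (nat_lit 13) (NT.node (nat_lit 11) (NT.node (nat_lit 10) (NT.leaf (nat_lit 32941) (nat_lit 0xf110f0111)) (NT.leaf (nat_lit 1) (nat_lit 0x30303))) (NT.node (nat_lit 12) (NT.leaf (nat_lit 4) (nat_lit 0x1020103)) (NT.leaf (nat_lit 49169) (nat_lit 0x503010503)))) (NT.node (nat_lit 15) (NT.node (nat_lit 14) (NT.leaf (nat_lit 49181) (nat_lit 0x703010703)) (NT.leaf (nat_lit 49197) (nat_lit 0x903010903))) (NT.node (nat_lit 16) (NT.leaf (nat_lit 49217) (nat_lit 0xb03010b03)) (NT.node (nat_lit 17) (NT.leaf (nat_lit 49241)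 (nat_lit 0xd03010d03)) (NT.leaf (nat_lit 49269) (nat_lit 0xf03010f03))))))) (NT.node (nat_lit 27) (NT.node (nat_lit 22) (NT.node (nat_lit 20) (NT.node (nat_lit 19) (NT.leaf (nat_lit 49301) (nat_lit 0x1103011103)) (NT.leaf (nat_lit 9) (nat_lit 0x50505))) (NT.node (nat_lit 21) (NT.leaf (nat_lit 12) (nat_lit 0x1040105)) (NT.leaf (nat_lit 32785) (nat_lit 0x305030105)))) (NT.node (nat_lit 24) (NT.node (nat_lit 23) (NT.leaf (nat_lit 49185) (nat_lit 0x705010705)) (NT.leaf (nat_lit 49201) (nat_lit 0x905010905))) (NT.node (nat_lit 25) (NT.leaf (nat_lit 49221) (nat_lit 0xb05010b05)) (NT.node (nat_lit 26) (NT.leaf (nat_lit 49245) (nat_lit 0xd05010d05)) (NT.leaf (nat_lit 49273) (nat_lit 0xf05010f05)))))) (NT.node (nat_lit 31) (NT.node (nat_lit 29) (NT.node (nat_lit 28) (NT.leaf (nat_lit 49305) (nat_lit 0x1105011105)) (NT.leaf (nat_lit 21) (nat_lit 0x70707))) (NT.node (nat_lit 30) (NT.leaf (nat_lit 24) (nat_lit 0x1060107)) (NT.leaf (nat_lit 32797) (nat_lit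 0x307030107)))) (NT.node (nat_lit 33) (NT.node (nat_lit 32) (NT.leaf (nat_lit 32801) (nat_lit 0x507050107)) (NT.leaf (nat_lit 49205) (nat_lit 0x907010907))) (NT.node (nat_lit 34) (NT.leaf (nat_lit 49225) (nat_lit 0xb07010b07)) (NT.node (nat_lit 35) (NT.leaf (nat_lit 49249) (nat_lit 0xd07010d07)) (NT.leaf (nat_lit 49277) (nat_lit 0xf07010f07)))))))) (NT.node (nat_lit 54) (NT.node (nat_lit 45) (NT.node (nat_lit 40) (NT.node (nat_lit 38) (NT.node (nat_lit 37) (NT.leaf (nat_lit 49309) (nat_lit 0x1107011107)) (NT.leaf (nat_lit 37) (nat_lit 0x90909))) (NT.node (nat_lit 39) (NT.leaf (nat_lit 40) (nat_lit 0x1080109)) (NT.leaf (nat_lit 32813) (nat_lit 0x309030109)))) (NT.node (nat_lit 42) (NT.node (nat_lit 41) (NT.leaf (nat_lit 32817) (nat_lit 0x509050109)) (NT.leaf (nat_lit 32821) (nat_lit 0x709070109))) (NT.node (nat_lit 43) (NT.leaf (nat_lit 49229) (nat_lit 0xb09010b09)) (NT.node (nat_lit 44) (NT.leaf (nat_lit 49253) (nat_lit 0xd09010d09)) (NT.leaf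 (nat_lit 49281) (nat_lit 0xf09010f09)))))) (NT.node (nat_lit 49) (NT.node (nat_lit 47) (NT.node (nat_lit 46) (NT.leaf (nat_lit 49313) (nat_lit 0x1109011109)) (NT.leaf (nat_lit 57) (nat_lit 0xb0b0b))) (NT.node (nat_lit 48) (NT.leaf (nat_lit 60) (nat_lit 0x10a010b)) (NT.leaf (nat_lit 32833) (nat_lit 0x30b03010b)))) (NT.node (nat_lit 51) (NT.node (nat_lit 50) (NT.leaf (nat_lit 32837) (nat_lit 0x50b05010b)) (NT.leaf (nat_lit 32841) (nat_lit 0x70b07010b))) (NT.node (nat_lit 52) (NT.leaf (nat_lit 32845) (nat_lit 0x90b09010b)) (NT.node (nat_lit 53) (NT.leaf (nat_lit 49257) (nat_lit 0xd0b010d0b)) (NT.leaf (nat_lit 49285) (nat_lit 0xf0b010f0b))))))) (NT.node (nat_lit 63) (NT.node (nat_lit 58) (NT.node (nat_lit 56) (NT.node (nat_lit 55) (NT.leaf (nat_lit 49317) (nat_lit 0x110b01110b)) (NT.leaf (nat_lit 81) (nat_lit 0xd0d0d))) (NT.node (nat_lit 57) (NT.leaf (nat_lit 84) (nat_lit 0x10c010d)) (NT.leaf (nat_lit 32857) (nat_lit 0x30d03010d)))) (NT.node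 (nat_lit 60) (NT.node (nat_lit 59) (NT.leaf (nat_lit 32861) (nat_lit 0x50d05010d)) (NT.leaf (nat_lit 32865) (nat_lit 0x70d07010d))) (NT.node (nat_lit 61) (NT.leaf (nat_lit 32869) (nat_lit 0x90d09010d)) (NT.node (nat_lit 62) (NT.leaf (nat_lit 32873) (nat_lit 0xb0d0b010d)) (NT.leaf (nat_lit 49289) (nat_lit 0xf0d010f0d)))))) (NT.node (nat_lit 68) (NT.node (nat_lit 65) (NT.node (nat_lit 64) (NT.leaf (nat_lit 49321) (nat_lit 0x110d01110d)) (NT.leaf (nat_lit 109) (nat_lit 0xf0f0f))) (NT.node (nat_lit 66) (NT.leaf (nat_lit 112) (nat_lit 0x10e010f)) (NT.node (nat_lit 67) (NT.leaf (nat_lit 32885) (nat_lit 0x30f03010f)) (NT.leaf (nat_lit 32889) (nat_lit 0x50f05010f))))) (NT.node (nat_lit 70) (NT.node (nat_lit 69) (NT.leaf (nat_lit 32893) (nat_lit 0x70f07010f)) (NT.leaf (nat_lit 32897) (nat_lit 0x90f09010f))) (NT.node (nat_lit 71) (NT.leaf (nat_lit 32901) (nat_lit 0xb0f0b010f)) (NT.node (nat_lit 72) (NT.leaf (nat_lit 32905) (nat_lit 0xd0f0d010f)) (NT.leaf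 (nat_lit 49325) (nat_lit 0x110f01110f)))))))))⟩
noncomputable def cm8_U : List (List ℕ) := []
noncomputable def cm8_HL : List ℕ := Lc 7
theorem cm8_head : cm8_C.head 18 iC (Rc 8) cm8_U cm8_HL 10 4 8 = true := by decide +kernel
noncomputable def cm8_s0 : List ℕ := [nat_lit 0x24261429008480909068a40211c24241929008460909060a40211424241729008440909058a40210c2424152900842090902603208486c02200404c28490107e101b0a124041f0404832490107a10120c124041e040482e490107610120b124041d040482a490107210120440638080d00437070985080020d81c36142000835070d05080020d01c24182000833070905c80020c81c24162000831070905480020c01c240780c5e0e190085c0c130a0dc04168306c2837010580c1a0a0dc0415830642837010540c120b8dc0414830482c37010500c120a8dc0413830480d018981830010941426141700824050d8505c0208c1434141700822050c8505c02084143014170082005090585c0207c142415170081e0509016030e8285c020e0204c282501036081b0a094040d0206828250103208190a094040c0206028250102e08170a094040b020482a250102a08120240614040b00413030985038020480c36140e00811030d05038020400c32140e0080f030c05038020380c2e140e0080d030b05038020300c240380c16061500814040a08c06040481028210181010040a07c060403810281d018100c040a06c06040281028190181008040a05c06040181028050180808030100404140180c0049]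
theorem cm8_ok0 : cm8_C.StepsOK 18 91 := (SeqCert.StepsOK.refl _ 18).step (L := cm8_s0) (by decide +kernel)
theorem cm8_ok : cm8_C.StepsOK (10 + 8) 91 := cm8_ok0
noncomputable def cm8_r0 : List ℕ := [nat_lit 0x4201088c044021010007c03c01d00e006c03401900c005c02c01400, nat_lit 0x3013904a46e41081a9039c6640c618902945e4084169018c5642411, nat_lit 0x2610280d854b234149c0c8502e30137b0b84baa2c125a0a847262822, nat_lit 0x483249918c8e6443229908c8664032098f8c7e63c31e98e080e23a33, nat_lit 0x5a42da1610b285642ba1510aa852429a1410a284a204893909e84c44, nat_lit 0x6c536a9a94d6a68534a9994cea64532a970816262531a9814c2a5e55, nat_lit 0x7e63fb1f18fac7a63db1e18f2c6e20689d98eec7463ab1c98e6c7066, nat_lit 0x90748ba39d1ee8c746ba0081e28a745ba21d12e86743ba11d0ae8277, nat_lit 0xa2851c2821430922088a7a13f09c84ec26a13709884cc25a12f09488, nat_lit 0xb495aca908262b2959cac25632ae957cab255b2aa955caa25532a699]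
theorem cm8_final : cm8_C.final 18 91 (nat_lit 0x3ff) 10 (Lc 8) (cm8_r0) = true := by decide +kernel
theorem cm8 {G : Type*} [Group G] {g : ℕ → G} {H : Subgroup G} (hg : Sat g 18 iC (Rc 8))
    (hU : ∀ u ∈ cm8_U, wv g u ∈ H) (hL : ∀ l ∈ cm8_HL, g l ∈ H) :
    IdxLe H (Subgroup.closure {x | ∃ l ∈ Lc 8, g l = x}) 10 :=
  SeqCert.idxLe_of_final hg hU hL cm8_head cm8_ok cm8_final
theorem upC8 {G : Type*} [Group G] {g : ℕ → G} (hg : Sat g 18 iC (Rc 8)) :
    Finite (gL g (Lc 8)) ∧ Nat.card (gL g (Lc 8)) ≤ 3628800 :=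
  ((cm8 hg forall_mem_nil' (forall_mem_gL g (Lc 7))).card_le
    (upC7 (hg.mono (by decide) (mem_of_subL (by decide +kernel))))).imp id fun h => h.trans (by norm_num)

noncomputable def cm9_C : SeqCert := ⟨nat_lit 4, nat_lit 9, nat_lit 20, nat_lit 0x12131312101111100e0f0f0e0c0d0d0c0a0b0b0a0809090806070706040505040203030201010000, (NT.leaf (nat_lit 0) (nat_lit 0x13aa0faa0daa0baa09aa07aa05aa03aa01aa112a139911990d990b99099907990599039901990f29138811880f880b88098807880588038801880d28137711770f770d77097707770577037701770b27136611660f660d660b6607660566036601660926135511550f550d550b5509550555035501550725134411440f440d440b4409440744034401440524133311330f330d330b330933073305330133032311120f120d120b12091207120512031201221312011110000e000c000a000800060004000200010011a10f910d810b710961075105410331132012100000)), (NT.node (nat_lit 45) (NT.node (nat_lit 22) (NT.node (nat_lit 11) (NT.node (nat_lit 5) (NT.node (nat_lit 2) (NT.node (nat_lit 1) (NT.leaf (nat_lit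 32948) (nat_lit 0x1130112)) (NT.leaf (nat_lit 177) (nat_lit 0x131313))) (NT.node (nat_lit 3) (NT.leaf (nat_lit 180) (nat_lit 0x1120113)) (NT.node (nat_lit 4) (NT.leaf (nat_lit 32953) (nat_lit 0x313030113)) (NT.leaf (nat_lit 32957) (nat_lit 0x513050113))))) (NT.node (nat_lit 8) (NT.node (nat_lit 6) (NT.leaf (nat_lit 32961) (nat_lit 0x713070113)) (NT.node (nat_lit 7) (NT.leaf (nat_lit 32965) (nat_lit 0x913090113)) (NT.leaf (nat_lit 32969) (nat_lit 0xb130b0113)))) (NT.node (nat_lit 9) (NT.leaf (nat_lit 32973) (nat_lit 0xd130d0113)) (NT.node (nat_lit 10) (NT.leaf (nat_lit 32977) (nat_lit 0xf130f0113)) (NT.leaf (nat_lit 32981) (nat_lit 0x1113110113)))))) (NT.node (nat_lit 16) (NT.node (nat_lit 13) (NT.node (nat_lit 12) (NT.leaf (nat_lit 1) (nat_lit 0x30303)) (NT.leaf (nat_lit 4) (nat_lit 0x1020103))) (NT.node (nat_lit 14) (NT.leaf (nat_lit 49169) (nat_lit 0x503010503)) (NT.node (nat_lit 15) (NT.leaf (nat_lit 49181) (nat_lit 0x703010703)) (NT.leaf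 (nat_lit 49197) (nat_lit 0x903010903))))) (NT.node (nat_lit 19) (NT.node (nat_lit 17) (NT.leaf (nat_lit 49217) (nat_lit 0xb03010b03)) (NT.node (nat_lit 18) (NT.leaf (nat_lit 49241) (nat_lit 0xd03010d03)) (NT.leaf (nat_lit 49269) (nat_lit 0xf03010f03)))) (NT.node (nat_lit 20) (NT.leaf (nat_lit 49301) (nat_lit 0x1103011103)) (NT.node (nat_lit 21) (NT.leaf (nat_lit 49337) (nat_lit 0x1303011303)) (NT.leaf (nat_lit 9) (nat_lit 0x50505))))))) (NT.node (nat_lit 33) (NT.node (nat_lit 27) (NT.node (nat_lit 24) (NT.node (nat_lit 23) (NT.leaf (nat_lit 12) (nat_lit 0x1040105)) (NT.leaf (nat_lit 32785) (nat_lit 0x305030105))) (NT.node (nat_lit 25) (NT.leaf (nat_lit 49185) (nat_lit 0x705010705)) (NT.node (nat_lit 26) (NT.leaf (nat_lit 49201) (nat_lit 0x905010905)) (NT.leaf (nat_lit 49221) (nat_lit 0xb05010b05))))) (NT.node (nat_lit 30) (NT.node (nat_lit 28) (NT.leaf (nat_lit 49245) (nat_lit 0xd05010d05)) (NT.node (nat_lit 29) (NT.leaf (nat_lit 49273) (nat_lit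 0xf05010f05)) (NT.leaf (nat_lit 49305) (nat_lit 0x1105011105)))) (NT.node (nat_lit 31) (NT.leaf (nat_lit 49341) (nat_lit 0x1305011305)) (NT.node (nat_lit 32) (NT.leaf (nat_lit 21) (nat_lit 0x70707)) (NT.leaf (nat_lit 24) (nat_lit 0x1060107)))))) (NT.node (nat_lit 39) (NT.node (nat_lit 36) (NT.node (nat_lit 34) (NT.leaf (nat_lit 32797) (nat_lit 0x307030107)) (NT.node (nat_lit 35) (NT.leaf (nat_lit 32801) (nat_lit 0x507050107)) (NT.leaf (nat_lit 49205) (nat_lit 0x907010907)))) (NT.node (nat_lit 37) (NT.leaf (nat_lit 49225) (nat_lit 0xb07010b07)) (NT.node (nat_lit 38) (NT.leaf (nat_lit 49249) (nat_lit 0xd07010d07)) (NT.leaf (nat_lit 49277) (nat_lit 0xf07010f07))))) (NT.node (nat_lit 42) (NT.node (nat_lit 40) (NT.leaf (nat_lit 49309) (nat_lit 0x1107011107)) (NT.node (nat_lit 41) (NT.leaf (nat_lit 49345) (nat_lit 0x1307011307)) (NT.leaf (nat_lit 37) (nat_lit 0x90909)))) (NT.node (nat_lit 43) (NT.leaf (nat_lit 40) (nat_lit 0x1080109)) (NT.node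 (nat_lit 44) (NT.leaf (nat_lit 32813) (nat_lit 0x309030109)) (NT.leaf (nat_lit 32817) (nat_lit 0x509050109)))))))) (NT.node (nat_lit 68) (NT.node (nat_lit 56) (NT.node (nat_lit 50) (NT.node (nat_lit 47) (NT.node (nat_lit 46) (NT.leaf (nat_lit 32821) (nat_lit 0x709070109)) (NT.leaf (nat_lit 49229) (nat_lit 0xb09010b09))) (NT.node (nat_lit 48) (NT.leaf (nat_lit 49253) (nat_lit 0xd09010d09)) (NT.node (nat_lit 49) (NT.leaf (nat_lit 49281) (nat_lit 0xf09010f09)) (NT.leaf (nat_lit 49313) (nat_lit 0x1109011109))))) (NT.node (nat_lit 53) (NT.node (nat_lit 51) (NT.leaf (nat_lit 49349) (nat_lit 0x1309011309)) (NT.node (nat_lit 52) (NT.leaf (nat_lit 57) (nat_lit 0xb0b0b)) (NT.leaf (nat_lit 60) (nat_lit 0x10a010b)))) (NT.node (nat_lit 54) (NT.leaf (nat_lit 32833) (nat_lit 0x30b03010b)) (NT.node (nat_lit 55) (NT.leaf (nat_lit 32837) (nat_lit 0x50b05010b)) (NT.leaf (nat_lit 32841) (nat_lit 0x70b07010b)))))) (NT.node (nat_lit 62) (NT.node (nat_lit 59) (NT.node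 (nat_lit 57) (NT.leaf (nat_lit 32845) (nat_lit 0x90b09010b)) (NT.node (nat_lit 58) (NT.leaf (nat_lit 49257) (nat_lit 0xd0b010d0b)) (NT.leaf (nat_lit 49285) (nat_lit 0xf0b010f0b)))) (NT.node (nat_lit 60) (NT.leaf (nat_lit 49317) (nat_lit 0x110b01110b)) (NT.node (nat_lit 61) (NT.leaf (nat_lit 49353) (nat_lit 0x130b01130b)) (NT.leaf (nat_lit 81) (nat_lit 0xd0d0d))))) (NT.node (nat_lit 65) (NT.node (nat_lit 63) (NT.leaf (nat_lit 84) (nat_lit 0x10c010d)) (NT.node (nat_lit 64) (NT.leaf (nat_lit 32857) (nat_lit 0x30d03010d)) (NT.leaf (nat_lit 32861) (nat_lit 0x50d05010d)))) (NT.node (nat_lit 66) (NT.leaf (nat_lit 32865) (nat_lit 0x70d07010d)) (NT.node (nat_lit 67) (NT.leaf (nat_lit 32869) (nat_lit 0x90d09010d)) (NT.leaf (nat_lit 32873) (nat_lit 0xb0d0b010d))))))) (NT.node (nat_lit 79) (NT.node (nat_lit 73) (NT.node (nat_lit 70) (NT.node (nat_lit 69) (NT.leaf (nat_lit 49289) (nat_lit 0xf0d010f0d)) (NT.leaf (nat_lit 49321) (nat_lit 0x110d01110d)))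 (NT.node (nat_lit 71) (NT.leaf (nat_lit 49357) (nat_lit 0x130d01130d)) (NT.node (nat_lit 72) (NT.leaf (nat_lit 109) (nat_lit 0xf0f0f)) (NT.leaf (nat_lit 112) (nat_lit 0x10e010f))))) (NT.node (nat_lit 76) (NT.node (nat_lit 74) (NT.leaf (nat_lit 32885) (nat_lit 0x30f03010f)) (NT.node (nat_lit 75) (NT.leaf (nat_lit 32889) (nat_lit 0x50f05010f)) (NT.leaf (nat_lit 32893) (nat_lit 0x70f07010f)))) (NT.node (nat_lit 77) (NT.leaf (nat_lit 32897) (nat_lit 0x90f09010f)) (NT.node (nat_lit 78) (NT.leaf (nat_lit 32901) (nat_lit 0xb0f0b010f)) (NT.leaf (nat_lit 32905) (nat_lit 0xd0f0d010f)))))) (NT.node (nat_lit 85) (NT.node (nat_lit 82) (NT.node (nat_lit 80) (NT.leaf (nat_lit 49325) (nat_lit 0x110f01110f)) (NT.node (nat_lit 81) (NT.leaf (nat_lit 49361) (nat_lit 0x130f01130f)) (NT.leaf (nat_lit 141) (nat_lit 0x111111)))) (NT.node (nat_lit 83) (NT.leaf (nat_lit 144) (nat_lit 0x1100111)) (NT.node (nat_lit 84) (NT.leaf (nat_lit 32917) (nat_lit 0x311030111))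 (NT.leaf (nat_lit 32921) (nat_lit 0x511050111))))) (NT.node (nat_lit 88) (NT.node (nat_lit 86) (NT.leaf (nat_lit 32925) (nat_lit 0x711070111)) (NT.node (nat_lit 87) (NT.leaf (nat_lit 32929) (nat_lit 0x911090111)) (NT.leaf (nat_lit 32933) (nat_lit 0xb110b0111)))) (NT.node (nat_lit 89) (NT.leaf (nat_lit 32937) (nat_lit 0xd110d0111)) (NT.node (nat_lit 90) (NT.leaf (nat_lit 32941) (nat_lit 0xf110f0111)) (NT.leaf (nat_lit 49365) (nat_lit 0x1311011311)))))))))⟩
noncomputable def cm9_U : List (List ℕ) := []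
noncomputable def cm9_HL : List ℕ := Lc 8
theorem cm9_head : cm9_C.head 20 iC (Rc 9) cm9_U cm9_HL 11 4 9 = true := by decide +kernel
noncomputable def cm9_s0 : List ℕ := [nat_lit 0x50542c65010b414140e994042c850503865010b014140d994042b850503465010ac14140c994042a850503065010a814140b9940429850501501948283c01144242a162d80850090f058b60213c24281c2d8084e090a06cb60213424281a2d8084c090a064b60212c2428182d8084a090a05cb60212424280980c90121d0088e10150b1440423040782c510108a101d0b14404220405036510108610140d14404210405032510108210140c1440420040502e510107e1014044063e080e0043d070a8588e020f01c3c16238083b070e8588e020e81c38162380839070a0688e020e01c28192380837070a0608e020d81c28172380835070a01e031a0386c0219830542c3d010640c1e0b0f40418830742c3d010600c1c0b0f404178306c2c3d0105c0c140c8f4041683050303d010580c140b8f40415830500d018a81834010a4142a161980828050f058660209c143a161980826050e05866020941436161980824050d058660208c1428181980822050a05c660208414280580c400a190083e08150b0a4040f020782c290103a081d0b0a4040e020702c2901036081b0b0a4040d020682c290103208190b0a4040c020502e290102e08140240616040c00415030a8583e020500c3c160f80813030e8583e020480c38160f80811030d8583e020400c34160f8080f030c8583e020380c30160f8080d030a00e03060185c02058102c270181014040b0940604048102c230181010040b0840604038102c1f018100c040b0740604028102c1b0181008040b0640604018102c050180808030100404160180c005b]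
theorem cm9_ok0 : cm9_C.StepsOK 20 111 := (SeqCert.StepsOK.refl _ 20).step (L := cm9_s0) (by decide +kernel)
theorem cm9_ok : cm9_C.StepsOK (11 + 9) 111 := cm9_ok0
noncomputable def cm9_r0 : List ℕ := [nat_lit 0x108042270130094048023011008404001f00f007403801b00d006403001600, nat_lit 0xc056414a1e904a47641081c9039c6e40c61a90294664084189018c5e42811, nat_lit 0xa840a03c165d0e856f238151c0d851ee3413db0c84cea30129a0b847e62c22, nat_lit 0x140ca264e3279930c9a64a3259920c926463239910c8a64232198f880e24033, nat_lit 0x1910ca862431a1810c285e42fa1710ba85a42da1610b285220489590ae85444, nat_lit 0x1e14f2a7653ba9d14eaa72539a9c14e2a6e537a99881626c536a9a94d6a6855, nat_lit 0x23191ac8a645b221912c86643b21190ac7a2068a09906c80640b1f98fec7c66, nat_lit 0x281d42e9e74fba71d3ae9a74dba3881e29874cba59d2ee9474aba49d26e9077, nat_lit 0x2d216b0b2859c2c21630a22088aba15f0ac856c2aa1570a8854c29a14f0a488, nat_lit 0x3225932c6963cad88262c4962cb0a5872c0960cafa57f2bc95ecaea5772b899, nat_lit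 0x3729bb4ca20a8b6a9b74d8a6cd35a9af4d4a6ad34a9a74d0a68d33a99f4ccaa]
theorem cm9_final : cm9_C.final 20 111 (nat_lit 0x7ff) 11 (Lc 9) (cm9_r0) = true := by decide +kernel
theorem cm9 {G : Type*} [Group G] {g : ℕ → G} {H : Subgroup G} (hg : Sat g 20 iC (Rc 9))
    (hU : ∀ u ∈ cm9_U, wv g u ∈ H) (hL : ∀ l ∈ cm9_HL, g l ∈ H) :
    IdxLe H (Subgroup.closure {x | ∃ l ∈ Lc 9, g l = x}) 11 :=
  SeqCert.idxLe_of_final hg hU hL cm9_head cm9_ok cm9_final
theorem upC9 {G : Type*} [Group G] {g : ℕ → G} (hg : Sat g 20 iC (Rc 9)) :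
    Finite (gL g (Lc 9)) ∧ Nat.card (gL g (Lc 9)) ≤ 39916800 :=
  ((cm9 hg forall_mem_nil' (forall_mem_gL g (Lc 8))).card_le
    (upC8 (hg.mono (by decide) (mem_of_subL (by decide +kernel))))).imp id fun h => h.trans (by norm_num)


end Cfsg.Lib.LyT
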