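import Cfsg.Agent.LyT.GenA

/-! The word problem in `3.McL:2` and two searches in `McL`. -/

set_option autoImplicit false
set_option maxRecDepth 100000
set_option Elab.async false

namespace Cfsg.Lib.LyT

open Subgroup Equiv Cfsg.Lib.Spor Cfsg.Lib.Spor.Bulk Cfsg.Lib.Spor.PK Cfsg.Lib.Spor.WF

variable {G : Type*} [Group G]

/-- the inverse word -/
noncomputable def iw (W : List ℕ) : List ℕ := W.reverse.map iM

theorem eq_of_iw {g : ℕ → G} {k : ℕ} {R : List (List ℕ)} (hg : Sat g k iM R) {A B : List ℕ}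
    (hB : ∀ l ∈ B, l < k) (h : wv g (A ++ iw B) = 1) : wv g A = wv g B := by
  rw [wv_append, iw, wv_reverse_map_inv g fun l hl => hg.inv l (hB l hl), inv_mul_eq_one] at h
  exact h.symm

/-- the word in the letters `1, …, k - 1` is trivial in `3.McL:2` -/
noncomputable def mB (k : ℕ) (W : List ℕ) : Bool :=
  band (Bulk.allL (fun l => band (Nat.ble 1 l) (Nat.blt l k)) W)
    (Bulk.allL (fun p => fixB m3_T p W) [36, 1003, 0])

theorem mB_spec {k : ℕ} (hk : k ≤ 12) {W : List ℕ} (h : mB k W = true) :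
    (∀ l ∈ W, 1 ≤ l ∧ l < k) ∧ wv mM W = 1 := by
  have a : ∀ l ∈ W, 1 ≤ l ∧ l < k := fun l hl => by
    simpa using Bulk.allL_iff.1 (band_left h) l hl
  refine ⟨a, baseM (wv_mem _ fun l hl => mem_gL ?_) fun p hp =>
    apply_eq_of_fixB m3_nets (Bulk.allL_iff.1 (band_right h) p hp)⟩
  have := a l hl
  exact (by decide : ∀ l < 12, 1 ≤ l → l ∈ L11) l (by omega) this.1

theorem rel3 {g : ℕ → G} (hg : Sat g 10 iM R3) {W : List ℕ} (h : mB 10 W = true) :
    wv g W = 1 := by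
  obtain ⟨a, b⟩ := mB_spec (by norm_num) h
  obtain ⟨φ, -, h2⟩ := exists_hom_gL (up3 (sat3.prod hg)) low3
  rw [← h2 W fun l hl => (by decide : ∀ l < 10, 1 ≤ l → l ∈ L9) l (a l hl).2 (a l hl).1,
    ← φ.map_one]
  exact congrArg φ (Subtype.ext b)

theorem relM {g : ℕ → G} (hg : Sat g 12 iM (R3 ++ Ro)) {W : List ℕ} (h : mB 12 W = true) :
    wv g W = 1 := by
  obtain ⟨a, b⟩ := mB_spec le_rfl h
  obtain ⟨φ, -, h2⟩ := exists_hom_gL (upM (satM.prod hg)) lowM
  rw [← h2 W fun l hl => (by decide : ∀ l < 12, 1 ≤ l → l ∈ L11) l (a l hl).2 (a l hl).1,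
    ← φ.map_one]
  exact congrArg φ (Subtype.ext b)

/-- `s x s` -/
def w2 : List ℕ := [3,4,1,6]

/-- a third three-cycle -/
def w3 : List ℕ := [1,3,6,4]

/-- an element of `2.A₅ × 3²` -/
def wh : List ℕ := [2,5,4,1,6,3,2,5,8]

/-- its conjugate under `s` -/
def wh' : List ℕ := [6,2,1,5,3,2,4,6,5,2]

theorem rels3 {g : ℕ → G} (hg : Sat g 10 iM R3) :
    Commute (wv g wl) (wv g w2) ∧ Commute (wv g wl) (wv g w3) ∧ Commute (wv g wl) (g 1) ∧
    wv g wz * wv g wl * wv g wz * wv g wl = 1 ∧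
    wv g wl * (wv g wh * wv g wl * (wv g wh)⁻¹) =
      g 8 * (wv g wh * wv g wl * (wv g wh)⁻¹) * wv g wl ∧
    g 7 * g 1 * g 7 = g 1 ∧ g 7 * g 3 * g 7 = g 5 * g 3 * g 5 ∧
    g 7 * (g 5 * g 2) * g 7 = g 8 * (g 2 * g 5) ∧
    wv g [7, 2] * wv g wz = wv g wt * wv g [7, 2] := by
  have e : ∀ A B : List ℕ, (∀ l ∈ B, l < 10) ∧ mB 10 (A ++ iw B) = true → wv g A = wv g B :=
    fun A B h => eq_of_iw hg h.1 (rel3 hg h.2)
  have i : (wv g wh)⁻¹ = wv g (iw wh) :=
    (wv_reverse_map_inv g fun l hl => hg.inv l ((by decide : ∀ l ∈ wh, l < 10) l hl)).symm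
  have a1 := e (w2 ++ wl) (wl ++ w2) (by decide +kernel)
  have a2 := e (w3 ++ wl) (wl ++ w3) (by decide +kernel)
  have a3 := e ([1] ++ wl) (wl ++ [1]) (by decide +kernel)
  have a4 := e (wl ++ wz ++ wl ++ wz) [] (by decide +kernel)
  have a5 := e (iw wh ++ wl ++ wh ++ wl) (wl ++ iw wh ++ wl ++ wh ++ [8]) (by decide +kernel)
  have a6 := e [7, 1, 7] [1] (by decide +kernel)
  have a7 := e [7, 3, 7] [5, 3, 5] (by decide +kernel)
  have a8 := e [7, 2, 5, 7] [5, 2, 8] (by decide +kernel)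
  have a9 := e (wz ++ [7, 2]) ([7, 2] ++ wt) (by decide +kernel)
  rw [wv_append, wv_append] at a9
  simp only [wv_append, wv_cons, wv_nil, one_mul, ← i] at a1 a2 a3 a4 a5 a6 a7 a8
  exact ⟨a1, a2, a3, by simpa only [mul_assoc] using a4, by simpa only [mul_assoc] using a5, a6, a7,
    by simpa only [mul_assoc] using a8, a9⟩

theorem relO {g : ℕ → G} (hg : Sat g 12 iM (R3 ++ Ro)) :
    g 10 * wv g wl * g 11 = wv g wl * (g 3 * g 1 * wv g wl * (g 1 * g 3)) := by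
  have := eq_of_iw hg (A := [11] ++ wl ++ [10]) (B := [3, 1] ++ wl ++ [1, 3] ++ wl) (by decide)
    (relM hg (by decide +kernel))
  simpa only [wv_append, wv_cons, wv_nil, one_mul, mul_assoc] using this

theorem P7_emb : Emb P7.m P7.m :=
  ⟨⊤, fun _ => trivial, Subgroup.subtype _, subtype_injective _, fun _ => rfl⟩

theorem P9_le (i : ℕ) (hi : i < 2) : sub P7.m (P9.W i) ≤ sub P7.m L7 :=
  sub_le fun W hW => wv_mem _ fun l hl => by
    simpa using wv_mem_sub P7.m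
      ((by decide : ∀ i < 2, ∀ W ∈ P9.W i, ∀ l ∈ W, [l] ∈ L7) i hi W hW l hl)

theorem mem_of_cent {i c : ℕ} (hi : i < 2) {xs : List (List ℕ)}
    (hc : Nat.card ↥(sub P7.m L7 ⊓ centralizer {a | a ∈ xs.map (wv P7.m)}) = c)
    (hd : certOrder (P9.K i) = c ∧ P7.dec (eqsF ((P9.W i).flatMap fun W => xs.map fun X =>
      (W ++ X, X ++ W))) = true) {p : Perm (Fin 275)} (hp : p ∈ sub P7.m L7)
    (h : ∀ X ∈ xs, Commute (wv P7.m X) p) : p ∈ sub P7.m (P9.W i) := by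
  have e := eqs_of_emb P7_ok P7_subs P7_emb hd.2
  have : sub P7.m (P9.W i) = sub P7.m L7 ⊓ centralizer {a | a ∈ xs.map (wv P7.m)} := by
    refine eq_of_le_of_card_ge (le_inf (P9_le i hi) (sub_le fun W hW a ha => ?_))
      (hc.trans (hd.1.symm.trans (PM.card_sub P9_ok P9_subs i).symm)).le
    obtain ⟨X, hX, rfl⟩ := List.mem_map.1 ha
    simpa only [wv_append] using
      e _ (List.mem_flatMap.2 ⟨W, hW, List.mem_map_of_mem hX⟩)
  rw [this]
  refine ⟨hp, fun a ha => ?_⟩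
  obtain ⟨X, hX, rfl⟩ := List.mem_map.1 ha
  exact h X hX

theorem cm {g : ℕ → G} {A B : List ℕ} {p : G} (h : Commute (wv g A) p) (h' : Commute (wv g B) p) :
    Commute (wv g (A ++ B)) p := wv_append g A B ▸ h'.mul_left h

theorem model1 {p : Perm (Fin 275)} (hp : p ∈ sub P7.m L7) (h0 : p * p = 1)
    (h1 : p * wv P7.m [1] * p = wv P7.m [5, 1, 5]) (h2 : p * wv P7.m [3] * p = wv P7.m [3])
    (h3 : p * wv P7.m [2, 5] * p = wv P7.m [5, 2]) :
    p = wv P7.m [2, 7, 2] ∨ p = wv P7.m (wz ++ [2, 7, 2] ++ wz) := by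
  have e := eqs_of_emb P7_ok P7_subs P7_emb (E := [([2, 7, 2] ++ [2, 7, 2], []),
    ([2, 7, 2] ++ [1], [5, 1, 5] ++ [2, 7, 2]), ([2, 7, 2] ++ [3], [3] ++ [2, 7, 2]),
    ([2, 7, 2] ++ [2, 5], [5, 2] ++ [2, 7, 2])]) (by decide +kernel)
  simp only [List.forall_mem_cons, wv_append, wv_nil] at e
  obtain ⟨e0, e1, e2, e3, -⟩ := e
  have key := (PM.dec_iff P9_ok P9_subs (.bind 21 [2, 7, 2] (.bind 22 (wz ++ [2, 7, 2] ++ wz)
    (.all 0 20 (.imp (.eq [20, 21, 20, 21] []) (.or (.eq [20, 21] [21])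
      (.eq [20, 21] [22]))))))).1 (by decide +kernel)
  simp only [Fm.sem, P9_m] at key
  rw [wv_upd _ _ (by decide)] at key
  simp only [wv_cons (l := 20), wv_cons (l := 21), wv_cons (l := 22), wv_nil, upd_apply, one_mul,
    if_true, Nat.reduceEqDiff, if_false] at key
  have hb : wv P7.m [2, 7, 2] ∈ sub P7.m L7 := wv_mem _ fun l hl => by
    simpa using wv_mem_sub P7.m ((by decide : ∀ l ∈ [2, 7, 2], [l] ∈ L7) l hl)
  generalize wv P7.m [2, 7, 2] = b at *
  have c : ∀ {X Y : Perm (Fin 275)}, p * X * p = Y → X * b = b * Y → Commute X (b * p) :=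
    fun {X Y} a a' => by
      rw [Commute, SemiconjBy, ← mul_assoc, a', ← a, mul_assoc b, mul_assoc _ p, h0, mul_one,
        mul_assoc]
  have c1 := c h1 e1
  have c2 := c h2 e2
  have c3 := c h3 e3
  have m := mem_of_cent (i := 0) (by norm_num) cent1 (by decide +kernel) (mul_mem hb hp) (by
    simp only [List.forall_mem_cons]
    exact ⟨c1, c2, c3, cm c3 c3, cm c1 c2, cm c1 c3, by simp⟩)
  have := key _ m (by rw [← mul_assoc b, e0, one_mul, mul_assoc, ← mul_assoc b, e0, one_mul, h0])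
  rwa [← mul_assoc, e0, one_mul] at this

theorem model2 {p : Perm (Fin 275)} (hp : p ∈ sub P7.m L7) (h2 : Commute (wv P7.m w2) p)
    (h3 : Commute (wv P7.m w3) p) (hz : wv P7.m wz * p * wv P7.m wz * p = 1)
    (hc : p * (wv P7.m wh' * p * wv P7.m wh'.reverse) =
      wv P7.m w2 * (wv P7.m wh' * p * wv P7.m wh'.reverse) * p) :
    p = wv P7.m wl ∨ p = wv P7.m wl.reverse := by
  have key := (PM.dec_iff P9_ok P9_subs (.bind 21 wz (.bind 22 wh' (.bind 23 wh'.reverse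
    (.bind 24 w2 (.bind 25 wl (.bind 26 wl.reverse (.all 1 20 (.imp (.eq [20, 21, 20, 21] [])
      (.bind 27 [23, 20, 22] (.imp (.eq [27, 20] [20, 27, 24])
        (.or (.eq [20] [25]) (.eq [20] [26]))))))))))))).1 (by decide +kernel)
  simp only [Fm.sem, P9_m] at key
  repeat rw [wv_upd _ _ (L := wh') (by decide)] at key
  repeat rw [wv_upd _ _ (L := wh'.reverse) (by decide)] at key
  repeat rw [wv_upd _ _ (L := w2) (by decide)] at key
  repeat rw [wv_upd _ _ (L := wl) (by decide)] at key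
  repeat rw [wv_upd _ _ (L := wl.reverse) (by decide)] at key
  simp only [wv_cons, wv_nil, upd_apply, one_mul, if_true, Nat.reduceEqDiff, if_false] at key
  refine key _ (mem_of_cent (i := 1) (by norm_num) cent2 (by decide +kernel) hp ?_) hz hc
  simp only [List.forall_mem_cons]
  exact ⟨h2, h3, cm h2 h2, cm h3 h3, cm h2 h3, cm h2 (cm h3 h3), by simp⟩

theorem model3 : wv P7.m (wl ++ wl) ≠ wv P7.m [] ∧ wv P7.m wt ≠ wv P7.m [] ∧
    wv P7.m wt ≠ wv P7.m wz ∧ wv P7.m [1, 3] ≠ wv P7.m [3, 1] :=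
  PM.holds P7_ok P7_subs P7_emb (p := .and (.not (.eq (wl ++ wl) [])) (.and (.not (.eq wt []))
    (.and (.not (.eq wt wz)) (.not (.eq [1, 3] [3, 1]))))) (by decide +kernel)

end Cfsg.Lib.LyT
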