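import Cfsg.Agent.LyT.MT1
import Cfsg.Agent.LyT.GenB

/-! A checker for double coset enumerations over `3.McL:2`. -/

set_option autoImplicit false
set_option maxRecDepth 100000
set_option Elab.async false

namespace Cfsg.Lib.LyT

open Subgroup Equiv Cfsg.Lib.Spor.Bulk Cfsg.Lib.Spor.WM
open Cfsg.Lib.Known.PC (frc)

variable {G : Type*} [Group G]

/-- the tables of the letters -/
noncomputable def tM : ℕ → ℕ → ℕ := getN id [id, lm mt1, lm mt2, lm mt3, lm mt4, lm mt5, lm mt6,
  lm mt7, lm mt8, lm mt9, lm mt10, lm mt11]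

theorem mem_L11 {l : ℕ} : l ∈ L11 ↔ 1 ≤ l ∧ l < 12 := by
  simp only [L11, List.mem_cons, List.not_mem_nil, or_false]; omega

theorem tM_ok (l : ℕ) : Acts (MonoidHom.id _) (tM l) (kp L11 mM l) := by
  by_cases hl : l ∈ L11
  · rw [kp, if_pos hl, ← one_mul (mM l)]
    exact (forall_mem_cons' mt1_ok <| forall_mem_cons' mt2_ok <| forall_mem_cons' mt3_ok <|
      forall_mem_cons' mt4_ok <| forall_mem_cons' mt5_ok <| forall_mem_cons' mt6_ok <|
      forall_mem_cons' mt7_ok <| forall_mem_cons' mt8_ok <| forall_mem_cons' mt9_ok <|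
      forall_mem_cons' mt10_ok <| forall_mem_cons' mt11_ok forall_mem_nil' :
        ∀ l ∈ L11, Acts (MonoidHom.id _) (tM l) (wv mM [l])) l hl
  · rw [kp, if_neg hl]
    rcases l with _ | l
    · exact acts_id _
    · rw [tM, getN_eq, List.getD_eq_default _ _ (by rw [mem_L11] at hl; simp; omega)]
      exact acts_id _

/-- trace the three base points -/
noncomputable def mK (W : List ℕ) : ℕ → ℕ → ℕ → Bool :=
  List.rec (motive := fun _ => ℕ → ℕ → ℕ → Bool)
    (fun a b c => band (Nat.beq a 36) (band (Nat.beq b 1003) (Nat.beq c 0)))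
    (fun l _ ih a b c => frc l fun l => frc (tM l a) fun a => frc (tM l b) fun b =>
      frc (tM l c) fun c => ih a b c) W

/-- the word is trivial in `3.McL:2` -/
noncomputable def mF (W : List ℕ) : Bool := mK W 36 1003 0

theorem mK_iff (W : List ℕ) : ∀ a b c : Fin 66825, mK W a b c = true ↔
    (wv (kp L11 mM) W a : ℕ) = 36 ∧ (wv (kp L11 mM) W b : ℕ) = 1003 ∧
      (wv (kp L11 mM) W c : ℕ) = 0 := by
  induction W with
  | nil => intro a b c; simp [mK]
  | cons l W ih =>
    intro a b c
    change mK W (tM l a) (tM l b) (tM l c) = true ↔ _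
    rw [tM_ok l, tM_ok l, tM_ok l]
    exact ih _ _ _

/-- the letters of the model of `3.McL:2` -/
noncomputable abbrev g0 : ℕ → gL mM L11 := resG mM L11

theorem coe_g0 (l : ℕ) : (gL mM L11).subtype (g0 l) = kp L11 mM l := by
  unfold g0 resG kp
  split_ifs <;> rfl

theorem mF_iff {W : List ℕ} : mF W = true ↔ wv g0 W = 1 := by
  have e : ((wv g0 W :) : Perm (Fin 66825)) = wv (kp L11 mM) W :=
    (map_wv g0 (gL mM L11).subtype W).trans (wv_congr fun l _ => coe_g0 l)
  refine (mK_iff W 36 1003 0).trans ⟨fun ⟨h1, h2, h3⟩ =>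
    Subtype.ext (baseM (wv g0 W).2 fun p hp => ?_), fun h => ?_⟩
  · rw [e]
    simp only [List.mem_cons, List.not_mem_nil, or_false] at hp
    rcases hp with a | a | a
    · rw [show p = 36 from Fin.ext a]; exact Fin.ext h1
    · rw [show p = 1003 from Fin.ext a]; exact Fin.ext h2
    · rw [show p = 0 from Fin.ext a]; exact Fin.ext h3
  · rw [← e, h]
    exact ⟨rfl, rfl, rfl⟩

/-- the value of a word in the letters of `3.McL:2` -/
def vM (g : ℕ → G) (W : List ℕ) : G := wv (kp L11 g) W

theorem vM_append (g : ℕ → G) (A B : List ℕ) : vM g (A ++ B) = vM g B * vM g A := wv_append ..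

theorem vM_nil (g : ℕ → G) : vM g [] = 1 := rfl

theorem vM_mem (g : ℕ → G) (W : List ℕ) : vM g W ∈ gL g L11 := wv_mem _ fun l _ => by
  unfold kp
  split_ifs with h
  exacts [mem_gL h, one_mem _]

theorem exists_phi {g : ℕ → G} (hg : Sat g 12 iM (R3 ++ Ro)) :
    ∃ φ : gL mM L11 →* G, φ.range = gL g L11 ∧ ∀ W, φ (wv g0 W) = vM g W := by
  obtain ⟨φ, h1, h2⟩ := exists_hom_gL (upM (satM.prod hg)) lowM
  refine ⟨φ, h1, fun W => (map_wv _ φ W).trans (wv_congr fun l _ => ?_)⟩
  unfold g0 resG kp
  split_ifs with h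
  · simpa using h2 [l] (by simpa using h)
  · exact φ.map_one

/-- the representatives of the double cosets -/
noncomputable def Gw : ℕ → List ℕ := getN [] [[], [12], [12,3,2,5,4,1,2,6,5,2,12],
  [12,1,2,3,6,4,2,3,5,12],
  [12,5,7,12]]

/-- the representatives of the double cosets -/
noncomputable def gam (g : ℕ → G) (i : ℕ) : G := wv g (Gw i)

/-- the relations used in the enumeration -/
structure LR (g : ℕ → G) : Prop where
  sat : Sat g 13 iM (R3 ++ Ro)
  hrel : ∀ W, hB W = true → wv g W = 1
  l : Commute (g 12) (wv g wl)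

/-- the identity `s^e r γ_i = A γ_j B` -/
structure Fc where
  e : Bool
  r : List ℕ
  i : ℕ
  A : List ℕ
  j : ℕ
  B : List ℕ

/-- the identity holds -/
def Fc.Holds (g : ℕ → G) (F : Fc) : Prop :=
  gam g F.i * vM g F.r * cond F.e (g 12) 1 = vM g F.B * gam g F.j * vM g F.A

/-- the trivial identity -/
def Fc.triv : Fc := ⟨false, [], 0, [], 0, []⟩

/-- an identity read in either direction -/
noncomputable def sgF (T : List Fc) (f : ℕ) : Fc :=
  (fun F : Fc => Bool.rec F ⟨F.e, F.A, F.j, F.r, F.i, iw F.B⟩ (Nat.beq (Nat.mod f 2) 1))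
    (getN Fc.triv T (Nat.div f 2))

/-- moves: an identity without `s`, an identity with `s`, the letter `s` at the trivial coset -/
inductive Mv
  | q (f : ℕ) : Mv
  | s (f : ℕ) (ks : List ℕ) : Mv
  | z : Mv

/-- an identity in the normaliser of `s` -/
noncomputable def kOk (F : Fc) : Bool := band (!F.e) (band (Nat.beq F.i 1) (Nat.beq F.j 1))

/-- the word moved over `s` -/
noncomputable def tau (T : List Fc) (ks : List ℕ) : List ℕ :=
  ks.flatMap fun f => iw (sgF T f).r ++ (sgF T f).A

/-- the conjugate of `tau` -/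
noncomputable def theta (T : List Fc) (ks : List ℕ) : List ℕ := ks.flatMap fun f => iw (sgF T f).B

/-- one move -/
noncomputable def step (T : List Fc) (ih : List (List ℕ) → List ℕ → ℕ → List ℕ → Bool) (m : Mv)
    (as : List (List ℕ)) (h : List ℕ) (i : ℕ) (k : List ℕ) : Bool :=
  Mv.rec
    (fun f => band (!(sgF T f).e) (band (Nat.beq (sgF T f).i i)
      (ih as (h ++ (iw (sgF T f).r ++ (sgF T f).A)) (sgF T f).j ((sgF T f).B ++ k))))
    (fun f ks => List.rec false (fun a as _ => band (sgF T f).e (band (Nat.beq (sgF T f).i i)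
      (band (allL (fun f => kOk (sgF T f)) ks) (band (mF (h ++ iw (tau T ks ++ (sgF T f).r)))
        (ih as (a ++ (theta T ks ++ (sgF T f).A)) (sgF T f).j ((sgF T f).B ++ k)))))) as)
    (List.rec false (fun a as _ => band (Nat.beq i 0) (ih as a 1 (h ++ k))) as) m

/-- a sequence of moves -/
noncomputable def run (T : List Fc) (fin : List ℕ → ℕ → List ℕ → Bool) (ms : List Mv) :
    List (List ℕ) → List ℕ → ℕ → List ℕ → Bool :=
  List.rec (fun as h i k => band as.isEmpty (fin h i k)) (fun m _ ih => step T ih m) ms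

/-- the word traced -/
noncomputable def pre (g : ℕ → G) (as : List (List ℕ)) : G := List.rec 1 (fun a _ r => g 12 * vM g a * r) as

/-- the left side as a word -/
noncomputable def Fc.lhs (F : Fc) : List ℕ := cond F.e [12] [] ++ F.r ++ Gw F.i

/-- the right side as a word -/
noncomputable def Fc.rhs (F : Fc) : List ℕ := F.A ++ Gw F.j ++ F.B

/-- check of an identity -/
noncomputable def chk (T : List Fc) (F : Fc)
    (c : Option (List ℕ × List (List ℕ) × List Mv × List Mv)) : Bool :=
  Option.rec (decide ((∀ l ∈ F.r ++ F.A ++ F.B, l ∈ L11) ∧ (∀ l ∈ F.rhs, l < 13) ∧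
      (F.lhs = F.rhs ∨ F.lhs = [12] ∧ F.rhs = wl ++ [12] ++ iw wl ∨ hB (F.lhs ++ iw F.rhs) = true)))
    (fun c => band (run T (fun h i k => cond F.e (band (Nat.beq i 1) (band (mF h) (mF k)))
        (band (Nat.beq i 0) (mF (h ++ k)))) c.2.2.2 c.2.1 c.1 0 [])
      (run T (fun h i k => band (Nat.beq i F.j) (band (mF (h ++ iw F.A)) (mF (k ++ iw F.B))))
        c.2.2.1 c.2.1 (c.1 ++ F.r) F.i [])) c

theorem gam_zero (g : ℕ → G) : gam g 0 = 1 := rfl

theorem gam_one (g : ℕ → G) : gam g 1 = g 12 := one_mul _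

namespace LR

variable {g : ℕ → G} (hg : LR g)
include hg

theorem satM : Sat g 12 iM (R3 ++ Ro) := hg.sat.mono (by norm_num) fun _ a => a

theorem ss : g 12 * g 12 = 1 := mul_eq_one_iff_eq_inv.2 (hg.sat.inv 12 (by norm_num))

theorem vM_iw (W : List ℕ) : vM g (iw W) = (vM g W)⁻¹ := wv_reverse_map_inv _ fun l _ => by
  by_cases hl : l < 14
  · have := (by decide +kernel : ∀ l < 14, iM l ∈ L11 ↔ l ∈ L11) l hl
    unfold kp
    by_cases h : l ∈ L11
    · rw [if_pos h, if_pos (this.2 h), hg.sat.inv l (by rw [mem_L11] at h; omega)]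
    · rw [if_neg h, if_neg (mt this.1 h), inv_one]
  · rw [iM, getN_eq, List.getD_eq_default _ _ (by simp; omega), kp, kp, if_neg (by decide),
      if_neg (by rw [mem_L11]; omega), inv_one]

theorem mF_one {W : List ℕ} (h : mF W = true) : vM g W = 1 := by
  obtain ⟨φ, -, h2⟩ := exists_phi hg.satM
  rw [← h2, mF_iff.1 h, map_one]

theorem mF_eq {A B : List ℕ} (h : mF (A ++ iw B) = true) : vM g A = vM g B := by
  have := hg.mF_one h
  rw [vM_append, hg.vM_iw, inv_mul_eq_one] at this
  exact this.symm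

variable {T : List Fc} (hT : ∀ F ∈ T, F.Holds g)
include hT

theorem sgF_holds (f : ℕ) : (sgF T f).Holds g := by
  have h : (getN Fc.triv T (Nat.div f 2)).Holds g := by
    rcases getN_mem_or Fc.triv T (Nat.div f 2) with a | a
    · exact hT _ a
    · rw [a]; simp [Fc.Holds, Fc.triv, vM_nil]
  unfold sgF
  generalize getN Fc.triv T (Nat.div f 2) = F at h
  cases Nat.beq (Nat.mod f 2) 1
  · exact h
  · have e : cond F.e (g 12) 1 * cond F.e (g 12) 1 = 1 := by
      cases F.e
      exacts [mul_one _, hg.ss]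
    change gam g F.j * vM g F.A * cond F.e (g 12) 1 = vM g (iw F.B) * gam g F.i * vM g F.r
    rw [hg.vM_iw, mul_assoc (vM g F.B)⁻¹, eq_inv_mul_iff_mul_eq, ← mul_assoc, ← mul_assoc, ← h,
      mul_assoc, e, mul_one]

theorem tau_theta {ks : List ℕ} (h : allL (fun f => kOk (sgF T f)) ks = true) :
    vM g (tau T ks) * g 12 = g 12 * vM g (theta T ks) := by
  induction ks with
  | nil => simp [tau, theta, vM_nil]
  | cons f ks ih =>
    have a := hg.sgF_holds hT f
    have b : kOk (sgF T f) = true := band_left h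
    have c := ih (band_right h)
    simp only [kOk, band_eq, Bool.and_eq_true, Nat.beq_eq, Bool.not_eq_true'] at b
    rw [Fc.Holds, b.1, b.2.1, b.2.2, gam_one, cond_false, mul_one] at a
    rw [tau, theta, List.flatMap_cons, List.flatMap_cons, vM_append, vM_append, vM_append, hg.vM_iw,
      hg.vM_iw, ← tau, ← theta, ← mul_assoc (g 12), ← c]
    have s := hg.ss
    generalize vM g (sgF T f).r = r at *
    generalize vM g (sgF T f).A = A at *
    generalize vM g (sgF T f).B = B at *
    have : r = g 12 * B * g 12 * A := by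
      rw [mul_assoc, mul_assoc, ← mul_assoc B, ← a, ← mul_assoc, s, one_mul]
    rw [this, mul_inv_rev, mul_inv_rev, mul_inv_rev, inv_eq_of_mul_eq_one_right s]
    simp only [mul_assoc, s, mul_one, mul_inv_cancel_left]

theorem run_sound {fin : List ℕ → ℕ → List ℕ → Bool} (ms : List Mv) :
    ∀ {as h i k}, run T fin ms as h i k = true → ∃ h' i' k', fin h' i' k' = true ∧
      vM g k' * gam g i' * vM g h' = vM g k * gam g i * vM g h * pre g as := by
  induction ms with
  | nil =>
    intro as h i k a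
    change band as.isEmpty (fin h i k) = true at a
    obtain rfl : as = [] := List.isEmpty_iff.1 (band_left a)
    exact ⟨h, i, k, band_right a, (mul_one _).symm⟩
  | cons m ms ih =>
    intro as h i k a
    change step T (run T fin ms) m as h i k = true at a
    rcases m with f | ⟨f, ks⟩ | _
    · have b := hg.sgF_holds hT f
      simp only [step, band_eq, Bool.and_eq_true, Nat.beq_eq, Bool.not_eq_true'] at a
      obtain ⟨a1, rfl, a3⟩ := a
      obtain ⟨h', i', k', c1, c2⟩ := ih a3
      rw [Fc.Holds, a1, cond_false, mul_one] at b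
      refine ⟨h', i', k', c1, ?_⟩
      rw [c2, vM_append, vM_append, vM_append, hg.vM_iw, eq_mul_inv_iff_mul_eq.2 b]
      group
    · rcases as with _ | ⟨x, as⟩
      · exact absurd a Bool.false_ne_true
      have b := hg.sgF_holds hT f
      simp only [step, band_eq, Bool.and_eq_true, Nat.beq_eq] at a
      obtain ⟨a1, rfl, a2, a3, a4⟩ := a
      obtain ⟨h', i', k', c1, c2⟩ := ih a4
      rw [Fc.Holds, a1, cond_true] at b
      refine ⟨h', i', k', c1, ?_⟩
      rw [c2, vM_append, vM_append, vM_append, hg.mF_eq a3, vM_append,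
        eq_mul_inv_iff_mul_eq.2 (eq_mul_inv_iff_mul_eq.2 b),
        show pre g (x :: as) = g 12 * vM g x * pre g as from rfl,
        ← inv_mul_eq_iff_eq_mul.2 (hg.tau_theta hT a2)]
      group
    · rcases as with _ | ⟨x, as⟩
      · exact absurd a Bool.false_ne_true
      simp only [step, band_eq, Bool.and_eq_true, Nat.beq_eq] at a
      obtain ⟨rfl, a2⟩ := a
      obtain ⟨h', i', k', c1, c2⟩ := ih a2
      refine ⟨h', i', k', c1, ?_⟩
      rw [c2, vM_append, gam_one, gam_zero,
        show pre g (x :: as) = g 12 * vM g x * pre g as from rfl]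
      group

theorem chk_sound {F : Fc} {c : Option (List ℕ × List (List ℕ) × List Mv × List Mv)}
    (h : chk T F c = true) : F.Holds g := by
  rcases c with _ | c
  · obtain ⟨a1, a2, a3⟩ := of_decide_eq_true h
    have e : wv g F.lhs = wv g F.rhs := by
      rcases a3 with a | a | a
      · rw [a]
      · rw [a.1, a.2, wv_append, wv_append, iw, wv_reverse_map_inv g fun l hl =>
          hg.sat.inv l ((by decide : ∀ l ∈ wl, l < 13) l hl), wv_cons, wv_nil, one_mul, hg.l.eq,
          inv_mul_cancel_left]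
      · exact eq_of_iw hg.sat a2 (hg.hrel _ a)
    simp only [List.mem_append] at a1
    rw [Fc.Holds, vM, vM, vM, wv_kp g fun l hl => a1 l (by tauto), wv_kp g fun l hl => a1 l (by tauto),
      wv_kp g fun l hl => a1 l (by tauto), gam, gam, mul_assoc, mul_assoc, ← wv_append, ← wv_append]
    refine Eq.trans ?_ e
    rw [Fc.lhs, wv_append, wv_append]
    cases F.e <;> simp
  · obtain ⟨h1, i1, k1, a1, a2⟩ := hg.run_sound hT _ (band_left h)
    obtain ⟨h2, i2, k2, b1, b2⟩ := hg.run_sound hT _ (band_right h)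
    simp only [band_eq, Bool.and_eq_true, Nat.beq_eq] at b1
    have e : cond F.e (g 12) 1 = vM g c.1 * pre g c.2.1 := by
      rw [vM_nil, gam_zero, one_mul, one_mul] at a2
      rw [← a2]
      revert a1
      cases F.e <;> simp only [cond_false, cond_true, band_eq, Bool.and_eq_true, Nat.beq_eq]
      · rintro ⟨rfl, a⟩
        rw [gam_zero, mul_one, ← vM_append, hg.mF_one a]
      · rintro ⟨rfl, a, b⟩
        rw [gam_one, hg.mF_one a, hg.mF_one b, one_mul, mul_one]
    rw [Fc.Holds, e, ← hg.mF_eq b1.2.1, ← hg.mF_eq b1.2.2, ← b1.1, b2, vM_append, vM_nil]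
    group

end LR

theorem LR.all {g : ℕ → G} (hg : LR g) {T : List Fc}
    {C : List (Option (List ℕ × List (List ℕ) × List Mv × List Mv))}
    (h : ∀ n < T.length, chk (T.take n) (getN Fc.triv T n) (getN none C n) = true) :
    ∀ F ∈ T, F.Holds g := by
  have : ∀ n ≤ T.length, ∀ F ∈ T.take n, F.Holds g := by
    intro n
    induction n with
    | zero => simp
    | succ n ih =>
      intro hn F hF
      rw [List.take_succ_eq_append_getElem hn, List.mem_append, List.mem_singleton] at hF
      rcases hF with a | rfl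
      · exact ih (by omega) F a
      · have := hg.chk_sound (ih (by omega)) (h n hn)
        rwa [getN_eq, List.getD_eq_getElem _ _ hn] at this
  simpa using this _ le_rfl

end Cfsg.Lib.LyT
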