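import Cfsg.Agent.LyT.Chk

/-! The double coset enumeration. -/

set_option autoImplicit false
set_option maxRecDepth 100000
set_option Elab.async false

namespace Cfsg.Lib.LyT

open Cfsg.Lib.Spor.Bulk

/-- the identities -/
def FT : List Fc := [
  ⟨true, [], 1, [], 0, []⟩,
  ⟨false, [], 1, [2,6,2,1,2,6,7,6,7,4,1,7,6,7,2], 1, [2,7,6,7,1,4,7,6,7,6,2,1,2,6,2]⟩,
  ⟨false, [], 1, [8], 1, [6,1,4,3]⟩,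
  ⟨false, [], 1, [3,4,1,6], 1, [9]⟩,
  ⟨false, [], 1, [10,3,4,6,1], 1, [9,11]⟩,
  ⟨false, [], 1, [1,4,5,4,6,5,4,1], 1, [5,6,4,5,9,11]⟩,
  ⟨false, [], 1, [1,3,6,4], 1, [4,6,3,1]⟩,
  ⟨false, [], 1, [1,5,1,3,6,2,4,5], 1, [1,5,3,6,1,4,5,1]⟩,
  ⟨false, [], 1, [4,2,6,1,2,4], 1, [1,4,7,5,10,7,6,4,5,2,4,1]⟩,
  ⟨false, [], 1, [1,5,1,3,4,6,5,1], 1, [1,5,1,3,4,6,5,1]⟩,
  ⟨false, [], 1, [1,4,2,5,4,6,2,5,4,3], 1, [1,5,1,3,4,6,8,5,1]⟩,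
  ⟨false, [], 1, [1,5,3,4,1,6,3,7,4,5,6,5,4,7,6,5], 1, [5,4,1,6,5,3,7,4,7,2,6,7,4,1,7]⟩,
  ⟨false, [], 1, [1,4,2,5,4,6,3,2,1,5,4,1,7,6,7,4,1,7,6,7,2], 1, [2,1,3,4,5,6,1,7,4,6,7,5,6,4,7,4,5,6]⟩,
  ⟨false, [], 1, [1,5,3,6,5,4,11,2,5,4,1], 1, [3,5,1,3,4,9,11,4,5,1]⟩,
  ⟨false, [], 1, [3,5,1,3,4,6,11,5,4], 1, [2,5,4,7,3,5,10,7,4,5,6,3]⟩,
  ⟨false, [], 1, [5,2,1,3,4,5,6,3,5,1,4,10,7,6,7,4,1,7,6,7,2], 1, [3,5,2,1,4,5,2,6,3,5,11,7,4,5,4,6,7,4,6,7,4,3,7]⟩,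
  ⟨false, [], 1, [11], 1, [11]⟩,
  ⟨false, [], 1, [7,2,4,2,7,6,7,11,6,7,3,2], 1, [2,7,6,7,2,4,2,7,6,7,11,2]⟩,
  ⟨false, [], 1, [1,3,2,4,6,2], 1, [2,5,2,4,6,3,2,5,2,1]⟩,
  ⟨false, [], 1, [10,10], 1, [10,10]⟩,
  ⟨false, [], 1, [1,4,5,4,1,2,6,3,5,4,10,7,6,7,4,7,6,3,7,2], 1, [3,5,1,4,1,2,6,5,2,10,7,6,5,4,7,6,7,2]⟩,
  ⟨false, [], 1, [2,7,6,7,2,4,2,7,6,7,11,2], 1, [7,2,4,2,7,6,7,11,6,7,3,2]⟩,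
  ⟨false, [], 1, [7,2,3,10,7,4], 1, [1,3,7,5,10,7,6,4,5,2]⟩,
  ⟨false, [], 1, [1,4,2,5,6,5,1,11,7,4,5,6,5,4,7,6,5], 1, [5,1,3,4,6,5,1,2,3,6,11,7,4,5,6,7,6,4,3,7,4,7,9]⟩,
  ⟨false, [], 1, [4,5,6,1,7,6,9,5,4,7,6,7,2], 1, [2,7,6,7,2,4,9,2,7,6,7,2]⟩,
  ⟨false, [], 1, [1,3,2,4,6,2,3,5,4,11,7,4,5,6,5,4,7,6,5], 1, [2,5,4,1,6,3,2,5,6,3,11,7,4,6,7,6,3,2,4,7,4]⟩,
  ⟨false, [], 1, [2,7,6,7,4,5,8,6,7,6,5,4,2], 1, [2,7,6,1,7,2,8,4,7,6,7,2]⟩,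
  ⟨false, [], 1, [2,1,6,11,7,4,7,6,7,4,7,2,1], 1, [2,5,6,5,4,1,2,3,5,10,7,6,5,4,7,6,7,2,8]⟩,
  ⟨false, [], 1, [1,3,2,4,6,2,11], 1, [2,5,2,4,1,6,10,2,5,2,1]⟩,
  ⟨false, [], 1, [6,10,7,6,7,4,7,1,6,7,3,1,2], 1, [3,5,6,4,3,5,4,7,6,7,4,7,5,6,7,4,5]⟩,
  ⟨false, [], 1, [7,3,6,2,7,6,7,4,7,10,4,7,2], 1, [3,2,1,4,5,2,4,6,5,2,4,10,7,6,5,4,7,6,7,2,8]⟩,
  ⟨false, [], 1, [2,5,1,3,2,4,6,5,2,3,10,7,4,1,6,7,4,6,7,6,8], 1, [1,2,5,4,1,6,2,3,5,4,1,10,7,6,5,4,7,6,7,2,8]⟩,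
  ⟨false, [], 1, [4,6,2,1,5,3,6,4,5,2,1,7,4,5,6,7,2,4,7], 1, [2,1,3,4,5,2,1,4,6,5,2,4,10,7,4,1,6,7,4,6,7,6,9,11]⟩,
  ⟨false, [], 1, [5,3,6,4,2,1,5,2,3,7,4,5,4,6,7,4,1,10,7], 1, [4,1,5,2,3,4,6,1,7,4,5,6,7,4,3,1,7]⟩,
  ⟨false, [], 1, [4,5,3,6,5,1,4,3,7,2,6,5,4,7,4,7,6,11,7], 1, [2,4,2,5,4,6,2,3,5,2,4,7,4,7,6,7,4,7,2,4,8]⟩,
  ⟨false, [], 1, [1,4,1,5,2,4,6,5,4,7,4,7,2,6,7,4,7,2], 1, [1,5,1,6,2,3,4,1,5,4,1,7,4,5,6,3,7,4,3,7,9]⟩,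
  ⟨false, [], 1, [3,5,3,6,5,1,2,4,3,1,7,4,6,5,2,7,4,6,7,6,5], 1, [2,3,4,6,2,3,5,4,1,10,7,4,5,6,7,4,3,1,7,9]⟩,
  ⟨false, [], 1, [1,5,1,3,4,1,6,3,5,10,7,4,1,7,4,6,3,7,4,1,7], 1, [1,4,5,3,2,6,5,2,4,1,7,4,5,6,7,4,6,7,4,1,7]⟩,
  ⟨false, [], 1, [6,2,3,5,2,1,4,5,10,7,4,5,6,7,2,4,7,9], 1, [2,3,4,1,5,3,4,6,5,2,4,10,7,2,4,6,7,4,1,5,6,7,6,7]⟩,
  ⟨false, [], 1, [5,2,4,6,5,2,1,10,7,4,1,6,7,4,6,7,4], 1, [4,1,5,4,6,5,4,1,11,7,4,6,7,4,6,7,2,6,4,8]⟩,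
  ⟨false, [], 1, [4,5,3,2,1,6,4,5,2,6,7,6,7,4,7,6,7,3], 1, [6,5,1,2,3,4,6,5,2,10,7,4,6,7,6,4,7,4,1,9]⟩,
  ⟨false, [], 1, [5,4,6,5,2,3,4,2,7,6,7,4,7,6,3,7,2,9], 1, [3,5,1,4,1,6,11,7,6,5,4,7,6,7,2,10]⟩,
  ⟨false, [], 1, [2,5,4,1,2,3,5,6,5,4,1,10,7,4,5,6,5,4,7,2,6,5], 1, [1,2,4,5,2,3,6,4,2,1,5,2,4,7,4,6,7,6,4,7,8]⟩,
  ⟨false, [], 1, [4,1,2,5,6,4,2,1,5,4,7,4,7,6,7,4,3,7], 1, [1,2,4,5,3,2,6,4,2,5,2,7,4,6,7,4,1,6,7,6]⟩,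
  ⟨false, [], 1, [4,5,2,3,6,5,2,1,4,5,6,10,7,6,7,4,7,6,3,7,2,9], 1, [1,5,1,3,4,6,5,4,1,7,6,7,4,7,6,1,7,10]⟩,
  ⟨false, [], 1, [1,5,4,6,5,4,10,7,4,6,7,6,3,2,4,1,7,8], 1, [4,5,4,6,2,3,5,1,2,4,10,7,4,6,7,2,4,6,7,6,5,9]⟩,
  ⟨false, [], 1, [3,1,7,4,6,7,6,4,7,11,9,3,1], 1, [3,11,7,6,4,7,6,1,4,7,4,6,3]⟩,
  ⟨false, [], 1, [2,6,1,3,2,4,7,4,6,7,4,1,6,7,3], 1, [3,5,2,1,4,5,6,3,5,3,7,6,3,5,4,7,6,7,8,11]⟩,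
  ⟨false, [], 1, [2,1,4,5,3,4,6,5,4,10,7,6,7,4,7,6,7,4], 1, [1,4,1,2,5,6,5,2,1,4,5,11,7,4,1,6,7,2,4,6,7,6,9]⟩,
  ⟨false, [], 1, [4,5,3,4,1,6,3,2,5,11,7,4,6,7,5,4,6,7,4,5], 1, [5,2,6,5,1,4,1,2,5,10,7,4,6,7,2,4,6,7,6,5,9]⟩,
  ⟨false, [], 1, [1,4,6,5,2,1,3,4,6,5,2,4,7,4,5,2,6,3,7,4,1,7], 1, [2,1,5,4,6,2,5,4,7,4,6,7,2,6,4,7]⟩,
  ⟨false, [], 1, [2,1,3,5,2,6,5,4,1,7,4,6,7,2,4,6,7,6,5,9], 1, [2,4,5,3,4,2,1,6,5,4,1,7,4,7,6,7,4,7,2,4,8]⟩,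
  ⟨false, [], 1, [2,1,3,2,4,6,11,7,4,6,7,2,6,4,7,4,1,8], 1, [3,2,5,4,1,2,6,3,5,11,7,4,1,5,6,7,4,7,2,4]⟩,
  ⟨false, [], 1, [1,3,4,1,11,7,6,7,4,7,2,6,4,7,6,7], 1, [5,6,3,2,5,1,4,1,6,5,11,7,4,6,7,6,4,7,4,1]⟩,
  ⟨false, [], 1, [5,2,3,6,5,4,1,2,5,7,4,6,7,4,6,3,7,4,2,1], 1, [1,2,3,4,2,1,6,5,4,10,7,4,6,7,5,4,6,7,4,5,11]⟩,
  ⟨false, [], 1, [5,4,6,3,5,1,7,4,7,2,6,7,4,1,7,11], 1, [5,4,6,3,5,7,4,7,2,6,3,7,4,7]⟩,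
  ⟨false, [], 1, [3,2,5,6,5,1,4,7,11,8,5,7], 1, [1,2,4,5,3,2,8,6,4,2,5,2]⟩,
  ⟨false, [], 1, [11,7,4,6,7,6,2,4,7,6,2], 1, [2,1,4,5,2,3,4,6,3,5,2,4,7,4,6,7,2,6,4,7,8]⟩,
  ⟨false, [], 1, [2,1,5,3,2,6,5,2,4,1,7,4,5,4,6,7,4,1,10,7], 1, [2,3,4,1,2,5,6,4,5,4,7,4,6,7,4,6,7,2,9]⟩,
  ⟨false, [], 1, [4,6,1,7,6,7,4,7,6,3,7,4,2], 1, [5,2,4,6,2,3,5,2,4,10,7,4,6,7,5,6,4,7,2,4,5]⟩,
  ⟨false, [], 1, [1,3,2,5,4,6,2,5,4,10,7,4,1,6,7,4,6,1,7,9,11], 1, [2,4,6,2,5,2,3,4,1,6,11,7,6,3,5,4,7,6,7]⟩,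
  ⟨false, [], 1, [1,5,6,3,2,5,4,6,5,2,10,7,4,5,6,7,4,3,7,2], 1, [3,4,5,2,4,6,5,2,4,10,7,6,7,4,7,6,7,3,9]⟩,
  ⟨false, [], 1, [2,5,1,3,4,6,5,1,11,7,6,7,4,7,6,7,3,9], 1, [2,4,2,5,6,4,2,3,5,1,2,7,4,7,6,7,4,7,2,4]⟩,
  ⟨false, [], 1, [4,2,3,5,1,4,6,5,4,11,7,4,1,6,3,7,4,6,3,7,4,1], 1, [1,5,3,2,1,6,4,5,2,6,7,4,1,6,7,2,4,6,7,6]⟩,
  ⟨false, [], 1, [4,5,4,1,6,3,5,1,4,10,7,6,7,4,1,7,6,7,2], 1, [5,6,7,4,5,3,6,7,2,1,4,7,4]⟩,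
  ⟨false, [], 1, [5,3,4,1,2,5,4,6,5,2,10,7,6,7,4,7,6,1,7], 1, [2,5,4,6,3,2,1,5,7,6,7,4,7,6,7,3,9]⟩,
  ⟨false, [], 1, [3,2,4,5,4,6,5,2,3,10,7,4,5,6,7,2,6,4,7,4,7,10], 1, [1,2,5,4,6,1,5,4,1,7,4,5,6,7,6,4,3,7,4,7]⟩,
  ⟨false, [], 1, [1,2,3,4,2,5,4,6,5,4,1,7,4,1,7,6,10,7,6,7], 1, [2,3,5,4,6,2,5,2,3,4,6,10,7,2,4,7,6,7,4,1,10,7]⟩,
  ⟨false, [], 1, [1,5,1,6,2,3,4,1,5,10,7,4,5,6,3,7,4,3,7], 1, [3,4,2,5,4,6,2,1,5,3,4,7,6,7,4,7,6,3,7,2]⟩,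
  ⟨false, [], 1, [1,2,4,5,2,4,6,2,5,2,3,4,10,7,4,5,6,7,2,4,7], 1, [1,3,4,1,2,6,3,5,4,7,4,5,6,7,4,3,1,7,10]⟩,
  ⟨false, [], 1, [3,4,2,7,6,4,7,6,4,7,6,1], 1, [5,1,3,4,1,6,3,2,5,6,11,7,4,1,6,7,4,6,7,4,8,11]⟩,
  ⟨true, [3,4,1,5,4,6,3,5,4,1,2], 1, [3,4,1,5,4,6,3,5,4,1,2], 1, [1,4,2,3,5,6,5,3,2,4,1]⟩,
  ⟨false, [], 2, [10,8,6,2,5,4,1,2,5,3,6,3], 2, [1,3,1,3,4,5,2,4,2,9,11]⟩,
  ⟨false, [], 2, [2,1,4,6,2,5,4], 2, [6,3,2,5,6,4,2,5,4]⟩,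
  ⟨false, [], 2, [4,5,6,5,3,4,1,2,5,6,4,2], 2, [4,2,5,6,4,3,2,5,6,1,4,1]⟩,
  ⟨false, [], 2, [7,5,10,7,4,5,6,5,1,4,3,2], 2, [1,4,5,6,7,5,10,7,3,6,1,5]⟩,
  ⟨false, [], 2, [3,5,3,4,9,10], 2, [4,5,6,7,3,5,11,7,3,6,4]⟩,
  ⟨false, [], 2, [4,2,1,5,6,4,5,1,2,4], 2, [6,4,2,5,2,3,6,4,2]⟩,
  ⟨false, [], 2, [2,1,4,5,4,6,2,3,5,2,1,4], 2, [1,4,2,3,5,1]⟩,
  ⟨false, [], 2, [3,5,3,4,6,3,5,2,1], 2, [1,4,2,5,2,3,6,4,2]⟩,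
  ⟨false, [], 2, [2,1,6,2,5,1], 2, [2,3,4,5,6,4,5,2,4,3,2]⟩,
  ⟨false, [], 2, [2,3,4,3,5,4,1], 2, [2,5,6,4,3,2,1,5,6,4,2]⟩,
  ⟨false, [], 2, [4,2,5,3,4,6,5,4,2,3,1], 2, [2,1,4,5,6,3,2,4,1]⟩,
  ⟨false, [], 2, [2,4,2,5,4,6,3,1], 2, [4,6,3,2,5,6,1]⟩,
  ⟨false, [], 2, [1,6,4,2,1,5,3,6,2], 2, [4,2,3,5,1,4,6,5,4]⟩,
  ⟨false, [], 2, [2,4,5,3,6,4,5,3,1,2,4], 2, [6,3,2,5,6,4,5,2,3,1]⟩,
  ⟨false, [], 2, [4,2,6,5,2,4,6], 2, [5,6,1,3,2,5,4,2,1]⟩,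
  ⟨false, [], 2, [3,4,6,7,5,10,7,6,2,4,3,1], 2, [2,6,5,2,1,9,10,6]⟩,
  ⟨false, [], 2, [6,5,4,1,6,2,3,5,2], 2, [2,1,4,5,4,6,5,4,2,3]⟩,
  ⟨false, [], 2, [6,3,5,1,2,6,4,3,1], 2, [2,5,2,3,4,5,2]⟩,
  ⟨false, [], 2, [1,3,5,6,2,3], 2, [1,4,2,5,6,3,5,1,4,3]⟩,
  ⟨false, [], 2, [2,3,4,2,5,4,6,5,4,1], 2, [4,2,5,4,1,6,2,5,4,3]⟩,
  ⟨true, [3,2,5,4,1,2,6,5,2], 1, [], 2, []⟩,
  ⟨false, [], 3, [2,6,5,1,4], 3, [4,2,5,3,2,4,6,2,5,2,4,3,11]⟩,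
  ⟨false, [], 3, [10,1,6,2,6,1,2], 3, [4,5,6,1,2]⟩,
  ⟨false, [], 3, [2,6,3,5,1,4,10,2], 3, [1,3,6,2,5,4,11,4,3,5,3,1]⟩,
  ⟨false, [], 3, [6,5,1,2,3,4,11,2], 3, [3,5,1,4,6,5,10,1,2,4]⟩,
  ⟨false, [], 3, [4,2,3,5,2,4,10,2], 3, [1,4,5,3,4,1,2,6]⟩,
  ⟨false, [], 3, [3,4,3,5,2,4], 3, [2,5,6,3,5,1,4,1]⟩,
  ⟨false, [], 3, [5,6,3,2,5,4,10,5,4,1], 3, [1,2,3,6,5,4,10,5,3,2,4]⟩,
  ⟨false, [], 3, [3,6,5,2,3,4,10,2,5,4,1], 3, [2,5,4,6,1,5,4]⟩,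
  ⟨false, [], 3, [4,5,2,4], 3, [2,6,5,2,1,6,4,1]⟩,
  ⟨false, [], 3, [10,10], 3, [10,10]⟩,
  ⟨false, [], 3, [6,1,2,5,2,3,6,4,5,4], 3, [4,2,3,6,5,2,11,6,4,3,2]⟩,
  ⟨false, [], 3, [3,6,5,2,3,4,11,2,5,4,1], 3, [2,5,4,1,6,5,4]⟩,
  ⟨false, [], 3, [1,3,5,4,6,5,10,2,4,1], 3, [1,2,6,5,1,2]⟩,
  ⟨false, [], 3, [5,2,3,6,3,5,10,6,5,2,4,1], 3, [5,2,1,4,6,5,10,3,2,4]⟩,
  ⟨false, [], 3, [2,1,3,4,6,5,6,4,3,1,2], 3, [5,6,3,2,5,4,10,4,2,5,4,1]⟩,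
  ⟨false, [], 3, [1,2,3,4,5,6,5,4,3,1,2], 3, [2,5,1,6,5,4]⟩,
  ⟨false, [], 3, [1,3,2,4,6,2,5,2,4,3], 3, [4,5,4,6,2,3,5,2,1,11]⟩,
  ⟨false, [], 3, [5,2,1,4,5,6,5,3,2,1], 3, [3,2,6,5,2,4,10,4,3,2,5,4]⟩,
  ⟨false, [], 3, [4,5,4], 3, [5,2,1,3,4,6,10,5,3,2,4,1]⟩,
  ⟨false, [], 3, [3,2,4,5,3,4,6,5,2,4,3,2], 3, [3,6,5,6,1,2,4]⟩,
  ⟨false, [], 3, [2,3,5,1,6,4,5,4,3,1], 3, [3,6,5,2,1,4,10,5,2,1,4,5]⟩,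
  ⟨false, [], 3, [5,3,2,4,6,5,11,2], 3, [1,3,2,1,6,5,4]⟩,
  ⟨true, [1,2,3,6,4,2,3,5], 1, [], 3, []⟩,
  ⟨true, [5,7], 1, [], 4, []⟩,
  ⟨false, [], 4, [3,4,1,6], 4, [1,4,6,3]⟩,
  ⟨false, [], 4, [2,3,5,1,2,6,5,2,4,10,7,4,5,6,7,4,3,1,7,11], 4, [2,5,3,4,1,2,6,7,4,1,5,6,7,4,7,2,4]⟩,
  ⟨false, [], 4, [1,3,4,2,5,2,4,6,2,3,11,7,4,5,6,7,4,3,1,7,11], 4, [1,2,3,6,5,4,1,2,5,6,7,4,1,5,6,7,4,7,2,4]⟩,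
  ⟨false, [], 4, [3,4,6,2,5,4,1,2,6,3,11,7,4,5,6,7,6,4,3,7,4,7], 4, [1,2,1,3,5,4,3,7,4,6,7,5,4,6,7,4,5,10]⟩,
  ⟨false, [], 4, [4,6,5,2,1,3,4,6,5,2,3,10,7,4,1,6,7,4,6,7,6,8,10], 4, [1,5,1,4,1,6,3,2,5,6,4,7,4,6,7,2,4,6,7,6,5,8]⟩,
  ⟨false, [], 4, [1,5,6,5,1,4,3,1,2,5,7,4,5,2,6,3,7,4,7,2], 4, [1,5,3,4,1,2,5,6,3,5,4,10,7,4,5,6,7,2,4,1,7,11]⟩,
  ⟨false, [], 4, [1,4,5,6,4,2,3,5,1,2,4,7,4,5,2,6,3,7,4,7,2], 4, [1,3,4,2,5,2,4,6,5,2,3,11,7,4,5,6,7,2,4,1,7,11]⟩,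
  ⟨true, [1], 2, [2,1,4,5,3,2,6,4,5,4], 3, [2,5,3,4,2,5,9,6,3,5,3]⟩,
  ⟨true, [5,4,7], 2, [2,4,5,3,4,2,6,5,4,1,2,10,7,6,7,4,7,5,6,7,2,4,1], 4, [1,4,1,6,11,7,4,6,7,4,6,3,7,2,1,9]⟩,
  ⟨true, [1,7,4,7], 2, [3,2,1,5,4,10,7,4,6,7,4,7,5,4,6,3,7,4,2], 2, [3,2,7,6,7,9,11,6,7,4,2,7,1]⟩,
  ⟨true, [1,2], 3, [4,1,2,5,4,6,8,3,2], 3, [1,6,3,5,4,9,11,5,1,4,1]⟩,
  ⟨true, [5,4,7], 3, [1,3,4,6,2,1,3,5,6,10,7,4,5,6,7,4,1,6,7,9,11], 4, [2,4,5,3,4,6,5,2,3,4,2,7,4,1,6,3,7,6,4,7,6,9]⟩,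
  ⟨true, [1,7,4,7], 3, [4,5,4,6,2,5,2,3,6,11,7,2,4,7,6,7,4,11,7,5,4,7], 4, [7,4,3,7,6,4,7,10,8,6,7,4,2]⟩,
  ⟨true, [5,4,7,4], 3, [2,5,1,3,6,3,5,7,6,7,4,5,2,6,3], 3, [3,5,3,4,1,2,6,3,5,4,6,7,4,6,5,7,4,6,7,4,8]⟩,
  ⟨true, [1], 4, [5,1,2,3,4,1,6,3,5,11,7,4,6,7,4,6,7,2], 4, [1,2,5,2,3,4,6,2,1,3,5,4,7,4,1,7,6,10,7,6,7]⟩,
  ⟨true, [1,2], 4, [2,1,5,3,2,6,7,4,1,6,7,4,1,6,7,2,8], 4, [2,3,4,5,4,1,6,3,2,10,7,4,5,6,7,4,6,7,4,1,7,9]⟩,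
  ⟨true, [1,7], 4, [3,4,5,4,6,3,5,4,1,10,7,6,7,4,5,6,7,2,3,4], 4, [4,1,2,5,6,5,1,2,3,4,5,7,4,6,7,4,6,7,6,10,7,11]⟩,
  ⟨true, [2,1], 4, [2,5,3,6,4,5,2,1,4,5,6,7,4,5,6,7,2,4,7,9,11], 4, [2,6,4,2,1,5,4,7,4,6,7,5,6,4,7,4,5,6]⟩,
  ⟨true, [2,4], 4, [4,2,3,5,4,6,2,5,2,4,7,6,3,5,4,7,6,7,8,11], 4, [7,4,7,3,6,8,10,3,7,6,7]⟩,
  ⟨true, [5,2], 4, [1,5,3,2,1,4,6,5,2,1,10,7,2,4,6,7,4,7,6,7,2,3], 4, [4,2,1,5,3,4,1,6,3,5,7,4,6,7,4,1,6,3,7,3,9]⟩,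
  ⟨true, [7,4], 4, [1,2,3,4,1,5,2,4,7,2,6,5,4,7,6,1,5,4,7,6,5], 4, [2,5,2,4,6,2,5,2,4,11,7,4,5,6,5,7,4,1,6,10,7,4]⟩,
  ⟨true, [7,6], 4, [5,3,5,10,7,2,6,7,4,1,5,2,7,6,4,3,7], 4, [2,5,6,5,1,4,1,11,7,2,4,7,6,5,7,4,1,7,6,7,6]⟩,
  ⟨true, [1,7,5], 4, [3,4,5,4,1,6,5,7,4,1,5,6,5,7,4,5,6], 4, [2,4,1,5,3,2,11,7,4,6,7,6,7,5,4,6,7,4]⟩,
  ⟨true, [1,7,10,10], 4, [2,4,5,4,1,6,3,2,5,7,4,6,7,4,6,5,2,3,6,4,9], 4, [3,2,4,2,5,4,6,5,2,3,11,7,4,5,6,3,5,7,4,5,2,6,10]⟩,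
  ⟨false, [], 4, [1,4,2,5,3,2,4,6,5,3,2,7,4,7,6,5,7,4,6,5,2,3,6], 4, [5,6,5,1,2,4,10,7,4,1,6,7,4,6,3,5,4,11]⟩,
  ⟨false, [], 4, [1,5,1,3,2,4,1,7,4,6,5,7,4,7,6,5,4,1,7], 4, [6,2,1,5,3,2,4,6,5,2,7,4,7,4,6,7,4,5,2,4,6,7,6]⟩,
  ⟨false, [], 4, [2,1,4,5,3,6,3,10,7,6,5,4,7,2,6,3,7], 4, [1,2,3,5,1,4,1,11,7,4,5,6,7,4,7,6,2,9]⟩,
  ⟨false, [], 4, [1,2,5,4,6,2,1,7,4,6,7,2,4,6,1,5,2], 4, [2,3,4,5,4,6,3,7,4,6,3,7,4,6,1,5,4]⟩,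
  ⟨false, [], 4, [1,3,2,4,5,6,4,5,4,1,7,2,6,5,4,7,6,7,5,4,1,7,2,6], 4, [3,4,5,6,5,1,4,3,1,2,7,4,5,6,7,6,5,4,7,5,6]⟩,
  ⟨false, [], 4, [2,4,5,3,6,4,2,3,5,7,6,5,4,7,4,1,6,3,7,5,4], 4, [1,3,2,4,5,3,6,3,5,7,4,7,2,6,7,6,4,5,7,5,6]⟩,
  ⟨false, [], 4, [3,2,5,4,1,2,6,5,4,1,10,7,4,1,6,7,6,4,7,5,6,9], 4, [2,3,6,11,7,2,6,5,4,7,6,5,4,7,6,3,8]⟩,
  ⟨true, [2,1,5], 4, [5,1,2,3,4,1,6,5,4,10,7,4,7,6,3,7,5,4,6,7,2,5,1], 3, [1,4,6,5,2,3,4,6,5,2,3,11,7,2,6,3,7,4,5,2]⟩,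
  ⟨true, [2,7,4], 4, [3,6,5,2,3,4,2,11,7,5,4,6,7,4,7,5,4,6,5], 4, [2,4,2,5,6,4,2,1,5,3,2,4,7,4,6,3,5,7,5,1]⟩,
  ⟨true, [2,7,5], 4, [6,5,1,2,11,7,2,4,5,6,7,4,1,7,6,5,7], 3, [3,2,5,4,6,3,2,5,4,1,2,7,4,6,3,7,4,5,6,3,7,4,5]⟩,
  ⟨true, [5,2,7], 4, [2,5,2,4,6,2,1,3,5,4,11,7,2,4,6,5,2,4,7], 4, [2,3,4,2,5,2,4,6,3,10,7,4,6,7,2,4,6,5,7,6]⟩,
  ⟨true, [5,4,7], 4, [4,5,3,2,4,6,2,3,5,4,10,7,4,6,7,4,6,7,6,7,5,8,10], 4, [6,2,4,2,3,5,4,11,7,4,7,6,7,5,4,7,2,6,5,7]⟩,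
  ⟨true, [7,2,4], 4, [3,4,1,5,3,6,3,5,4,1,7,4,6,7,6,7,4,7,5,6,8], 4, [1,4,5,2,3,6,5,1,4,1,2,11,7,6,5,4,7,6,3,5,4,7,3]⟩,
  ⟨true, [7,4,7], 4, [4,5,4,6,3,5,1,4,11,7,4,5,2,6,5,7], 3, [1,3,2,4,5,3,6,5,2,3,11,7,4,5,6,5,4,7,4,7,4,6]⟩,
  ⟨true, [7,4,10], 4, [5,2,1,4,5,2,3,6,3,10,7,4,6,5,2,4,7,6,3,10,7], 4, [2,3,6,5,2,3,6,4,2,5,2,7,6,7,4,7,4,2,6,5,2,1]⟩,
  ⟨true, [7,5,1], 4, [2,5,2,4,6,5,7,4,5,6,5,4,7,4,6,7,8], 2, [2,5,2,3,4,6,2,1,5,10,7,6,7,4,7,4,6,7,5,4,3]⟩,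
  ⟨true, [7,6,10], 4, [4,1,2,5,4,1,6,2,3,5,10,7,4,5,6,3,7,5,6,4,7,2,5,1], 3, [5,1,4,6,2,10,7,2,6,7,4,7,6,5,4,7,11]⟩,
  ⟨true, [1,5,2,7], 4, [2,5,3,2,4,2,6,3,5,4,7,2,4,7,6,5,7,4,5,6,3,2,1], 2, [1,4,5,3,2,1,6,3,5,4,6,7,4,1,5,6,7,4,1,7]⟩,
  ⟨true, [1,7,5,1], 4, [3,5,2,1,4,5,6,3,2,5,4,10,7,4,7,6,5,7,4,7,6,2,7,8], 3, [2,3,6,3,5,4,1,2,6,7,2,6,7,4,7,6,5,4,7,3,6,2]⟩,
  ⟨true, [1,7,6,5], 4, [5,2,1,4,6,2,5,2,4,7,2,6,5,4,7,6,7,4,3,7], 4, [5,3,4,6,2,1,5,2,3,6,4,5,7,6,5,4,7,2,4,6,5,4,1]⟩,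
  ⟨true, [5,2,7,4], 4, [4,1,5,2,4,6,5,7,4,7,4,6,7,4,5,4,11], 4, [6,4,5,2,1,4,5,6,7,4,5,6,7,4,5,7,5,6,5,9]⟩,
  ⟨true, [7,2,4,5], 4, [1,4,2,1,3,5,4,1,6,5,4,1,10,7,4,5,4,6,7,4,5,2,6,5], 4, [5,2,3,6,5,4,1,2,5,6,11,7,2,4,1,6,7,4,5,6,3,7,11]⟩,
  ⟨true, [1,5,7,4,6], 4, [4,2,1,6,10,7,6,5,4,7,4,6,5,7,4,7], 4, [1,4,5,2,6,1,2,5,7,4,5,6,3,7,5,4,6,1,3,7]⟩,
  ⟨true, [5,7,6,4,7], 2, [6,2,5,1,2,4,6,2,1,11,7,4,6,3,5,7,4,6,7,11], 3, [5,3,6,3,5,2,1,11,7,4,6,3,5,7,4,6,5,4,7,6,7]⟩,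
  ⟨true, [5,1,7,6,4,7], 2, [1,3,2,4,5,2,6,3,5,4,7,4,5,6,3,7,5,6,4,7,4,7,10], 3, [6,2,1,4,5,6,4,2,1,5,3,2,7,2,4,5,6,5,7,4,6,10,7,4]⟩,
  ⟨true, [7,4], 3, [5,3,6,5,2,1,4,5,2,6,7,4,6,5,7,4,10,7], 3, [4,2,5,4,1,2,6,5,2,4,10,7,4,1,5,6,7,4,5,6,7,5,4]⟩,
  ⟨true, [5,1,7,6,4,7], 3, [3,5,4,6,2,7,4,6,7,2,6,1,4], 3, [2,1,3,4,6,5,4,1,7,4,5,4,6,7,4,1,5,6,4,3]⟩]

/-- their derivations -/
def CT : List (Option (List ℕ × List (List ℕ) × List Mv × List Mv)) := [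
  none,
  none,
  none,
  none,
  none,
  none,
  none,
  none,
  some ([], [],
    [.q 14, .q 10],
    []),
  some ([], [],
    [.q 17, .q 11],
    []),
  some ([], [],
    [.q 18, .q 7],
    []),
  some ([], [],
    [.q 19, .q 3],
    []),
  some ([], [],
    [.q 20, .q 2],
    []),
  some ([], [],
    [.q 18, .q 9],
    []),
  some ([], [],
    [.q 26, .q 13],
    []),
  some ([], [],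
    [.q 26, .q 2],
    []),
  some ([], [],
    [.q 27, .q 20],
    []),
  some ([], [],
    [.q 32, .q 3],
    []),
  some ([], [],
    [.q 28, .q 27],
    []),
  some ([], [],
    [.q 32, .q 32],
    []),
  some ([], [],
    [.q 39, .q 31],
    []),
  some ([], [],
    [.q 35, .q 39],
    []),
  some ([], [],
    [.q 37, .q 8],
    []),
  some ([], [],
    [.q 39, .q 41],
    []),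
  some ([], [],
    [.q 42, .q 8],
    []),
  some ([], [],
    [.q 45, .q 49],
    []),
  some ([], [],
    [.q 49, .q 39],
    []),
  some ([], [],
    [.q 49, .q 45],
    []),
  some ([], [],
    [.q 50, .q 2],
    []),
  some ([], [],
    [.q 50, .q 17],
    []),
  some ([], [],
    [.q 54, .q 4],
    []),
  some ([], [],
    [.q 60, .q 19],
    []),
  some ([], [],
    [.q 63, .q 8],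
    []),
  some ([], [],
    [.q 58, .q 22],
    []),
  some ([], [],
    [.q 64, .q 59],
    []),
  some ([], [],
    [.q 63, .q 63],
    []),
  some ([], [],
    [.q 69, .q 55],
    []),
  some ([], [],
    [.q 67, .q 53],
    []),
  some ([], [],
    [.q 75, .q 17],
    []),
  some ([], [],
    [.q 77, .q 53],
    []),
  some ([], [],
    [.q 72, .q 53],
    []),
  some ([], [],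
    [.q 77, .q 32],
    []),
  some ([], [],
    [.q 83, .q 58],
    []),
  some ([], [],
    [.q 79, .q 28],
    []),
  some ([], [],
    [.q 87, .q 54],
    []),
  some ([], [],
    [.q 88, .q 23],
    []),
  some ([], [],
    [.q 91, .q 82],
    []),
  some ([], [],
    [.q 90, .q 66],
    []),
  some ([], [],
    [.q 88, .q 53],
    []),
  some ([], [],
    [.q 90, .q 13],
    []),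
  some ([], [],
    [.q 92, .q 91],
    []),
  some ([], [],
    [.q 99, .q 26],
    []),
  some ([], [],
    [.q 102, .q 26],
    []),
  some ([], [],
    [.q 100, .q 97],
    []),
  some ([], [],
    [.q 106, .q 88],
    []),
  some ([], [],
    [.q 109, .q 58],
    []),
  some ([], [],
    [.q 108, .q 66],
    []),
  some ([], [],
    [.q 109, .q 68],
    []),
  some ([], [],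
    [.q 108, .q 84],
    []),
  some ([], [],
    [.q 112, .q 88],
    []),
  some ([], [],
    [.q 116, .q 60],
    []),
  some ([], [],
    [.q 118, .q 85],
    []),
  some ([], [],
    [.q 119, .q 46],
    []),
  some ([], [],
    [.q 120, .q 51],
    []),
  some ([], [],
    [.q 122, .q 94],
    []),
  some ([], [],
    [.q 129, .q 86],
    []),
  some ([], [],
    [.q 131, .q 125],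
    []),
  some ([], [],
    [.q 127, .q 14],
    []),
  some ([], [],
    [.q 133, .q 74],
    []),
  some ([], [],
    [.q 136, .q 17],
    []),
  some ([], [],
    [.q 139, .q 46],
    []),
  none,
  none,
  some ([], [],
    [.q 145, .q 145],
    []),
  some ([], [],
    [.q 147, .q 147],
    []),
  some ([], [],
    [.q 148, .q 145],
    []),
  some ([], [],
    [.q 146, .q 151],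
    []),
  some ([], [],
    [.q 153, .q 144],
    []),
  none,
  some ([], [],
    [.q 156, .q 148],
    []),
  some ([], [],
    [.q 154, .q 156],
    []),
  some ([], [],
    [.q 161, .q 146],
    []),
  some ([], [],
    [.q 158, .q 148],
    []),
  some ([], [],
    [.q 160, .q 164],
    []),
  some ([], [],
    [.q 160, .q 147],
    []),
  some ([], [],
    [.q 164, .q 169],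
    []),
  some ([], [],
    [.q 166, .q 163],
    []),
  some ([], [],
    [.q 170, .q 152],
    []),
  some ([], [],
    [.q 172, .q 161],
    []),
  some ([], [],
    [.q 171, .q 167],
    []),
  some ([], [],
    [.q 179, .q 164],
    []),
  some ([], [],
    [.q 181, .q 177],
    []),
  none,
  none,
  none,
  some ([], [],
    [.q 188, .q 187],
    []),
  some ([], [],
    [.q 186, .q 188],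
    []),
  some ([], [],
    [.q 187, .q 193],
    []),
  some ([], [],
    [.q 188, .q 195],
    []),
  some ([], [],
    [.q 196, .q 192],
    []),
  some ([], [],
    [.q 199, .q 186],
    []),
  some ([], [],
    [.q 197, .q 197],
    []),
  some ([], [],
    [.q 196, .q 203],
    []),
  some ([], [],
    [.q 201, .q 192],
    []),
  some ([], [],
    [.q 200, .q 205],
    []),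
  some ([], [],
    [.q 206, .q 192],
    []),
  some ([], [],
    [.q 210, .q 187],
    []),
  some ([], [],
    [.q 210, .q 198],
    []),
  some ([], [],
    [.q 209, .q 188],
    []),
  none,
  some ([], [],
    [.q 214, .q 197],
    []),
  some ([], [],
    [.q 221, .q 217],
    []),
  some ([], [],
    [.q 222, .q 218],
    []),
  some ([], [],
    [.q 221, .q 196],
    []),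
  some ([], [],
    [.q 224, .q 211],
    []),
  none,
  none,
  some ([], [[],[]],
    [.s 233 [], .q 4, .s 232 [4]],
    [.z, .s 0 []]),
  some ([], [[],[]],
    [.s 233 [], .q 45, .q 91, .s 232 [135,101,66]],
    [.z, .s 0 []]),
  some ([], [],
    [.q 235, .q 236],
    []),
  some ([], [[],[]],
    [.s 233 [], .q 37, .q 131, .q 11, .s 232 [140,109,8]],
    [.z, .s 0 []]),
  some ([], [],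
    [.q 234, .q 239],
    []),
  some ([], [],
    [.q 239, .q 237],
    []),
  some ([], [],
    [.q 239, .q 242],
    []),
  some ([4,2,1,3,5,4,6,3,11,7,4,1,6,7,4,6,1,7,9,11], [[2,4],[4,1,5,6,5,7,4,6,3,7,4,6,3,7,4,11]],
    [.q 181, .s 185 [120,13,18], .q 21, .s 230 [85,94,13]],
    [.z, .s 142 [36,11,7], .q 94, .q 22, .q 10]),
  some ([5,2,4,6,5,2,3,10,7,4,6,7,6,4,7,4,1,8], [[2,4],[1,4,6,2,1,5,4,6,1,3,7,4,6,5,4,7,6,5,7,5,2]],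
    [.q 147, .s 185 [67,130,33], .q 95, .q 108, .s 232 [133,139,21]],
    [.z, .s 142 [36,11,7], .q 71, .q 36, .q 51]),
  some ([1,4,5,2,4,6,3,5,10,7,4,1,6,7,4,6,7,4,8,11], [[2,4],[2,4,2,5,4,6,2,1,5,2,4,10,7,4,7,2,6,5,2,4,7]],
    [.s 185 [70,54,43], .q 22, .q 10, .s 184 [19,83,5]],
    [.z, .s 142 [36,11,7], .q 141, .q 28, .q 43]),
  some ([4,5,2,3,6,5,2,1,4,5,6,11,7,6,7,4,7,6,1,7,10], [[2,4],[1,2,6,2,1,5,3,4,1,10,7,4,1,6,7,4,1,6,7,2]],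
    [.q 189, .s 231 [68,23,2], .q 29, .s 230 [133,34,7]],
    [.z, .s 142 [36,11,7], .q 56, .q 97, .q 21]),
  some ([5,2,4,6,5,2,1,11,7,4,6,7,6,4,7,4,1], [[2,4],[2,5,2,3,4,6,2,1,3,10,7,4,1,5,6,5,2,4,7,5,4]],
    [.q 186, .s 231 [65,116,4], .q 98, .q 71, .s 232 [71,125,11]],
    [.z, .s 142 [36,11,7], .q 84, .q 99, .q 24]),
  some ([1,2,3,4,2,5,6,7,4,5,6,7,2,4,7], [[2,4],[6,1,3,5,4,7,4,5,6,5,4,1,7,4,5,6]],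
    [.s 231 [48,96,9], .q 87, .q 104, .q 2, .s 232 [136,42,31]],
    [.z, .s 142 [36,11,7], .q 13, .q 141, .q 67]),
  some ([6,5,1,2,3,4,6,5,10,7,4,1,6,7,6,3,2,4,7,8], [[2,4],[2,5,3,2,1,4,5,6,3,5,1,4,10,7,6,7,4,5,7,6,7,5,4]],
    [.q 216, .s 231 [69,122,9], .q 140, .q 53, .s 230 [72,70,20]],
    [.z, .s 142 [36,11,7], .q 72, .q 108]),
  some ([1,4,5,6,3,2,5,1,2,4,6,5,11,7,4,7,6,7,4,3,7,10], [[2,4],[1,3,6,5,2,4,3,5,7,6,7,4,5,6,7,2,4,7,6]],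
    [.q 236, .s 251 [63,136,28], .q 180, .q 157, .q 144, .s 250 [126,13,14]],
    [.z, .s 142 [36,11,7], .q 70, .q 80, .q 9]),
  some ([6,3,5,4,1,2,10,7,4,5,6,7,4,3,7,4,9], [[2,4],[4,2,1,3,6,11,7,4,6,7,4,6,3,5,7,4,6,8]],
    [.q 244, .q 240, .s 259 [123,135,2], .q 208, .q 200, .s 258 [66,11,5]],
    [.z, .s 142 [36,11,7], .q 115, .q 123, .q 4]),
  some ([5,4,6,3,5,1,7,4,6,7,4,6,7,2], [[2,4],[4,5,3,2,1,2,6,7,4,6,7,4,6,1,3,5,7,5,4]],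
    [.q 236, .s 251 [112,124,8], .q 172, .s 250 [21,70,84]],
    [.z, .s 142 [36,11,7], .q 72, .q 57, .q 22]),
  some ([2,5,4,6,3,2,5,1,4,7,4,6,3,7,4,6,3,7,4,10], [[2,4],[5,1,3,4,6,5,2,1,3,4,5,10,7,4,6,7,4,1,6,7,3,2,5]],
    [.q 244, .s 259 [116,9,141,93], .q 228, .q 201, .q 194, .s 258 [117,65,38]],
    [.z, .s 142 [36,11,7], .q 129, .q 51, .q 7]),
  some ([2,5,6,4,3,2,5,6,3,7,4,6,7,6,4,7,4,1,9], [[2,4],[1,2,3,4,6,5,2,4,3,1,7,4,6,7,5,4,6,3,5,7,2]],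
    [.q 240, .s 251 [81,123,28], .q 175, .q 144, .s 250 [119,28]],
    [.z, .s 142 [36,11,7], .q 49, .q 131, .q 2]),
  some ([1,3,2,4,6,2,3,5,6,7,4,6,7,6,4,7,4,6,9], [[2,4],[2,5,1,2,4,3,2,1,7,4,6,5,7,4,6,7,4,5]],
    [.q 237, .s 257 [46,44,2], .q 203, .q 188, .s 256 [118,31,10]],
    [.z, .s 142 [36,11,7], .q 121, .q 100, .q 42]),
  some ([2,5,4,1,6,2,5,3,4,7,4,6,7,6,4,7,6,4,8], [[2,4],[4,2,5,3,6,5,4,1,10,7,4,6,7,5,4,6,3,7,4]],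
    [.q 240, .q 237, .s 268 [99,140,12], .q 240, .q 235, .s 272 [102,95,42]],
    [.z, .s 142 [36,11,7], .q 100, .q 71, .q 25]),
  some ([1,3,5,4,6,5,2,4,7,4,6,7,4,1,6,7,6,9], [[2,4],[1,4,2,5,6,5,1,7,4,6,7,6,4,3,7,5,6,5,4]],
    [.q 244, .s 257 [28,81,43], .q 227, .q 186, .s 258 [33,134,130]],
    [.z, .s 142 [36,11,7], .q 3, .q 115, .q 14]),
  some ([2,5,2,6,4,2,5,2,4,7,6,7,4,7,2,6,4,7,6,7], [[2,4],[5,1,3,4,11,7,4,6,5,4,7,6,11,7,5]],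
    [.q 246, .q 240, .q 234, .s 266 [47,68,55], .q 240, .s 276 [108,50,84]],
    [.z, .s 142 [36,11,7], .q 73, .q 89, .q 14]),
  some ([6,3,5,4,1,2,11,7,4,5,6,7,2,4,7,8], [[2,4],[3,4,2,5,4,6,2,1,3,5,10,7,4,6,7,4,6,3,5,7,6,4]],
    [.q 245, .s 265 [108,135,12], .q 240, .q 239, .s 266 [114,132,22]],
    [.z, .s 142 [36,11,7], .q 126, .q 65, .q 46]),
  some ([2,4,5,4,1,6,3,2,5,7,4,6,7,4,6,5,2,3,6,4,9], [[],[1,4,5,3,4,2,1,6,5,4,1,11,7,4,7,6,10,7,6,5,6,4]],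
    [.s 281 [], .q 242, .q 240, .s 277 [76,70,27]],
    [.z, .s 0 []]),
  some ([], [],
    [.q 282, .q 244],
    []),
  some ([], [],
    [.q 246, .q 241],
    []),
  some ([], [],
    [.q 285, .q 244],
    []),
  some ([], [],
    [.q 288, .q 247],
    []),
  some ([], [],
    [.q 291, .q 291],
    []),
  some ([], [],
    [.q 287, .q 284],
    []),
  some ([1,4,5,4,6,5,2,3,4,1,11,7,4,6,7,4,1,6,7,3], [[2,4],[4,2,1,5,6,5,2,11,7,4,1,6,7,4,6,1,3,5,7,5]],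
    [.q 285, .q 240, .s 266 [81,3,36], .q 282, .q 291, .q 283, .s 257 [80,120,19]],
    [.z, .s 142 [36,11,7], .q 54, .q 110, .q 12]),
  some ([1,4,1,5,2,3,6,5,10,7,2,4,7,6,7,4,1,10,7], [[2,4],[1,5,3,2,4,1,7,4,1,6,5,7,4,6,7,5,4]],
    [.q 282, .q 288, .q 282, .s 279 [106,130,18], .q 285, .q 290, .q 282, .s 262 [35,79,66]],
    [.z, .s 142 [36,11,7], .q 131, .q 141]),
  some ([2,5,3,6,5,3,2,4,1,7,4,1,6,7,4,1,6,7,2,9], [[2,4],[1,4,1,5,6,4,2,1,5,2,4,7,4,1,6,7,4,6,1,3,5,7,5]],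
    [.q 285, .q 292, .q 284, .s 298 [118,94,22], .q 240, .s 259 [74,122,14]],
    [.z, .s 142 [36,11,7], .q 116, .q 44, .q 30]),
  some ([5,4,6,3,5,4,7,4,6,7,4,1,6,7,6,9], [[2,4],[2,1,5,4,1,6,2,3,5,4,10,7,4,7,6,5,4,7,6,5,4,8]],
    [.q 291, .q 243, .s 279 [89,100,60], .q 285, .q 290, .q 282, .s 266 [112,60,4]],
    [.z, .s 142 [36,11,7], .q 37, .q 132, .q 52]),
  some ([1,5,3,2,6,4,3,5,2,7,4,6,7,5,4,6,7,4,5,11], [[2,4],[5,2,3,4,1,6,5,2,3,6,11,7,4,1,6,5,7,4,6,3,7,5]],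
    [.q 294, .q 283, .q 289, .q 237, .s 278 [71,13,3], .q 293, .q 283, .q 239, .s 277 [24,102,33]],
    [.z, .s 142 [36,11,7], .q 4, .q 118, .q 3]),
  some ([3,4,1,5,4,6,5,2,4,1,11,7,4,6,7,4,6,7,2,6,4,8], [[2,4],[1,4,5,2,1,3,6,4,5,4,1,7,4,7,2,6,5,2,4,7]],
    [.q 286, .s 265 [140,61,110], .q 294, .q 283, .q 237, .s 275 [85,59,12]],
    [.z, .s 142 [36,11,7], .q 12, .q 79, .q 5]),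
  some ([2,1,4,5,4,6,2,5,2,4,7,2,6,5,4,7,4,7,6,11,7], [[2,4],[4,2,1,5,2,3,4,6,5,2,4,7,4,6,7,4,6,3,5,7,4,6,11]],
    [.q 294, .q 282, .q 290, .q 236, .s 279 [84,109,34], .q 294, .q 244, .s 300 [101,115,45]],
    [.z, .s 142 [36,11,7], .q 71, .q 112, .q 31]),
  some ([4,5,2,3,6,5,2,1,4,5,6,7,6,7,4,7,6,7,4], [[2,4],[5,4,1,6,5,3,4,1,7,4,7,6,5,4,7,6,5,4,8]],
    [.q 290, .q 284, .s 280 [92,141,23], .q 291, .q 282, .q 235, .s 266 [101,62,12]],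
    [.z, .s 142 [36,11,7], .q 51, .q 94, .q 22]),
  some ([1,2,6,2,1,5,3,4,11,7,4,6,7,2,6,4,7,8], [[2,4],[11,7,6,4,7,6,5,7,11,6,7,1,2]],
    [.q 294, .q 283, .q 292, .s 278 [138,72,59], .q 293, .q 283, .q 237, .s 251 [12,120,41]],
    [.z, .s 142 [36,11,7], .q 67, .q 115, .q 8]),
  some ([1,2,5,3,2,4,2,5,6,3,10,7,4,6,7,4,1,6,7,6,8], [[2,4],[2,4,2,6,5,1,2,6,3,10,7,4,6,5,7,4,6,7,4,5]],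
    [.q 284, .q 283, .q 294, .q 239, .s 267 [52,117,31], .q 282, .q 289, .s 296 [43,133,22]],
    [.z, .s 142 [36,11,7], .q 131, .q 57, .q 5]),
  some ([5,6,7,4,1,5,6,7,4,7,4,3,2], [[2,4],[2,4,2,5,3,4,10,7,4,1,6,7,5,6,4,3,7,10]],
    [.q 294, .q 237, .s 281 [101,71,45], .q 289, .q 283, .s 312 [31,100,10]],
    [.z, .s 142 [36,11,7], .q 123, .q 57, .q 113]),
  some ([1,5,1,3,6,5,2,4,10,7,4,1,6,3,7,4,6,3,7,4,1], [[2,4],[1,2,3,5,6,7,4,6,5,4,7,6,7,2,9]],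
    [.q 235, .q 294, .q 283, .s 274 [94,133,7], .q 286, .q 293, .q 282, .q 234, .s 300 [69,121,47]],
    [.z, .s 142 [36,11,7], .q 81, .q 118, .q 33]),
  some ([5,3,2,6,3,5,7,4,6,7,4,6,3,7,4,2,6], [[2,4],[3,4,1,5,3,6,7,4,6,5,4,7,6,7,2,6]],
    [.q 237, .q 283, .s 270 [89,120,44], .s 263 [124,49,2]],
    [.z, .s 142 [36,11,7], .q 73, .q 45, .q 3]),
  some ([4,5,3,6,5,4,1,2,5,3,4,10,7,4,6,7,6,4,7,4,1], [[2,4],[4,5,3,6,3,5,4,1,2,5,4,7,6,7,4,5,7,6,7,5,4]],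
    [.q 240, .q 284, .q 235, .s 267 [72,95,44], .q 286, .q 293, .q 235, .s 266 [74,115,70]],
    [.z, .s 142 [36,11,7], .q 18, .q 107, .q 15]),
  some ([2,3,4,5,3,4,6,5,2,4,1,7,4,1,6,7,4,7,2,6,7,6,7], [[2,4],[2,3,5,6,4,2,5,2,4,1,7,4,7,6,5,4,1,7,2]],
    [.q 288, .q 291, .q 235, .s 314 [108,56,2], .q 217, .q 186, .s 309 [23,55,13]],
    [.z, .s 142 [36,11,7], .q 30, .q 119, .q 13]),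
  some ([3,5,4,1,2,5,6,5,4,1,7,4,6,7,4,6,7,2,4,6,8], [[2,4],[4,2,5,2,4,6,2,1,3,11,7,4,1,5,6,5,2,4,7,5,4]],
    [.q 294, .q 284, .q 282, .s 279 [103,57,14], .q 283, .q 285, .q 237, .s 325 [43,76,70]],
    [.z, .s 142 [36,11,7], .q 124, .q 94, .q 31]),
  some ([1,5,3,4,6,5,2,1,3,4,11,7,4,5,2,6,7,4,7,11], [[2,4],[3,4,5,4,6,5,2,4,1,10,7,4,7,6,7,4,7,5,4,6,5]],
    [.q 183, .q 166, .q 152, .s 313 [14,70,9], .q 283, .q 236, .s 296 [88,73,87]],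
    [.z, .s 142 [36,11,7], .q 86, .q 21]),
  some ([2,1,5,4,1,6,2,3,5,2,4,11,7,4,6,7,6,4,7,9], [[2,4],[3,2,5,4,6,3,5,2,1,4,5,6,11,7,4,7,2,6,5,2,4,7]],
    [.q 151, .q 181, .q 145, .s 317 [35,80,64], .q 294, .q 282, .q 235, .s 318 [30,15,12]],
    [.z, .s 142 [36,11,7], .q 32, .q 80, .q 41]),
  some ([2,1,4,6,5,4,1,2,7,4,5,6,7,2,4,7,11], [[2,4],[4,5,2,3,6,5,4,1,2,5,4,11,7,4,6,7,6,7,5,4,7,5,11]],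
    [.q 217, .q 219, .q 213, .s 297 [80,106,7], .q 283, .q 289, .q 237, .s 300 [133,141,5]],
    [.z, .s 142 [36,11,7], .q 53, .q 60, .q 2]),
  some ([1,3,4,2,5,6,3,2,1,4,5,4,11,7,4,1,6,7,4,6,7,6,10], [[2,4],[1,4,2,5,4,6,3,2,5,7,4,1,7,6,7,4,5,7,6,3]],
    [.q 208, .q 225, .q 187, .s 319 [13,109,12], .q 283, .q 237, .s 308 [44,68,5]],
    [.z, .s 142 [36,11,7], .q 44, .q 121, .q 14])]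

theorem FT_ok0 : allR (fun n => chk (FT.take n) (getN Fc.triv FT n) (getN none CT n)) 0 60 = true := by
  decide +kernel

theorem FT_ok60 : allR (fun n => chk (FT.take n) (getN Fc.triv FT n) (getN none CT n)) 60 30 = true := by
  decide +kernel

theorem FT_ok90 : allR (fun n => chk (FT.take n) (getN Fc.triv FT n) (getN none CT n)) 90 20 = true := by
  decide +kernel

theorem FT_ok110 : allR (fun n => chk (FT.take n) (getN Fc.triv FT n) (getN none CT n)) 110 20 = true := by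
  decide +kernel

theorem FT_ok130 : allR (fun n => chk (FT.take n) (getN Fc.triv FT n) (getN none CT n)) 130 20 = true := by
  decide +kernel

theorem FT_ok150 : allR (fun n => chk (FT.take n) (getN Fc.triv FT n) (getN none CT n)) 150 18 = true := by
  decide +kernel

theorem FT_ok : ∀ n < FT.length, chk (FT.take n) (getN Fc.triv FT n) (getN none CT n) = true := by
  intro n hn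
  change n < 168 at hn
  by_cases h0 : n < 60
  · have := allR_iff.1 FT_ok0 (n - 0) (by omega)
    rwa [show 0 + (n - 0) = n by omega] at this
  by_cases h60 : n < 90
  · have := allR_iff.1 FT_ok60 (n - 60) (by omega)
    rwa [show 60 + (n - 60) = n by omega] at this
  by_cases h90 : n < 110
  · have := allR_iff.1 FT_ok90 (n - 90) (by omega)
    rwa [show 90 + (n - 90) = n by omega] at this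
  by_cases h110 : n < 130
  · have := allR_iff.1 FT_ok110 (n - 110) (by omega)
    rwa [show 110 + (n - 110) = n by omega] at this
  by_cases h130 : n < 150
  · have := allR_iff.1 FT_ok130 (n - 130) (by omega)
    rwa [show 130 + (n - 130) = n by omega] at this
  by_cases h150 : n < 168
  · have := allR_iff.1 FT_ok150 (n - 150) (by omega)
    rwa [show 150 + (n - 150) = n by omega] at this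
  omega

end Cfsg.Lib.LyT
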