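import Cfsg.Agent.LyT.H11D
import Cfsg.Agent.LyT.McL

/-! The word problem in the double cover of the alternating group of degree 11. -/

set_option autoImplicit false
set_option maxRecDepth 100000
set_option Elab.async false

namespace Cfsg.Lib.LyT

open Subgroup Equiv Cfsg.Lib.Spor Cfsg.Lib.Spor.Bulk Cfsg.Lib.Spor.PK Cfsg.Lib.Spor.WF Cfsg.Lib.DC
  Cfsg.Lib.Known Cfsg.Lib.Spor.WM

variable {G : Type*} [Group G]

/-- the letters `a..f, x, X, o, O, s` -/
def gH (c : ℕ → G) (l : ℕ) : G := wv c (W11.getD l [])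

theorem gH_eq_1' : type_of% @gH.eq_1 := @gH.eq_1

/-- the letters of `2.A₁₁` -/
def LH : List ℕ := [1,2,3,4,5,6,8,9,10,11,12]

theorem W11_mem (l : ℕ) : ∀ a ∈ W11.getD l [], a ∈ Lc 9 := by
  by_cases hl : l < 13
  · revert l; decide +kernel
  · rw [List.getD_eq_default _ _ (show W11.length ≤ l by change 13 ≤ l; omega)]; simp

theorem gH_mem (c : ℕ → G) (l : ℕ) : gH c l ∈ gL c (Lc 9) :=
  wv_mem _ fun a ha => mem_gL (W11_mem l a ha)

theorem wv_gH (c : ℕ → G) (W : List ℕ) :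
    wv (gH c) W = wv c (W.flatMap fun l => W11.getD l []) := (wv_flatMap _ _ _).symm

theorem gH_map {G' : Type*} [Group G'] (f : G →* G') (c : ℕ → G) (l : ℕ) :
    gH (fun l => f (c l)) l = f (gH c l) := wv_map f c _

theorem hT_low : 39916800 ≤ Nat.card (gL (prm hT 5040) (Lc 9)) :=
  le_trans (by norm_num) (Low.le (Low.step hT_ok hT_w (Low.step hT_ok hT_w
    (Low.step hT_ok hT_w (Low.one _ _) hT_l2) hT_l1) hT_l0))

theorem hT_base {x : Perm (Fin 5040)} (hx : x ∈ gL (prm hT 5040) (Lc 9))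
    (h : ∀ p : Fin 5040, (p : ℕ) ∈ [1, 328, 0] → x p = p) : x = 1 := by
  have h1 := Low.le (Low.step hT_ok hT_w (Low.step hT_ok hT_w (Low.step hT_ok hT_w
    (le_refl (Nat.card (fixS (gL (prm hT 5040) (Lc 9)) [1, 328, 0]))) hT_l2) hT_l1) hT_l0)
  have h2 := h1.trans (upC9 hT_sat).2
  have h3 : Nat.card (fixS (gL (prm hT 5040) (Lc 9)) [1, 328, 0]) ≤ 1 := by omega
  exact mem_bot.1 (((Subgroup.card_le_one_iff_eq_bot _).1 h3).le ⟨hx, h⟩)

theorem wv_eq_one_of_fix {c : ℕ → G} (hc : Sat c 20 iC (Rc 9)) {W : List ℕ}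
    (hW : ∀ l ∈ W, l ∈ Lc 9)
    (h : ∀ p : Fin 5040, (p : ℕ) ∈ [1, 328, 0] → wv (prm hT 5040) W p = p) : wv c W = 1 := by
  obtain ⟨φ, -, h2⟩ := exists_hom_gL (upC9 (hT_sat.prod hc)) hT_low
  rw [← h2 W hW, ← φ.map_one]
  exact congrArg φ (Subtype.ext (hT_base (wv_mem _ fun l hl => mem_gL (hW l hl)) h))

/-- the word in the Carmichael letters is trivial -/
noncomputable def cB (W : List ℕ) : Bool :=
  band (Bulk.allL (fun l => band (Nat.ble 1 l) (Nat.blt l 20)) W)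
    (Bulk.allL (fun p => fixB hT p W) [1, 328, 0])

theorem crel {c : ℕ → G} (hc : Sat c 20 iC (Rc 9)) {W : List ℕ} (h : cB W = true) : wv c W = 1 :=
  wv_eq_one_of_fix hc (fun l hl => mem_Lc.2 (by simpa using Bulk.allL_iff.1 (band_left h) l hl))
    fun p hp => apply_eq_of_fixB hT_ok (Bulk.allL_iff.1 (band_right h) p hp)

/-- the tables of the letters -/
noncomputable def tH : ℕ → NT :=
  getN ht1 [ht1, ht1, ht2, ht3, ht4, ht5, ht6, ht1, ht8, ht9, ht10, ht11, ht12]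

theorem tH_ok : ∀ l ∈ LH, Acts (MonoidHom.id _) (lk (tH l)) (gH (prm hT 5040) l) :=
  forall_mem_cons' ht1_ok <| forall_mem_cons' ht2_ok <| forall_mem_cons' ht3_ok <|
  forall_mem_cons' ht4_ok <| forall_mem_cons' ht5_ok <| forall_mem_cons' ht6_ok <|
  forall_mem_cons' ht8_ok <| forall_mem_cons' ht9_ok <| forall_mem_cons' ht10_ok <|
  forall_mem_cons' ht11_ok <| forall_mem_cons' ht12_ok forall_mem_nil'

/-- trace the three base points -/
noncomputable def hK (W : List ℕ) : ℕ → ℕ → ℕ → Bool :=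
  List.rec (motive := fun _ => ℕ → ℕ → ℕ → Bool)
    (fun a b c => band (Nat.beq a 1) (band (Nat.beq b 328) (Nat.beq c 0)))
    (fun l _ ih a b c => forc l fun l => band (Nat.beq (Nat.land (Nat.shiftRight 8062 l) 1) 1)
      (forc (lk (tH l) a) fun a => forc (lk (tH l) b) fun b => forc (lk (tH l) c) fun c =>
        ih a b c)) W

/-- the word in the letters `LH` is trivial in `2.A₁₁` -/
noncomputable def hB (W : List ℕ) : Bool := hK W 1 328 0

theorem mem_LH_of_bit {l : ℕ} (h : Nat.beq (Nat.land (Nat.shiftRight 8062 l) 1) 1 = true) :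
    l ∈ LH := by
  by_cases hl : l < 13
  · exact (by decide +kernel : ∀ l < 13,
      Nat.beq (Nat.land (Nat.shiftRight 8062 l) 1) 1 = true → l ∈ LH) l hl h
  · have : Nat.shiftRight 8062 l = 0 := by
      change 8062 >>> l = 0
      rw [Nat.shiftRight_eq_div_pow]
      exact Nat.div_eq_of_lt (lt_of_lt_of_le (by norm_num)
        (Nat.pow_le_pow_right (by norm_num) (not_lt.1 hl)))
    rw [this] at h; exact absurd h (by decide)

theorem hK_sound (W : List ℕ) : ∀ a b c : Fin 5040, hK W a b c = true → (∀ l ∈ W, l ∈ LH) ∧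
    (wv (gH (prm hT 5040)) W a : ℕ) = 1 ∧ (wv (gH (prm hT 5040)) W b : ℕ) = 328 ∧
      (wv (gH (prm hT 5040)) W c : ℕ) = 0 := by
  induction W with
  | nil => intro a b c h; simpa [hK] using h
  | cons l W ih =>
    intro a b c h
    change band (Nat.beq (Nat.land (Nat.shiftRight 8062 l) 1) 1)
      (hK W (lk (tH l) a) (lk (tH l) b) (lk (tH l) c)) = true at h
    have hl := mem_LH_of_bit (band_left h)
    have h2 := band_right h
    rw [tH_ok l hl, tH_ok l hl, tH_ok l hl] at h2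
    have := ih _ _ _ h2
    exact ⟨forall_mem_cons' hl this.1, this.2⟩

theorem hB_mem {W : List ℕ} (h : hB W = true) : ∀ l ∈ W, l ∈ LH := (hK_sound W 1 328 0 h).1

theorem hrel_of_sat {c : ℕ → G} (hc : Sat c 20 iC (Rc 9)) {W : List ℕ} (h : hB W = true) :
    wv (gH c) W = 1 := by
  obtain ⟨-, h1, h2, h3⟩ := hK_sound W 1 328 0 h
  rw [wv_gH] at h1 h2 h3 ⊢
  refine wv_eq_one_of_fix hc (fun a ha => ?_) fun p hp => ?_
  · obtain ⟨l, -, hl⟩ := List.mem_flatMap.1 ha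
    exact W11_mem l a hl
  · simp only [List.mem_cons, List.not_mem_nil, or_false] at hp
    rcases hp with e | e | e
    · rw [show p = 1 from Fin.ext e]; exact Fin.ext h1
    · rw [show p = 328 from Fin.ext e]; exact Fin.ext h2
    · rw [show p = 0 from Fin.ext e]; exact Fin.ext h3

/-- the Carmichael letters as words in the letters `LH` -/
def VH : List (List ℕ) := [[],[1,3,1,3],[3,2,1,12,8,12,1,2,3],[4,2,1,12,8,12,1,2,4],[1,2,1,12,8,12,1,2,1],[6,2,1,12,8,12,1,2,6],[5,1,12,8,12,1,5],[5,3,12,8,12,3,5],[5,3,2,12,8,12,2,3,5],[5,1,2,12,8,12,2,1,5],[2,5,3,12,8,12,3,5,2],[2,5,1,12,8,12,1,5,2],[2,5,1,2,12,8,12,2,1,5,2],[2,5,3,2,12,8,12,2,3,5,2],[1,12,5,1,2,12,8,12,2,1,5,12,1],[1,12,5,3,2,12,8,12,2,3,5,12,1],[5,12,3,5,12,8,12,5,3,12,5],[5,12,3,5,12,11,8,10,12,5,3,12,5],[5,12,1,5,12,11,8,10,12,5,1,12,5],[5,12,1,5,12,8,12,5,1,12,5]]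

theorem gL_gH {c : ℕ → G} (hc : Sat c 20 iC (Rc 9)) : gL (gH c) LH = gL c (Lc 9) := by
  refine le_antisymm (gL_le fun l _ => gH_mem c l) (gL_le fun l hl => ?_)
  have h := (by decide +kernel : ∀ l < 20, (∀ a ∈ VH.getD l [], a ∈ LH) ∧
    (l = 0 ∨ cB (iC l :: (VH.getD l []).flatMap fun l => W11.getD l []) = true)) l (mem_Lc.1 hl).2
  have h2 := crel hc (h.2.resolve_left (by have := mem_Lc.1 hl; omega))
  rw [wv_cons, ← wv_gH, hc.inv l (mem_Lc.1 hl).2, mul_inv_eq_one] at h2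
  exact h2 ▸ wv_mem _ fun a ha => mem_gL (h.1 a ha)

theorem kp_gH (c : ℕ → G) : kp [1, 2, 3, 4, 5, 6] (gH c) = fun l => wv c (W8.getD l []) := by
  funext l
  rw [kp, gH]
  by_cases hl : l < 7
  · interval_cases l <;> rfl
  · rw [if_neg (by simp; omega), List.getD_eq_default _ _ (show W8.length ≤ l by change 7 ≤ l; omega)]
    rfl

section Carm

variable {Ω : Type*} [Fintype Ω] [DecidableEq Ω] {H : Type*} [Group H] {ζ : H} {π : H →* Perm Ω}
  {e : Fin 11 ↪ Ω} {c : ℕ → H}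

theorem Carm.hrel (h : Carm (m := 9) ζ π e c) {W : List ℕ} (hW : hB W = true) :
    wv (gH c) W = 1 := hrel_of_sat h.sat hW

theorem Carm.cube {m : ℕ} {e : Fin (m + 2) ↪ Ω} (h : Carm ζ π e c) {j : ℕ} (h1 : 1 ≤ j)
    (h2 : j ≤ m) : c (2 * j) ^ 3 = 1 := by
  have := h.sat.rel [2 * j, 2 * j, 2 * j] (by
    simp only [Rc, List.mem_flatMap, List.mem_range'_1]
    exact ⟨j, by omega, List.mem_cons_self⟩)
  simpa [pow_three'] using this

theorem Carm.im_even {m : ℕ} {e : Fin (m + 2) ↪ Ω} (h : Carm ζ π e c) {j : ℕ} (h1 : 1 ≤ j)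
    (h2 : j ≤ m) : π (c (2 * j)) = c3 (e (Fin.ofNat _ (j + 1))) (e 0) (e 1) := by
  rw [h.im _ (by omega), sC, cl_even _ _ (by omega), via_c3]

/-- the first eight points -/
abbrev e8 (e : Fin 11 ↪ Ω) : Fin 8 ↪ Ω := (Fin.castLEEmb (by norm_num)).trans e

theorem Carm.six (hc : Pre ζ π) (h : Carm (m := 9) ζ π e c) : Carm (m := 6) ζ π (e8 e) c := by
  have hv : ∀ j, j ≤ 6 → e8 e (Fin.ofNat _ (j + 1)) = e (Fin.ofNat _ (j + 1)) := fun j hj => by
    interval_cases j <;> rfl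
  refine ⟨h.z, h.sat.mono (by norm_num) (mem_of_subL (by decide +kernel)), fun l hl => ?_,
    fun x hx => ?_⟩
  · rw [h.im l (by omega)]
    induction l using cl_cases with
    | h0 => simp [cl, sC]
    | h1 => simp [cl, sC]
    | h2 j hj => rw [sC, sC, cl_even _ _ hj, cl_even _ _ hj, via_c3, via_c3, hv j (by omega)]; rfl
    | h3 j hj =>
      rw [sC, sC, cl_odd _ _ hj, cl_odd _ _ hj, map_inv, map_inv, via_c3, via_c3, hv j (by omega)]
      rfl
  · refine hc.mem_of_altOn (α := e 0) (β := e 1) (e.injective.ne (by decide))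
      (h.z ▸ mem_gL (l := 1) (mem_Lc.2 (by omega))) ?_ hx
    rintro _ ⟨i, rfl⟩ i0 i1 y hy y3
    have a0 : (i : ℕ) ≠ 0 := fun a => i0 (congrArg (e8 e) (Fin.ext a : i = 0))
    have a1 : (i : ℕ) ≠ 1 := fun a => i1 (congrArg (e8 e) (Fin.ext a : i = 1))
    have hi : Fin.ofNat 8 (i - 1 + 1) = i := Fin.ext (by change (_ % 8) = _; omega)
    have := h.im_even (j := i - 1) (by omega) (by omega)
    rw [← hv _ (by omega), hi] at this
    rw [hc.eq_of_cube (hy.trans this.symm) y3 (h.cube (by omega) (by omega))]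
    exact mem_gL (mem_Lc.2 (by omega))

theorem Carm.l8' [Finite H] (hc : Pre ζ π) (h : Carm (m := 9) ζ π e c) :
    L8 ζ π (e8 e) (kp [1, 2, 3, 4, 5, 6] (gH c)) := kp_gH c ▸ (h.six hc).l8 hc

theorem Carm.im_gH (h : Carm (m := 9) ζ π e c) (l : ℕ) :
    π (gH c l) = via e (wv (sC 9) (W11.getD l [])) :=
  h.im_wv fun a ha => (mem_Lc.1 (W11_mem l a ha)).2

theorem Carm.im_x (h : Carm (m := 9) ζ π e c) : π (gH c 8) = c3 (e 8) (e 9) (e 10) := by
  rw [h.im_gH, ← via_c3]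
  exact congrArg _ (by decide +kernel)

theorem Carm.cube_x (h : Carm (m := 9) ζ π e c) : gH c 8 ^ 3 = 1 := by
  simpa [pow_three'] using h.hrel (W := [8, 8, 8]) (by decide +kernel)

theorem Carm.mem_gH (hc : Pre ζ π) (h : Carm (m := 9) ζ π e c) (he : Function.Surjective e)
    (x : H) : x ∈ gL (gH c) LH :=
  gL_gH h.sat ▸ h.full x (mem_altOn.2 ⟨hc.sign_eq x, fun p hp => absurd (he p) hp⟩)

end Carm

end Cfsg.Lib.LyT
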