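import Cfsg.Agent.LyT.M3C

/-! Coset enumeration for `3.McL`. -/

set_option autoImplicit false
set_option maxRecDepth 100000
set_option Elab.async false

namespace Cfsg.Lib.LyT

open Cfsg.Lib.Spor.Bulk

theorem m3_tr0 : allL m3_C.treeOK [1,2,3,4,5,6,7,8,9] = true := by decide +kernel
theorem m3_j0 : (band (m3_C.just 10 iM m3_R m3_U [1,2,3,4,5,6,7,8,9] 1 (dif (dif (ones 66825) m3_a1_0) m3_a1_1) true [⟨0,0,[3,6,1,6,3],[],0,0,0⟩, ⟨0,0,[6,3],[6,3,1],0,0,3⟩, ⟨0,0,[4,6,4,1,6],[],1,0,0⟩, ⟨0,0,[6],[4,6,4,1],1,0,4⟩, ⟨0,0,[5,4,2,4,5],[],2,0,0⟩]) <|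
  band (m3_C.just 10 iM m3_R m3_U [1,2,3,4,5,6,7,8,9] 2 (dif (ones 66825) m3_a2_0) true [⟨0,0,[4,5],[4,5,1],2,0,3⟩]) <|
  band (m3_C.just 10 iM m3_R m3_U [1,2,3,4,5,6,7,8,9] 3 (dif (dif (ones 66825) m3_a3_0) m3_a3_1) true [⟨0,0,[6,1,6,3],[1],0,0,1⟩, ⟨0,0,[],[6,1,6,3,1],0,0,5⟩, ⟨0,0,[6,4,6],[4,3],3,0,2⟩, ⟨0,0,[4,3,6,4,6],[],3,0,0⟩, ⟨0,0,[6,3],[6,3,6],4,0,0⟩, ⟨0,0,[5],[5,3,2,3,2],6,0,5⟩]) <|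
  band (m3_C.just 10 iM m3_R m3_U [1,2,3,4,5,6,7,8,9] 4 (dif (dif (ones 66825) m3_a4_0) m3_a4_1) true [⟨0,0,[6,4,1,6],[1],1,0,1⟩, ⟨0,0,[1,6],[6,4,1],1,0,3⟩, ⟨0,0,[2,4,5],[5,1],2,0,2⟩, ⟨0,0,[5],[2,4,5,1],2,0,4⟩, ⟨0,0,[6],[6,3,4,3],3,0,4⟩, ⟨0,0,[3,6,4,6],[3],3,0,1⟩, ⟨0,0,[5,4],[5,4,5],5,0,0⟩]) <|
  band (m3_C.just 10 iM m3_R m3_U [1,2,3,4,5,6,7,8,9] 5 (dif (dif (ones 66825) m3_a5_0) m3_a5_1) true [⟨0,0,[],[4,2,4,5,1],2,0,5⟩, ⟨0,0,[4,2,4,5],[1],2,0,1⟩, ⟨0,0,[4,5],[4,5,4],5,0,1⟩, ⟨0,0,[],[3,5,3,2,3,2],6,0,6⟩, ⟨0,0,[3,5],[3,2,3,2],6,0,4⟩]) <|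
  band (m3_C.just 10 iM m3_R m3_U [1,2,3,4,5,6,7,8,9] 6 (dif (dif (ones 66825) m3_a6_0) m3_a6_1) true [⟨0,0,[1,6,3],[3,1],0,0,2⟩, ⟨0,0,[3],[1,6,3,1],0,0,4⟩, ⟨0,0,[4,1,6],[4,1],1,0,2⟩, ⟨0,0,[],[1,4,6,4,1],1,0,5⟩, ⟨0,0,[],[4,6,3,4,3],3,0,5⟩, ⟨0,0,[4,6],[3,4,3],3,0,3⟩, ⟨0,0,[3,6],[3,6,3],4,0,1⟩]) <|
  true) = true := by decide +kernel
theorem m3_j1 : (band (m3_C.just 10 iM m3_R m3_U [1,2,3,4,5,6,7,8,9] 1 (Nat.land (dif (ones 66825) m3_a1_0) m3_a1_1) false [⟨0,0,[7],[7,1],9,0,0⟩]) <|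
  band (m3_C.just 10 iM m3_R m3_U [1,2,3,4,5,6,7,8,9] 2 (dif (Nat.land (ones 66825) m3_a2_0) m3_a2_1) false [⟨0,0,[3,2,3,5,3,5],[],6,0,0⟩, ⟨0,0,[3,5,3,5],[3,2],6,0,2⟩, ⟨0,0,[6,5,4,3,4,5,6],[],7,0,0⟩]) <|
  band (m3_C.just 10 iM m3_R m3_U [1,2,3,4,5,6,7,8,9] 3 (Nat.land (dif (ones 66825) m3_a3_0) m3_a3_1) false [⟨0,0,[5,3,5],[2,3,2],6,0,3⟩, ⟨0,0,[2,3,5,3,5],[2],6,0,1⟩, ⟨0,0,[4,5,6],[4,5,6,2],7,0,4⟩, ⟨0,0,[5,7,3,7,5],[],10,0,0⟩, ⟨0,0,[7,5],[7,5,3],10,0,3⟩]) <|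
  band (m3_C.just 10 iM m3_R m3_U [1,2,3,4,5,6,7,8,9] 4 (Nat.land (dif (ones 66825) m3_a4_0) m3_a4_1) false [⟨0,0,[5,6],[3,4,5,6,2],7,0,5⟩, ⟨0,0,[3,4,5,6],[5,6,2],7,0,3⟩, ⟨0,0,[6],[5,6,5,6,5,4],8,0,6⟩, ⟨0,0,[5,6,5,6,5,4,6],[],8,0,0⟩]) <|
  band (m3_C.just 10 iM m3_R m3_U [1,2,3,4,5,6,7,8,9] 5 (Nat.land (dif (ones 66825) m3_a5_0) m3_a5_1) false [⟨0,0,[6],[4,3,4,5,6,2],7,0,6⟩, ⟨0,0,[4,3,4,5,6],[6,2],7,0,2⟩, ⟨0,0,[4,6],[6,5,6,5,4],8,0,5⟩, ⟨0,0,[6,5,6,5,4,6],[4],8,0,1⟩, ⟨0,0,[6,5,4,6],[6,5,4],8,0,3⟩, ⟨0,0,[],[7,3,7,5,3],10,0,5⟩, ⟨0,0,[7,3,7,5],[3],10,0,1⟩, ⟨0,0,[7,5],[7,5,7],11,0,0⟩]) <|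
  band (m3_C.just 10 iM m3_R m3_U [1,2,3,4,5,6,7,8,9] 6 (Nat.land (dif (ones 66825) m3_a6_0) m3_a6_1) false [⟨0,0,[],[5,4,3,4,5,6,2],7,0,7⟩, ⟨0,0,[5,4,3,4,5,6],[2],7,0,1⟩, ⟨0,0,[],[4,5,6,5,6,5,4],8,0,7⟩, ⟨0,0,[5,4,6],[5,6,5,4],8,0,4⟩, ⟨0,0,[5,6,5,4,6],[5,4],8,0,2⟩]) <|
  band (m3_C.just 10 iM m3_R m3_U [1,2,3,4,5,6,7,8,9] 7 (dif (ones 66825) m3_a7_0) true [⟨0,0,[1],[1,7],9,0,1⟩, ⟨0,0,[3,7,5],[5,3],10,0,2⟩, ⟨0,0,[5],[3,7,5,3],10,0,4⟩, ⟨0,0,[5,7],[5,7,5],11,0,1⟩]) <|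
  band (m3_C.just 10 iM m3_R m3_U [1,2,3,4,5,6,7,8,9] 8 (dif (ones 66825) m3_a8_0) true [⟨0,0,[8],[9],12,0,1⟩]) <|
  true) = true := by decide +kernel
theorem m3_j2 : (band (m3_C.just 10 iM m3_R m3_U [1,2,3,4,5,6,7,8,9] 1 (dif (Nat.land (ones 66825) m3_a1_0) m3_a1_1) false [⟨0,0,[7,4,5,1,7,4,5,7],[5,4,1],18,0,3⟩, ⟨0,0,[4,5,1,7,4,5,1,7,4,5,7],[],18,0,0⟩, ⟨0,0,[7,4,5,7],[5,4,7,1,5,4,1],18,0,7⟩]) <|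
  band (m3_C.just 10 iM m3_R m3_U [1,2,3,4,5,6,7,8,9] 3 (dif (Nat.land (ones 66825) m3_a3_0) m3_a3_1) false [⟨0,0,[8,3,9],[],13,0,0⟩, ⟨0,0,[9],[9,3],13,0,2⟩]) <|
  band (m3_C.just 10 iM m3_R m3_U [1,2,3,4,5,6,7,8,9] 4 (dif (Nat.land (ones 66825) m3_a4_0) m3_a4_1) false [⟨0,0,[8,4,9],[],14,0,0⟩, ⟨0,0,[9],[9,4],14,0,2⟩, ⟨0,0,[5,1,7,4,5,7],[7,1,5,4,1],18,0,5⟩, ⟨0,0,[5,1,7,4,5,1,7,4,5,7],[1],18,0,1⟩, ⟨0,0,[5,7],[7,1,5,4,7,1,5,4,1],18,0,9⟩]) <|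
  band (m3_C.just 10 iM m3_R m3_U [1,2,3,4,5,6,7,8,9] 5 (dif (Nat.land (ones 66825) m3_a5_0) m3_a5_1) false [⟨0,0,[8,5,9],[],15,0,0⟩, ⟨0,0,[9],[9,5],15,0,2⟩, ⟨0,0,[1,7,4,5,1,7,4,5,7],[4,1],18,0,2⟩, ⟨0,0,[1,7,4,5,7],[4,7,1,5,4,1],18,0,6⟩, ⟨0,0,[7],[4,7,1,5,4,7,1,5,4,1],18,0,10⟩]) <|
  band (m3_C.just 10 iM m3_R m3_U [1,2,3,4,5,6,7,8,9] 6 (dif (Nat.land (ones 66825) m3_a6_0) m3_a6_1) false [⟨0,0,[8,6,9],[],16,0,0⟩, ⟨0,0,[9],[9,6],16,0,2⟩]) <|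
  band (m3_C.just 10 iM m3_R m3_U [1,2,3,4,5,6,7,8,9] 7 (dif (Nat.land (ones 66825) m3_a7_0) m3_a7_1) false [⟨0,0,[8,7,9],[],17,0,0⟩, ⟨0,0,[9],[9,7],17,0,2⟩, ⟨0,0,[4,5,1,7,4,5,7],[1,5,4,1],18,0,4⟩, ⟨0,0,[],[5,4,7,1,5,4,7,1,5,4,1],18,0,11⟩, ⟨0,0,[4,5,7],[1,5,4,7,1,5,4,1],18,0,8⟩]) <|
  band (m3_C.just 10 iM m3_R m3_U [1,2,3,4,5,6,7,8,9] 8 (dif (Nat.land (ones 66825) m3_a8_0) m3_a8_1) false [⟨0,0,[3,9],[3],13,0,1⟩, ⟨0,0,[4,9],[4],14,0,1⟩, ⟨0,0,[5,9],[5],15,0,1⟩, ⟨0,0,[6,9],[6],16,0,1⟩, ⟨0,0,[7,9],[7],17,0,1⟩]) <|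
  band (m3_C.just 10 iM m3_R m3_U [1,2,3,4,5,6,7,8,9] 9 (dif (ones 66825) m3_a9_0) true [⟨0,0,[],[3,9,3],13,0,3⟩, ⟨0,0,[],[4,9,4],14,0,3⟩, ⟨0,0,[],[5,9,5],15,0,3⟩, ⟨0,0,[],[6,9,6],16,0,3⟩, ⟨0,0,[],[7,9,7],17,0,3⟩]) <|
  true) = true := by decide +kernel
theorem m3_j3 : (band (m3_C.just 10 iM m3_R m3_U [1,2,3,4,5,6,7,8,9] 1 (Nat.land (Nat.land (ones 66825) m3_a1_0) m3_a1_1) false [⟨0,0,[1],[],0,2,0⟩, ⟨2,0,[],[],0,0,0⟩]) <|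
  band (m3_C.just 10 iM m3_R m3_U [1,2,3,4,5,6,7,8,9] 2 (Nat.land (Nat.land (ones 66825) m3_a2_0) m3_a2_1) false [⟨0,0,[5,6,5,2,7,6,5,2,7,6,7,9],[],19,0,0⟩, ⟨0,0,[7,6,5,2,7,6,7,9],[5,6,5,2],19,0,4⟩, ⟨0,0,[7,6,7,9],[5,6,7,2,5,6,5,2],19,0,8⟩, ⟨0,0,[2],[],0,2,0⟩, ⟨2,0,[],[],1,0,0⟩]) <|
  band (m3_C.just 10 iM m3_R m3_U [1,2,3,4,5,6,7,8,9] 3 (Nat.land (Nat.land (ones 66825) m3_a3_0) m3_a3_1) false [⟨0,0,[3],[],0,2,0⟩, ⟨2,0,[],[],2,0,0⟩]) <|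
  band (m3_C.just 10 iM m3_R m3_U [1,2,3,4,5,6,7,8,9] 4 (Nat.land (Nat.land (ones 66825) m3_a4_0) m3_a4_1) false [⟨0,0,[4],[],0,2,0⟩, ⟨2,0,[],[],3,0,0⟩]) <|
  band (m3_C.just 10 iM m3_R m3_U [1,2,3,4,5,6,7,8,9] 5 (Nat.land (Nat.land (ones 66825) m3_a5_0) m3_a5_1) false [⟨0,0,[2,7,6,5,2,7,6,7,9],[6,5,2],19,0,3⟩, ⟨0,0,[6,5,2,7,6,5,2,7,6,7,9],[2],19,0,1⟩, ⟨0,0,[2,7,6,7,9],[6,7,2,5,6,5,2],19,0,7⟩, ⟨0,0,[5],[],0,2,0⟩, ⟨2,0,[],[],4,0,0⟩]) <|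
  band (m3_C.just 10 iM m3_R m3_U [1,2,3,4,5,6,7,8,9] 6 (Nat.land (Nat.land (ones 66825) m3_a6_0) m3_a6_1) false [⟨0,0,[5,2,7,6,5,2,7,6,7,9],[5,2],19,0,2⟩, ⟨0,0,[5,2,7,6,7,9],[7,2,5,6,5,2],19,0,6⟩, ⟨0,0,[7,9],[7,2,5,6,7,2,5,6,5,2],19,0,10⟩, ⟨0,0,[6],[],0,2,0⟩, ⟨2,0,[],[],5,0,0⟩]) <|
  band (m3_C.just 10 iM m3_R m3_U [1,2,3,4,5,6,7,8,9] 7 (Nat.land (Nat.land (ones 66825) m3_a7_0) m3_a7_1) false [⟨0,0,[6,5,2,7,6,7,9],[2,5,6,5,2],19,0,5⟩, ⟨0,0,[9],[6,7,2,5,6,7,2,5,6,5,2],19,0,11⟩, ⟨0,0,[6,7,9],[2,5,6,7,2,5,6,5,2],19,0,9⟩, ⟨0,0,[7],[],0,2,0⟩]) <|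
  band (m3_C.just 10 iM m3_R m3_U [1,2,3,4,5,6,7,8,9] 8 (Nat.land (Nat.land (ones 66825) m3_a8_0) m3_a8_1) false [⟨0,0,[9],[],0,2,0⟩]) <|
  band (m3_C.just 10 iM m3_R m3_U [1,2,3,4,5,6,7,8,9] 9 (Nat.land (ones 66825) m3_a9_0) false [⟨0,0,[],[7,6,7,2,5,6,7,2,5,6,5,2],19,0,12⟩, ⟨0,0,[8],[],0,2,0⟩]) <|
  true) = true := by decide +kernel

end Cfsg.Lib.LyT
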