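import Cfsg.Agent.LyT.Carm

/-! Small models of the two subgroups `2⁴:L₃(2)` of `2.A₈`. -/

set_option autoImplicit false
set_option maxRecDepth 100000
set_option Elab.async false

namespace Cfsg.Lib.LyT

open Subgroup Cfsg.Lib.Spor Cfsg.Lib.Spor.Bulk Cfsg.Lib.Spor.PK Cfsg.Lib.Spor.WF

/-- `2⁴:L₃(2)` on 16 points -/
@[reducible] def Q1 : PM where
  w := 7
  n := 16
  cs := [0xd38add49b19fb862a919c2a38380,
    0x711a6aab7898e97f50a8e4670007,
    0xd2e15549b18e622b6c3bf620118e,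
    0xd2c5c3f9a72a5bc4391c600a8395,
    0xd38add49b19fb862a919c2a38380,
    0xd38aa5b9ae0ac61ca83807ec519c,
    0x7ea98d4391b48eb7891cd00e0395]
  SW := [([[2,5],[1,2,5,1],[3,2,5,3]],
    [⟨0, [576, 642, 448, 65, 130, 896, 961, 386, 834, 192, 257, 514, 769, 321, 705], [[0, 2, 1, 2, 0], [0, 2, 1, 1,
    2, 1, 1, 2, 0]]⟩,
     ⟨1, [768, 321, 896, 257, 640, 129, 448, 384, 577, 704, 960], []⟩])]

instance : NeZero Q1.n := ⟨by decide⟩

theorem Q1_ok : Q1.ok = true := by decide +kernel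

theorem Q1_subs : Q1.subsOK = true := by decide +kernel

theorem Q1_low : 2688 ≤ Nat.card (sub Q1.m [[1],[2],[3],[5],[6]]) :=
  le_trans (by decide +kernel) (le_card_of_lowB Q1_ok (cert := [⟨0, [64, 129, 194, 259, 321, 386, 451, 516, 579, 642, 708, 768, 833, 900, 960], [[2, 3, 2, 0, 2, 1], [3, 2, 0,
    4, 2, 1]]⟩,
     ⟨1, [128, 449, 640, 577, 768, 257, 960, 321, 704, 384, 833, 896, 513], [[0, 1, 0, 1, 1, 0, 1], [1, 0, 1, 0, 1,
    0, 0]]⟩,
     ⟨2, [512, 705, 640, 897, 384, 769, 449, 256, 577, 832, 961], []⟩])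
    (by decide +kernel))

theorem P8_lowQ1 : 2688 ≤ Nat.card (sub P8.m [[1],[2],[3],[5],[6]]) :=
  le_trans (by decide +kernel) (le_card_of_lowB P8_ok (cert := [⟨3, [448, 516, 641, 323, 836, 898, 963, 1092, 708, 1346, 1411, 1539, 1665, 2050, 2115, 1154, 1219, 2755, 2881,
    2240, 3265, 4611, 4737, 2369, 6081, 6466, 5057], [[2, 4, 2, 3, 0, 3, 2, 4, 3, 0], [0, 1, 4, 0, 4, 3, 0, 4,
    2, 1, 2, 4]]⟩,
     ⟨1, [0, 129], [[0, 0], [1], [0, 1, 0, 1, 0]]⟩,
     ⟨4, [768, 385, 578], [[2, 0], [0, 2, 1, 0]]⟩,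
     ⟨0, [128], [[0, 0], [1]]⟩,
     ⟨8, [705], [[0]]⟩,
     ⟨16, [1280], []⟩])
    (by decide +kernel))

/-- `2⁴:L₃(2)` on 16 points -/
@[reducible] def Q2 : PM where
  w := 7
  n := 16
  cs := [0xd38add49b19fb862a919c2a38380,
    0xd3898d42a7118eb6a9fc69ae0007,
    0xd38a6aab6fe3384751895380038e,
    0xb6c74c6715074dc4703aa00fd195,
    0xd3898b8388cad4b61e34d7e39500,
    0xd389c2a9a38adb0f511807f1989c,
    0xd38add49b19fb862a919c2a38380]
  SW := [([[2,5],[1,2,5,1],[3,2,5,3]],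
    [⟨0, [192, 577, 770, 640, 449, 256, 833, 130, 513, 64, 386, 704, 321, 962, 898], [[1, 2, 0, 1, 1], [0, 0, 2,
    0]]⟩,
     ⟨3, [256, 769, 896, 577, 320, 641, 449, 385, 832, 960, 704], []⟩])]

instance : NeZero Q2.n := ⟨by decide⟩

theorem Q2_ok : Q2.ok = true := by decide +kernel

theorem Q2_subs : Q2.subsOK = true := by decide +kernel

theorem Q2_low : 2688 ≤ Nat.card (sub Q2.m [[1],[2],[3],[4],[5]]) :=
  le_trans (by decide +kernel) (le_card_of_lowB Q2_ok (cert := [⟨0, [64, 129, 194, 260, 322, 387, 452, 512, 578, 644, 704, 769, 832, 898, 962], [[1, 2, 3, 2], [4, 2, 3, 0]]⟩,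
     ⟨1, [768, 897, 512, 193, 960, 449, 384, 320, 833, 256, 577, 640, 704], [[0, 1, 0, 1, 0], [0, 1, 1, 0, 0]]⟩,
     ⟨3, [960, 833, 448, 321, 576, 385, 769, 257, 896, 640, 704], []⟩])
    (by decide +kernel))

theorem P8_lowQ2 : 2688 ≤ Nat.card (sub P8.m [[1],[2],[3],[4],[5]]) :=
  le_trans (by decide +kernel) (le_card_of_lowB P8_ok (cert := [⟨3, [448, 67, 641, 324, 129, 4], [[3, 1, 4, 1, 3, 3, 1, 2, 1, 3, 0, 1, 0, 4, 0], [0, 4, 2, 4, 0, 0, 1, 3, 1,
    0, 0, 1, 2, 1, 0]]⟩,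
     ⟨1, [128, 641, 320, 449, 0], [[0, 1, 1, 0, 0], [1, 0, 1, 0, 0, 1], [1, 0, 0, 0, 1], [0, 0, 1, 0]]⟩,
     ⟨4, [576, 1409, 386, 2113, 770, 4610, 2754], [[0, 2, 3, 2], [0, 1, 2, 1, 2]]⟩,
     ⟨0, [128], [[1], [0, 1, 0]]⟩,
     ⟨16, [1281], [[0]]⟩,
     ⟨8, [704], []⟩])
    (by decide +kernel))

/-- relators without `d` -/
def R81 : List (List ℕ) := [[1,3,6,1,6,3],[2,5,2,5,2,5],[3,6,3,6,3,6],[1,2,1,2,5,1,5],[2,3,2,3,5,3,5],[1,2,5,2,1,2,5,2],[1,2,5,2,1,5,2,5],[1,2,6,5,3,5,1,6],[1,3,1,3,1,3,1,3],[1,3,1,3,1,6,1,6],[1,3,1,5,6,2,6,5],[1,3,6,1,3,6,3,6],[1,5,6,5,6,5,1,6],[2,3,2,5,2,3,2,5],[2,3,5,2,5,3,2,5],[2,3,6,3,2,3,6,3],[2,3,6,3,2,6,3,6],[2,5,6,5,6,3,5,6],[2,6,2,6,2,6,2,6],[2,6,3,6,2,6,3,6]]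

/-- relators without `f` -/
def R82 : List (List ℕ) := [[1,3,1,4,3,4],[1,4,1,4,1,4],[1,5,4,2,4,5],[2,5,2,5,2,5],[4,5,4,5,4,5],[1,2,1,2,4,2,4],[1,2,1,2,5,1,5],[2,3,2,3,5,3,5],[1,2,1,4,1,2,1,4],[1,2,4,1,4,2,1,4],[1,2,5,2,1,2,5,2],[1,2,5,2,1,5,2,5],[1,3,1,3,1,3,1,3],[1,3,1,3,4,3,4,3],[1,3,4,1,3,4,1,4],[1,4,2,4,1,5,1,5],[1,4,5,4,5,2,4,5],[1,5,2,4,2,4,2,5],[2,3,2,5,2,3,2,5],[2,3,5,2,5,3,2,5]]

noncomputable def ua0_C : SeqCert := ⟨nat_lit 1, nat_lit 9, nat_lit 8, nat_lit 0x7070606050504040303020201010000, (NT.leaf (nat_lit 0) (nat_lit 0x2800)), (NT.leaf (nat_lit 2) (nat_lit 0))⟩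
noncomputable def ua0_U : List (List ℕ) := []
noncomputable def ua0_HL : List ℕ := []
theorem ua0_head : ua0_C.head 8 iM R81 ua0_U ua0_HL 2 1 0 = true := by decide +kernel
theorem ua0_ok : ua0_C.StepsOK (2 + 0) 2 := SeqCert.StepsOK.refl _ _
noncomputable def ua0_r0 : List ℕ := [nat_lit 0xa, nat_lit 0xd]
theorem ua0_final : ua0_C.final 8 2 (nat_lit 0x3) 2 [2] (ua0_r0) = true := by decide +kernel
theorem ua0 {G : Type*} [Group G] {g : ℕ → G} {H : Subgroup G} (hg : Sat g 8 iM R81)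
    (hU : ∀ u ∈ ua0_U, wv g u ∈ H) (hL : ∀ l ∈ ua0_HL, g l ∈ H) :
    IdxLe H (Subgroup.closure {x | ∃ l ∈ ([2] : List ℕ), g l = x}) 2 :=
  SeqCert.idxLe_of_final hg hU hL ua0_head ua0_ok ua0_final
theorem up_ua0 {G : Type*} [Group G] {g : ℕ → G} (hg : Sat g 8 iM R81) :
    Finite (gL g [2]) ∧ Nat.card (gL g [2]) ≤ 2 :=
  ((ua0 (H := ⊥) hg forall_mem_nil' forall_mem_nil').card_le (finite_card_bot)).imp id fun h => h.trans (by norm_num)

noncomputable def ua1_C : SeqCert := ⟨nat_lit 2, nat_lit 9, nat_lit 8, nat_lit 0x7070606050504040303020201010000, (NT.leaf (nat_lit 0) (nat_lit 0x5a020029054000)), (NT.leaf (nat_lit 16388) (nat_lit 0x50205020502))⟩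
noncomputable def ua1_U : List (List ℕ) := []
noncomputable def ua1_HL : List ℕ := [2]
theorem ua1_head : ua1_C.head 8 iM R81 ua1_U ua1_HL 3 2 1 = true := by decide +kernel
noncomputable def ua1_s0 : List ℕ := [nat_lit 0x20080c03028140001]
theorem ua1_ok0 : ua1_C.StepsOK 4 5 := (SeqCert.StepsOK.refl _ 4).step (L := ua1_s0) (by decide +kernel)
theorem ua1_ok : ua1_C.StepsOK (3 + 1) 5 := ua1_ok0
noncomputable def ua1_r0 : List ℕ := [nat_lit 0x12060, nat_lit 0x18049, nat_lit 0x44056]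
theorem ua1_final : ua1_C.final 8 5 (nat_lit 0x7) 3 [2,5] (ua1_r0) = true := by decide +kernel
theorem ua1 {G : Type*} [Group G] {g : ℕ → G} {H : Subgroup G} (hg : Sat g 8 iM R81)
    (hU : ∀ u ∈ ua1_U, wv g u ∈ H) (hL : ∀ l ∈ ua1_HL, g l ∈ H) :
    IdxLe H (Subgroup.closure {x | ∃ l ∈ ([2,5] : List ℕ), g l = x}) 3 :=
  SeqCert.idxLe_of_final hg hU hL ua1_head ua1_ok ua1_final
theorem up_ua1 {G : Type*} [Group G] {g : ℕ → G} (hg : Sat g 8 iM R81) :
    Finite (gL g [2,5]) ∧ Nat.card (gL g [2,5]) ≤ 6 :=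
  ((ua1 hg forall_mem_nil' (forall_mem_gL g [2])).card_le (up_ua0 hg)).imp id fun h => h.trans (by norm_num)

noncomputable def ua2_C : SeqCert := ⟨nat_lit 2, nat_lit 9, nat_lit 8, nat_lit 0x7070606050504040303020201010000, (NT.leaf (nat_lit 0) (nat_lit 0x3b02f05a05002005d029034000)), (NT.node (nat_lit 1) (NT.leaf (nat_lit 49204) (nat_lit 0x502030205020302)) (NT.node (nat_lit 2) (NT.leaf (nat_lit 4) (nat_lit 0x20502050205)) (NT.leaf (nat_lit 81936) (nat_lit 0x3050203020305))))⟩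
noncomputable def ua2_U : List (List ℕ) := []
noncomputable def ua2_HL : List ℕ := [2,5]
theorem ua2_head : ua2_C.head 8 iM R81 ua2_U ua2_HL 4 2 2 = true := by decide +kernel
noncomputable def ua2_s0 : List ℕ := [nat_lit 0x60102006050601804060283008070280408020402810030281c0003]
theorem ua2_ok0 : ua2_C.StepsOK 6 9 := (SeqCert.StepsOK.refl _ 6).step (L := ua2_s0) (by decide +kernel)
theorem ua2_ok : ua2_C.StepsOK (4 + 2) 9 := ua2_ok0
noncomputable def ua2_r0 : List ℕ := [nat_lit 0x28012080, nat_lit 0x1b018049, nat_lit 0x3208e056, nat_lit 0x1d0840ef]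
theorem ua2_final : ua2_C.final 8 9 (nat_lit 0xf) 4 [2,3,5] (ua2_r0) = true := by decide +kernel
theorem ua2 {G : Type*} [Group G] {g : ℕ → G} {H : Subgroup G} (hg : Sat g 8 iM R81)
    (hU : ∀ u ∈ ua2_U, wv g u ∈ H) (hL : ∀ l ∈ ua2_HL, g l ∈ H) :
    IdxLe H (Subgroup.closure {x | ∃ l ∈ ([2,3,5] : List ℕ), g l = x}) 4 :=
  SeqCert.idxLe_of_final hg hU hL ua2_head ua2_ok ua2_final
theorem up_ua2 {G : Type*} [Group G] {g : ℕ → G} (hg : Sat g 8 iM R81) :
    Finite (gL g [2,3,5]) ∧ Nat.card (gL g [2,3,5]) ≤ 24 :=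
  ((ua2 hg forall_mem_nil' (forall_mem_gL g [2,5])).card_le (up_ua1 hg)).imp id fun h => h.trans (by norm_num)

noncomputable def ua3_C : SeqCert := ⟨nat_lit 4, nat_lit 9, nat_lit 8, nat_lit 0x7070606050504040303020201010000, (NT.leaf (nat_lit 0) (nat_lit 0x5dd02ad06cd03bc05cc06ab059b038a068905770277037702550646034606550233063305000300020003d902c802b605a50294058306720562035205410331022106100000)), (NT.node (nat_lit 7) (NT.node (nat_lit 3) (NT.node (nat_lit 1) (NT.leaf (nat_lit 16392) (nat_lit 0x60306030603)) (NT.node (nat_lit 2) (NT.leaf (nat_lit 60) (nat_lit 0x203060302030603)) (NT.leaf (nat_lit 32828) (nat_lit 0x603020306030203)))) (NT.node (nat_lit 5) (NT.node (nat_lit 4) (NT.leaf (nat_lit 16401) (nat_lit 0x3050302030205)) (NT.leaf (nat_lit 32836) (nat_lit 0x605060305060205))) (NT.node (nat_lit 6) (NT.leaf (nat_lit 32784) (nat_lit 0x2030503050203)) (NT.leaf (nat_lit 8) (nat_lit 0x30603060306))))) (NT.node (nat_lit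 10) (NT.node (nat_lit 8) (NT.leaf (nat_lit 98372) (nat_lit 0x506020506050603)) (NT.node (nat_lit 9) (NT.leaf (nat_lit 69) (nat_lit 0x605030605060502)) (NT.leaf (nat_lit 81936) (nat_lit 0x3050203020305)))) (NT.node (nat_lit 12) (NT.node (nat_lit 11) (NT.leaf (nat_lit 16388) (nat_lit 0x50205020502)) (NT.leaf (nat_lit 81984) (nat_lit 0x603060203060302))) (NT.node (nat_lit 13) (NT.leaf (nat_lit 16400) (nat_lit 0x3020305030502)) (NT.leaf (nat_lit 65552) (nat_lit 0x5030502030203))))))⟩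
noncomputable def ua3_U : List (List ℕ) := []
noncomputable def ua3_HL : List ℕ := [2,3,5]
theorem ua3_head : ua3_C.head 8 iM R81 ua3_U ua3_HL 14 4 3 = true := by decide +kernel
noncomputable def ua3_s0 : List ℕ := [nat_lit 0x6824280b8e43606068682408038446c06028686a361d0f80a000c0400c091405c0c0c0c04048110c8141416148a852131a8d80e0b0b0300809098141414050100e24088181212040084003038440e08170381a2b040141e07038b81c0b160281e2e038041c0b130281e05030280809140301606028300802100780609038101804038900c090300c1404038880c050581c040601078381e0181c0e01030083c03038140012]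
theorem ua3_ok0 : ua3_C.StepsOK 17 35 := (SeqCert.StepsOK.refl _ 17).step (L := ua3_s0) (by decide +kernel)
theorem ua3_ok : ua3_C.StepsOK (14 + 3) 35 := ua3_ok0
noncomputable def ua3_r0 : List ℕ := [nat_lit 0x1088003c01c00, nat_lit 0x1802100c60421, nat_lit 0x73831814a0512, nat_lit 0x11184200e22433, nat_lit 0x15b024452c1294, nat_lit 0x13285281642c55, nat_lit 0x152034850816b6, nat_lit 0x790c9c5ce3077, nat_lit 0x1ac844c6f418c8, nat_lit 0x1a40e6c35a1349, nat_lit 0x1dd85546d043da, nat_lit 0x1d50e247f8176b, nat_lit 0x20e8f307d6198c, nat_lit 0x206113437242ad]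
theorem ua3_final : ua3_C.final 8 35 (nat_lit 0x3fff) 14 [2,3,5,6] (ua3_r0) = true := by decide +kernel
theorem ua3 {G : Type*} [Group G] {g : ℕ → G} {H : Subgroup G} (hg : Sat g 8 iM R81)
    (hU : ∀ u ∈ ua3_U, wv g u ∈ H) (hL : ∀ l ∈ ua3_HL, g l ∈ H) :
    IdxLe H (Subgroup.closure {x | ∃ l ∈ ([2,3,5,6] : List ℕ), g l = x}) 14 :=
  SeqCert.idxLe_of_final hg hU hL ua3_head ua3_ok ua3_final
theorem up_ua3 {G : Type*} [Group G] {g : ℕ → G} (hg : Sat g 8 iM R81) :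
    Finite (gL g [2,3,5,6]) ∧ Nat.card (gL g [2,3,5,6]) ≤ 336 :=
  ((ua3 hg forall_mem_nil' (forall_mem_gL g [2,3,5])).card_le (up_ua2 hg)).imp id fun h => h.trans (by norm_num)

noncomputable def ua4_C : SeqCert := ⟨nat_lit 3, nat_lit 9, nat_lit 8, nat_lit 0x7070606050504040303020201010000, (NT.leaf (nat_lit 0) (nat_lit 0x17f02fc0ff01bc1b6019816e02d80a503b41a40590053026c15203241890600140030008006ec0f306a80e205640910120000)), (NT.node (nat_lit 8) (NT.node (nat_lit 4) (NT.node (nat_lit 2) (NT.node (nat_lit 1) (NT.leaf (nat_lit 114716) (nat_lit 0x601020605030501)) (NT.leaf (nat_lit 16420) (nat_lit 0x301030106010601))) (NT.node (nat_lit 3) (NT.leaf (nat_lit 32788) (nat_lit 0x502010205020102)) (NT.leaf (nat_lit 4) (nat_lit 0x20502050205)))) (NT.node (nat_lit 6) (NT.node (nat_lit 5) (NT.leaf (nat_lit 12) (nat_lit 0x1020102050105)) (NT.leaf (nat_lit 65552) (nat_lit 0x5030502030203))) (NT.node (nat_lit 7) (NT.leaf (nat_lit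 32828) (nat_lit 0x603020306030203)) (NT.leaf (nat_lit 8) (nat_lit 0x30603060306))))) (NT.node (nat_lit 12) (NT.node (nat_lit 10) (NT.node (nat_lit 9) (NT.leaf (nat_lit 68) (nat_lit 0x205060506030506)) (NT.leaf (nat_lit 32784) (nat_lit 0x2030503050203))) (NT.node (nat_lit 11) (NT.leaf (nat_lit 98320) (nat_lit 0x5020302030503)) (NT.leaf (nat_lit 32808) (nat_lit 0x105060206050103)))) (NT.node (nat_lit 14) (NT.node (nat_lit 13) (NT.leaf (nat_lit 32812) (nat_lit 0x601030603060103)) (NT.leaf (nat_lit 49152) (nat_lit 0x10603010306))) (NT.node (nat_lit 15) (NT.leaf (nat_lit 81920) (nat_lit 0x30103060106)) (NT.node (nat_lit 16) (NT.leaf (nat_lit 98333) (nat_lit 0x201060105030506)) (NT.leaf (nat_lit 49200) (nat_lit 0x506050106010506)))))))⟩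
noncomputable def ua4_U : List (List ℕ) := []
noncomputable def ua4_HL : List ℕ := [2,3,5,6]
theorem ua4_head : ua4_C.head 8 iM R81 ua4_U ua4_HL 8 3 4 = true := by decide +kernel
noncomputable def ua4_s0 : List ℕ := [nat_lit 0x1c060105806070781c200e030680e21058c80e0f070841626190141c0e068bc100b0283418210589814091701c180c108701629120880e0b060183405048a00c0a060780c1a038340c090507012241109044070402812240402c0a070401034180d014120703020081a0287012060281804140800c0a06020180a1c0201c0a030200820140800c0a07010082c030c0082403038040414090502c100181c0011]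
theorem ua4_ok0 : ua4_C.StepsOK 12 29 := (SeqCert.StepsOK.refl _ 12).step (L := ua4_s0) (by decide +kernel)
theorem ua4_ok : ua4_C.StepsOK (8 + 4) 29 := ua4_ok0
noncomputable def ua4_r0 : List ℕ := [nat_lit 0x580500480400088, nat_lit 0x6081986881100c1, nat_lit 0x2a871022014885a, nat_lit 0x3b81c8330798813, nat_lit 0x9208a0250a68bf4, nat_lit 0x2d0b709a8a20cfd, nat_lit 0xc30b28358ab0ba6, nat_lit 0x3d8e38d38db8caf]
theorem ua4_final : ua4_C.final 8 29 (nat_lit 0xff) 8 [1,2,3,5,6] (ua4_r0) = true := by decide +kernel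
theorem ua4 {G : Type*} [Group G] {g : ℕ → G} {H : Subgroup G} (hg : Sat g 8 iM R81)
    (hU : ∀ u ∈ ua4_U, wv g u ∈ H) (hL : ∀ l ∈ ua4_HL, g l ∈ H) :
    IdxLe H (Subgroup.closure {x | ∃ l ∈ ([1,2,3,5,6] : List ℕ), g l = x}) 8 :=
  SeqCert.idxLe_of_final hg hU hL ua4_head ua4_ok ua4_final
theorem up_ua4 {G : Type*} [Group G] {g : ℕ → G} (hg : Sat g 8 iM R81) :
    Finite (gL g [1,2,3,5,6]) ∧ Nat.card (gL g [1,2,3,5,6]) ≤ 2688 :=
  ((ua4 hg forall_mem_nil' (forall_mem_gL g [2,3,5,6])).card_le (up_ua3 hg)).imp id fun h => h.trans (by norm_num)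

noncomputable def ub0_C : SeqCert := ⟨nat_lit 1, nat_lit 9, nat_lit 8, nat_lit 0x7070606050504040303020201010000, (NT.leaf (nat_lit 0) (nat_lit 0x2800)), (NT.leaf (nat_lit 2) (nat_lit 0))⟩
noncomputable def ub0_U : List (List ℕ) := []
noncomputable def ub0_HL : List ℕ := []
theorem ub0_head : ub0_C.head 8 iM R82 ub0_U ub0_HL 2 1 0 = true := by decide +kernel
theorem ub0_ok : ub0_C.StepsOK (2 + 0) 2 := SeqCert.StepsOK.refl _ _
noncomputable def ub0_r0 : List ℕ := [nat_lit 0xa, nat_lit 0xd]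
theorem ub0_final : ub0_C.final 8 2 (nat_lit 0x3) 2 [2] (ub0_r0) = true := by decide +kernel
theorem ub0 {G : Type*} [Group G] {g : ℕ → G} {H : Subgroup G} (hg : Sat g 8 iM R82)
    (hU : ∀ u ∈ ub0_U, wv g u ∈ H) (hL : ∀ l ∈ ub0_HL, g l ∈ H) :
    IdxLe H (Subgroup.closure {x | ∃ l ∈ ([2] : List ℕ), g l = x}) 2 :=
  SeqCert.idxLe_of_final hg hU hL ub0_head ub0_ok ub0_final
theorem up_ub0 {G : Type*} [Group G] {g : ℕ → G} (hg : Sat g 8 iM R82) :
    Finite (gL g [2]) ∧ Nat.card (gL g [2]) ≤ 2 :=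
  ((ub0 (H := ⊥) hg forall_mem_nil' forall_mem_nil').card_le (finite_card_bot)).imp id fun h => h.trans (by norm_num)

noncomputable def ub1_C : SeqCert := ⟨nat_lit 2, nat_lit 9, nat_lit 8, nat_lit 0x7070606050504040303020201010000, (NT.leaf (nat_lit 0) (nat_lit 0x5a020029054000)), (NT.leaf (nat_lit 16396) (nat_lit 0x50205020502))⟩
noncomputable def ub1_U : List (List ℕ) := []
noncomputable def ub1_HL : List ℕ := [2]
theorem ub1_head : ub1_C.head 8 iM R82 ub1_U ub1_HL 3 2 1 = true := by decide +kernel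
noncomputable def ub1_s0 : List ℕ := [nat_lit 0x20080c03028140001]
theorem ub1_ok0 : ub1_C.StepsOK 4 5 := (SeqCert.StepsOK.refl _ 4).step (L := ub1_s0) (by decide +kernel)
theorem ub1_ok : ub1_C.StepsOK (3 + 1) 5 := ub1_ok0
noncomputable def ub1_r0 : List ℕ := [nat_lit 0x12060, nat_lit 0x18049, nat_lit 0x44056]
theorem ub1_final : ub1_C.final 8 5 (nat_lit 0x7) 3 [2,5] (ub1_r0) = true := by decide +kernel
theorem ub1 {G : Type*} [Group G] {g : ℕ → G} {H : Subgroup G} (hg : Sat g 8 iM R82)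
    (hU : ∀ u ∈ ub1_U, wv g u ∈ H) (hL : ∀ l ∈ ub1_HL, g l ∈ H) :
    IdxLe H (Subgroup.closure {x | ∃ l ∈ ([2,5] : List ℕ), g l = x}) 3 :=
  SeqCert.idxLe_of_final hg hU hL ub1_head ub1_ok ub1_final
theorem up_ub1 {G : Type*} [Group G] {g : ℕ → G} (hg : Sat g 8 iM R82) :
    Finite (gL g [2,5]) ∧ Nat.card (gL g [2,5]) ≤ 6 :=
  ((ub1 hg forall_mem_nil' (forall_mem_gL g [2])).card_le (up_ub0 hg)).imp id fun h => h.trans (by norm_num)

noncomputable def ub2_C : SeqCert := ⟨nat_lit 2, nat_lit 9, nat_lit 8, nat_lit 0x7070606050504040303020201010000, (NT.leaf (nat_lit 0) (nat_lit 0x1b02f05a05002005d029014000)), (NT.node (nat_lit 1) (NT.leaf (nat_lit 32808) (nat_lit 0x502010205020102)) (NT.node (nat_lit 2) (NT.leaf (nat_lit 12) (nat_lit 0x20502050205)) (NT.leaf (nat_lit 24) (nat_lit 0x1020102050105))))⟩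
noncomputable def ub2_U : List (List ℕ) := []
noncomputable def ub2_HL : List ℕ := [2,5]
theorem ub2_head : ub2_C.head 8 iM R82 ub2_U ub2_HL 4 2 2 = true := by decide +kernel
noncomputable def ub2_s0 : List ℕ := [nat_lit 0x60102810030281804060283008070280408020402810030281c0003]
theorem ub2_ok0 : ub2_C.StepsOK 6 9 := (SeqCert.StepsOK.refl _ 6).step (L := ub2_s0) (by decide +kernel)
theorem ub2_ok : ub2_C.StepsOK (4 + 2) 9 := ub2_ok0
noncomputable def ub2_r0 : List ℕ := [nat_lit 0x28040024, nat_lit 0x1b024031, nat_lit 0x3202a11e, nat_lit 0x1d07610b]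
theorem ub2_final : ub2_C.final 8 9 (nat_lit 0xf) 4 [1,2,5] (ub2_r0) = true := by decide +kernel
theorem ub2 {G : Type*} [Group G] {g : ℕ → G} {H : Subgroup G} (hg : Sat g 8 iM R82)
    (hU : ∀ u ∈ ub2_U, wv g u ∈ H) (hL : ∀ l ∈ ub2_HL, g l ∈ H) :
    IdxLe H (Subgroup.closure {x | ∃ l ∈ ([1,2,5] : List ℕ), g l = x}) 4 :=
  SeqCert.idxLe_of_final hg hU hL ub2_head ub2_ok ub2_final
theorem up_ub2 {G : Type*} [Group G] {g : ℕ → G} (hg : Sat g 8 iM R82) :
    Finite (gL g [1,2,5]) ∧ Nat.card (gL g [1,2,5]) ≤ 24 :=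
  ((ub2 hg forall_mem_nil' (forall_mem_gL g [2,5])).card_le (up_ub1 hg)).imp id fun h => h.trans (by norm_num)

noncomputable def ub3_C : SeqCert := ⟨nat_lit 3, nat_lit 9, nat_lit 8, nat_lit 0x7070606050504040303020201010000, (NT.leaf (nat_lit 0) (nat_lit 0x13601b817605b4125019011b016c0920448089050008001000b402ac16205640510420000)), (NT.node (nat_lit 4) (NT.node (nat_lit 2) (NT.node (nat_lit 1) (NT.leaf (nat_lit 49160) (nat_lit 0x20405010504)) (NT.leaf (nat_lit 16388) (nat_lit 0x40104010401))) (NT.node (nat_lit 3) (NT.leaf (nat_lit 16404) (nat_lit 0x2010204020401)) (NT.leaf (nat_lit 8) (nat_lit 0x10504020405)))) (NT.node (nat_lit 6) (NT.node (nat_lit 5) (NT.leaf (nat_lit 16) (nat_lit 0x40504050405)) (NT.leaf (nat_lit 65544) (nat_lit 0x40501050402))) (NT.node (nat_lit 7) (NT.leaf (nat_lit 16396) (nat_lit 0x50205020502)) (NT.node (nat_lit 8) (NT.leaf (nat_lit 32788) (nat_lit 0x1020402040102)) (NT.leaf (nat_lit 65556)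 (nat_lit 0x4020401020102))))))⟩
noncomputable def ub3_U : List (List ℕ) := []
noncomputable def ub3_HL : List ℕ := [1,2,5]
theorem ub3_head : ub3_C.head 8 iM R82 ub3_U ub3_HL 7 3 3 = true := by decide +kernel
noncomputable def ub3_s0 : List ℕ := [nat_lit 0xc0f0344e2106818100c0f080141c058180e0c04060120d0281814060a01c1605030283806028240a05040583016048140606010480607028100c020800c0e05018100410018500a0601010040e018140a01010481c1201814000b]
theorem ub3_ok0 : ub3_C.StepsOK 10 21 := (SeqCert.StepsOK.refl _ 10).step (L := ub3_s0) (by decide +kernel)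
theorem ub3_ok : ub3_C.StepsOK (7 + 3) 21 := ub3_ok0
noncomputable def ub3_r0 : List ℕ := [nat_lit 0x480088400380, nat_lit 0x1980c0508111, nat_lit 0x22059061014a, nat_lit 0x1c87182a869b, nat_lit 0x2508683307a4, nat_lit 0x8a88202d89f5, nat_lit 0x930a303609ae]
theorem ub3_final : ub3_C.final 8 21 (nat_lit 0x7f) 7 [1,2,4,5] (ub3_r0) = true := by decide +kernel
theorem ub3 {G : Type*} [Group G] {g : ℕ → G} {H : Subgroup G} (hg : Sat g 8 iM R82)
    (hU : ∀ u ∈ ub3_U, wv g u ∈ H) (hL : ∀ l ∈ ub3_HL, g l ∈ H) :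
    IdxLe H (Subgroup.closure {x | ∃ l ∈ ([1,2,4,5] : List ℕ), g l = x}) 7 :=
  SeqCert.idxLe_of_final hg hU hL ub3_head ub3_ok ub3_final
theorem up_ub3 {G : Type*} [Group G] {g : ℕ → G} (hg : Sat g 8 iM R82) :
    Finite (gL g [1,2,4,5]) ∧ Nat.card (gL g [1,2,4,5]) ≤ 168 :=
  ((ub3 hg forall_mem_nil' (forall_mem_gL g [1,2,5])).card_le (up_ub2 hg)).imp id fun h => h.trans (by norm_num)

noncomputable def ub4_C : SeqCert := ⟨nat_lit 5, nat_lit 9, nat_lit 8, nat_lit 0x7070606050504040303020201010000, (NT.leaf (nat_lit 0) (nat_lit 0x1572025c80652034c808c60531801e6008180ca70069c0e28048c40951054c40a10057bc056b0372c0d8a04528154e02638052e05430110c0242408e70431804c6052940c640221014630408814000400008000100012470189c16060279811c50369405850459005440448c0503053880cc2022881481021840441030800000)), (NT.node (nat_lit 14) (NT.node (nat_lit 7) (NT.node (nat_lit 3) (NT.node (nat_lit 1) (NT.leaf (nat_lit 49152) (nat_lit 0x40304010301))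 (NT.node (nat_lit 2) (NT.leaf (nat_lit 49224) (nat_lit 0x502030205020302)) (NT.leaf (nat_lit 12) (nat_lit 0x20502050205)))) (NT.node (nat_lit 5) (NT.node (nat_lit 4) (NT.leaf (nat_lit 81948) (nat_lit 0x3050203020305)) (NT.leaf (nat_lit 32808) (nat_lit 0x502010205020102))) (NT.node (nat_lit 6) (NT.leaf (nat_lit 48) (nat_lit 0x103010301030103)) (NT.leaf (nat_lit 65588) (nat_lit 0x403040301030103))))) (NT.node (nat_lit 10) (NT.node (nat_lit 8) (NT.leaf (nat_lit 49173) (nat_lit 0x2010201040204)) (NT.node (nat_lit 9) (NT.leaf (nat_lit 21) (nat_lit 0x4020402010201)) (NT.leaf (nat_lit 98328) (nat_lit 0x5010201020501)))) (NT.node (nat_lit 12) (NT.node (nat_lit 11) (NT.leaf (nat_lit 4) (nat_lit 0x10401040104)) (NT.leaf (nat_lit 49160) (nat_lit 0x20405010504))) (NT.node (nat_lit 13) (NT.leaf (nat_lit 81928) (nat_lit 0x50105040204)) (NT.leaf (nat_lit 16) (nat_lit 0x40504050405)))))) (NT.node (nat_lit 21) (NT.node (nat_lit 17)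 (NT.node (nat_lit 15) (NT.leaf (nat_lit 98361) (nat_lit 0x301040104030104)) (NT.node (nat_lit 16) (NT.leaf (nat_lit 49209) (nat_lit 0x301040301040104)) (NT.leaf (nat_lit 16392) (nat_lit 0x50402040501)))) (NT.node (nat_lit 19) (NT.node (nat_lit 18) (NT.leaf (nat_lit 16408) (nat_lit 0x2010205010501)) (NT.leaf (nat_lit 16444) (nat_lit 0x402040105010501))) (NT.node (nat_lit 20) (NT.leaf (nat_lit 16456) (nat_lit 0x302050203020502)) (NT.leaf (nat_lit 16384) (nat_lit 0x30104030401))))) (NT.node (nat_lit 24) (NT.node (nat_lit 22) (NT.leaf (nat_lit 14) (nat_lit 0x303)) (NT.node (nat_lit 23) (NT.leaf (nat_lit 32797) (nat_lit 0x5030203020503)) (NT.leaf (nat_lit 10) (nat_lit 0x202)))) (NT.node (nat_lit 26) (NT.node (nat_lit 25) (NT.leaf (nat_lit 22) (nat_lit 0x505)) (NT.leaf (nat_lit 65536) (nat_lit 0x30401030104))) (NT.node (nat_lit 27) (NT.leaf (nat_lit 0) (nat_lit 0x10301040304)) (NT.leaf (nat_lit 16400) (nat_lit 0x50405040504)))))))⟩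
noncomputable def ub4_U : List (List ℕ) := []
noncomputable def ub4_HL : List ℕ := [1,2,4,5]
theorem ub4_head : ub4_C.head 8 iM R82 ub4_U ub4_HL 19 5 4 = true := by decide +kernel
noncomputable def ub4_s0 : List ℕ := [nat_lit 0x901c2f0485c0a1b1203808090b8141624308748a6a0286848232e04026050c9943c020b98c40020c18ca8620f8102e0c078f4c20a068840e162f86804151196cb8400c06c0c141f158b24d23124b007098881c0404854945803848440e02024641503044440e1781c2605080803e520f0840a020f0301636050343e07008582a4a0a05c0a0a0b05494141a84c880707928283509910381903838901c1b074920506870142f048540a0c0e0d8324320014161c0c9042013028283036050100e1103024300a0201c263f030202406170100e110301c1c0b1b0281e050103008021300c5c0d0381818040109806050681c0a0a0201c60060282c0e04040085003038c00c030401c6006048140406010a058280181c0e01020084c2a018140022]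
theorem ub4_ok0 : ub4_C.StepsOK 23 57 := (SeqCert.StepsOK.refl _ 23).step (L := ub4_s0) (by decide +kernel)
theorem ub4_ok : ub4_C.StepsOK (19 + 4) 57 := ub4_ok0
noncomputable def ub4_r0 : List ℕ := [nat_lit 0xb002a0008228009800, nat_lit 0x2082f100c006181041, nat_lit 0x38e2e0830c0a281422, nat_lit 0xc061248d4807084103, nat_lit 0x2421658d0632205144, nat_lit 0xd8a1c7184e0b106185, nat_lit 0x198c3a303446830e0c6, nat_lit 0x3c4249180a3c388a27, nat_lit 0x10d841617223f484468, nat_lit 0x15e21319ae43e4115c9, nat_lit 0x125c4a513185988548a, nat_lit 0x1c64172139c6f91416b, nat_lit 0x10904041354477064ac, nat_lit 0x12141d293d64661112e, nat_lit 0x15925a8975058508cf1, nat_lit 0x1c162539a926e59b252]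
theorem ub4_final : ub4_C.final 8 57 (nat_lit 0x65fff) 16 [1,2,3,4,5] (ub4_r0) = true := by decide +kernel
theorem ub4 {G : Type*} [Group G] {g : ℕ → G} {H : Subgroup G} (hg : Sat g 8 iM R82)
    (hU : ∀ u ∈ ub4_U, wv g u ∈ H) (hL : ∀ l ∈ ub4_HL, g l ∈ H) :
    IdxLe H (Subgroup.closure {x | ∃ l ∈ ([1,2,3,4,5] : List ℕ), g l = x}) 16 :=
  SeqCert.idxLe_of_final hg hU hL ub4_head ub4_ok ub4_final
theorem up_ub4 {G : Type*} [Group G] {g : ℕ → G} (hg : Sat g 8 iM R82) :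
    Finite (gL g [1,2,3,4,5]) ∧ Nat.card (gL g [1,2,3,4,5]) ≤ 2688 :=
  ((ub4 hg forall_mem_nil' (forall_mem_gL g [1,2,4,5])).card_le (up_ub3 hg)).imp id fun h => h.trans (by norm_num)

variable {G : Type*} [Group G]

theorem P8_sat : Sat P8.m 8 iM R8 := PM.sat P8_ok (by decide +kernel)

theorem sat_of_emb {M : Type*} [Group M] {m : ℕ → M} {g : ℕ → G} (h : Emb m g) {k : ℕ} {ι : ℕ → ℕ}
    {R : List (List ℕ)} (hm : Sat m k ι R) : Sat g k ι R := by
  obtain ⟨H, hH, φ, -, e⟩ := h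
  have : Sat (fun l => (⟨m l, hH l⟩ : H)) k ι R :=
    ⟨Subtype.ext hm.zero, fun l hl => Subtype.ext (hm.inv l hl), fun r hr => Subtype.ext
      ((wv_map H.subtype _ r).symm.trans (hm.rel r hr))⟩
  simpa only [e] using this.map φ

/-- keep only the letters of `Ls` -/
def kp (Ls : List ℕ) (g : ℕ → G) (l : ℕ) : G := if l ∈ Ls then g l else 1

theorem wv_kp {Ls W : List ℕ} (g : ℕ → G) (h : ∀ l ∈ W, l ∈ Ls) : wv (kp Ls g) W = wv g W :=
  wv_congr fun l hl => if_pos (h l hl)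

theorem sub_kp {Ls : List ℕ} {W : List (List ℕ)} (g : ℕ → G) (h : ∀ L ∈ W, ∀ l ∈ L, l ∈ Ls) :
    sub (kp Ls g) W = sub g W := by
  rw [sub, sub, List.map_congr_left fun L hL => wv_kp g (h L hL)]

theorem emb_kp {M : PM} [NeZero M.n] {g : ℕ → G} {Ls : List ℕ} {N : ℕ}
    (hΓ : Finite (gL (fun l => (M.m l, g l)) Ls) ∧ Nat.card (gL (fun l => (M.m l, g l)) Ls) ≤ N)
    (hm : N ≤ Nat.card (sub M.m (Ls.map fun l => [l])))
    (hc : N ≤ Nat.card (sub g (Ls.map fun l => [l])))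
    (h : M.ok = true) (h1 : ∀ l < M.cs.length, l ∈ Ls ∨ M.cs.getD l 0 = one M.w M.n) :
    Emb M.m (kp Ls g) := by
  rw [sub_letters] at hm hc
  have := emb_words hΓ hm hc (W := fun l => if l ∈ Ls then [l] else []) fun l a ha => by
    split_ifs at ha with hl
    · rwa [List.mem_singleton.1 ha]
    · simp at ha
  convert this using 2 with l l
  · split_ifs with hl
    · simp
    · refine ((PM.den h l).eq_iff (PM.ctx h) (den_one (PM.ctx h))).2 ?_
      rw [nth_eq]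
      by_cases a : l < M.cs.length
      · rw [← (h1 l a).resolve_left hl, List.getD_eq_getElem _ _ a, List.getD_eq_getElem _ _ a]
      · exact List.getD_eq_default _ _ (not_lt.1 a)
  · rw [kp]; split_ifs <;> simp

theorem emb_Q1 {g : ℕ → G} (h : Emb P8.m g) : Emb Q1.m (kp [1, 2, 3, 5, 6] g) :=
  emb_kp (up_ua4 ((PM.sat Q1_ok (by decide +kernel)).prod
    ((sat_of_emb h P8_sat).sub (by decide +kernel)))) Q1_low (P8_lowQ1.trans (h.card _).ge) Q1_ok
    (by decide +kernel)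

theorem emb_Q2 {g : ℕ → G} (h : Emb P8.m g) : Emb Q2.m (kp [1, 2, 3, 4, 5] g) :=
  emb_kp (up_ub4 ((PM.sat Q2_ok (by decide +kernel)).prod
    ((sat_of_emb h P8_sat).sub (by decide +kernel)))) Q2_low (P8_lowQ2.trans (h.card _).ge) Q2_ok
    (by decide +kernel)

end Cfsg.Lib.LyT
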